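import Cfsg.Agent.Lib.Transfer.Thompson
import Mathlib.GroupTheory.PGroup

/-!
The transfer of an involution into signs is a product over the cosets fixed by a `2`-group
centralising it, and its reading on the conjugates of an involution when the subgroup is its centraliser.
-/

set_option autoImplicit false
set_option linter.unusedSectionVars false
set_option linter.style.haveILetI false

namespace CfsgLib.USixTwo

variable {G : Type*} [Group G] [Finite G]

theorem unit_prod {ι : Type*} (s : Finset ι) (f : ι → ℤˣ) :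
    ∏ i ∈ s, f i = (-1) ^ (s.filter fun i => f i = -1).card := by
  classical
  rw [← Finset.prod_filter_mul_prod_filter_not s (fun i => f i = -1)]
  rw [Finset.prod_congr rfl (fun i hi => (Finset.mem_filter.1 hi).2),
    Finset.prod_eq_one (s := s.filter fun i => ¬ f i = -1)
      (fun i hi => (Int.units_eq_one_or (f i)).resolve_right (Finset.mem_filter.1 hi).2),
    mul_one, Finset.prod_const]

open Classical in
/-- Only fixed cosets count when the square gives no sign. -/
theorem transfer_sq_trivial {H : Subgroup G} [Fintype (G ⧸ H)] (φ : H →* ℤˣ) {u : G}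
    (h4 : u * u * (u * u) = 1) (h2 : ∀ g : G, ∀ h : g⁻¹ * (u * u) * g ∈ H, φ ⟨_, h⟩ = 1) :
    MonoidHom.transfer φ u =
      ∏ q ∈ (Finset.univ : Finset (G ⧸ H)).filter (fun q => u • q = q),
        if h : q.out⁻¹ * u * q.out ∈ H then φ ⟨_, h⟩ else 1 := by
  haveI : H.FiniteIndex := inferInstance
  rw [MonoidHom.transfer_eq_prod_quotient_orbitRel_zpowers_quot]
  set Ω := Quotient (MulAction.orbitRel (Subgroup.zpowers u) (G ⧸ H))
  set per : Ω → ℕ := fun o => Function.minimalPeriod (u • ·) o.out with hper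
  rw [← Finset.prod_filter_mul_prod_filter_not (Finset.univ : Finset Ω) (fun o => per o = 1)]
  have hp4 : ∀ o, per o ∣ 4 := fun o => Function.IsPeriodicPt.minimalPeriod_dvd (by
    show (u • ·)^[4] o.out = o.out
    rw [smul_iterate]
    show u ^ 4 • o.out = o.out
    rw [show u ^ 4 = u * u * (u * u) by simp only [pow_succ, pow_zero, one_mul, mul_assoc], h4, one_smul])
  rw [Finset.prod_eq_one (s := (Finset.univ : Finset Ω).filter fun o => ¬ per o = 1), mul_one]
  · refine Finset.prod_bij (fun o _ => o.out) (fun o ho => ?_) (fun a _ b _ e => ?_) (fun q hq => ?_) (fun o ho => ?_)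
    · exact Finset.mem_filter.2 ⟨Finset.mem_univ _, Function.minimalPeriod_eq_one_iff_isFixedPt.1 (Finset.mem_filter.1 ho).2⟩
    · exact Quotient.out_injective e
    · have hq' := (Finset.mem_filter.1 hq).2
      obtain ⟨k, hk⟩ : ∃ k : Subgroup.zpowers u, k • q = (Quotient.mk'' q : Ω).out := by
        have := Quotient.mk_out' (s₁ := MulAction.orbitRel (Subgroup.zpowers u) (G ⧸ H)) q
        exact MulAction.mem_orbit_iff.1 this
      have hfix : k • q = q := (Subgroup.zpowers_le.2 (MulAction.mem_stabilizer_iff.2 hq') :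
        Subgroup.zpowers u ≤ MulAction.stabilizer G q) k.2
      rw [hfix] at hk
      refine ⟨Quotient.mk'' q, Finset.mem_filter.2 ⟨Finset.mem_univ _, ?_⟩, hk.symm⟩
      rw [hper, Function.minimalPeriod_eq_one_iff_isFixedPt, ← hk]
      exact hq'
    · have h1 : per o = 1 := (Finset.mem_filter.1 ho).2
      have hf : u • o.out = o.out := Function.minimalPeriod_eq_one_iff_isFixedPt.1 h1
      rw [dif_pos (CfsgLib.Transfer.mem_of_smul_eq hf)]
      refine congrArg φ (Subtype.ext ?_)
      show o.out.out⁻¹ * u ^ per o * o.out.out = _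
      rw [h1, pow_one]
  · intro o ho
    have h1 := (Finset.mem_filter.1 ho).2
    have hev : per o = 2 ∨ per o = 4 := by
      have h := hp4 o
      have hle := Nat.le_of_dvd (by norm_num) h
      interval_cases hh : per o <;> simp_all
    rcases hev with e | e
    · have hm : o.out.out⁻¹ * (u * u) * o.out.out ∈ H := by
        have := QuotientGroup.out_conj_pow_minimalPeriod_mem H u o.out
        rw [show Function.minimalPeriod (u • ·) o.out = 2 from e, pow_two] at this
        exact this
      refine (congrArg φ (Subtype.ext ?_)).trans (h2 _ hm)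
      show o.out.out⁻¹ * u ^ per o * o.out.out = _
      rw [e, pow_two]
    · refine (congrArg φ (Subtype.ext ?_)).trans φ.map_one
      show o.out.out⁻¹ * u ^ per o * o.out.out = 1
      rw [e, show u ^ 4 = u * u * (u * u) by simp only [pow_succ, pow_zero, one_mul, mul_assoc], h4]
      group

open Classical in
/-- Only the cosets fixed by a `2`-group centralising the element count. -/
theorem transfer_fixed {H : Subgroup G} [Fintype (G ⧸ H)] (φ : H →* ℤˣ) {u : G}
    (h4 : u * u * (u * u) = 1) (h2 : ∀ g : G, ∀ h : g⁻¹ * (u * u) * g ∈ H, φ ⟨_, h⟩ = 1)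
    (D : Subgroup G) (hD : IsPGroup 2 D) (hDu : ∀ d ∈ D, d * u = u * d) :
    MonoidHom.transfer φ u =
      ∏ q ∈ (Finset.univ : Finset (G ⧸ H)).filter (fun q => u • q = q ∧ ∀ d ∈ D, d • q = q),
        if h : q.out⁻¹ * u * q.out ∈ H then φ ⟨_, h⟩ else 1 := by
  haveI : H.FiniteIndex := inferInstance
  haveI : Fact (Nat.Prime 2) := ⟨Nat.prime_two⟩
  rw [transfer_sq_trivial φ h4 h2]
  set f : G ⧸ H → ℤˣ := fun q => if h : q.out⁻¹ * u * q.out ∈ H then φ ⟨_, h⟩ else 1 with hf
  show ∏ q ∈ _, f q = ∏ q ∈ _, f q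
  rw [unit_prod, unit_prod]
  let S : Type _ := {q : G ⧸ H // u • q = q ∧ f q = -1}
  have hinv : ∀ d ∈ D, ∀ q : G ⧸ H, u • q = q → u • (d • q) = d • q ∧ f (d • q) = f q := by
    intro d hd q hq
    have hq' : u • (d • q) = d • q := by rw [smul_smul, ← hDu d hd, ← smul_smul, hq]
    refine ⟨hq', ?_⟩
    have m1 := CfsgLib.Transfer.mem_of_smul_eq hq
    have m2 := CfsgLib.Transfer.mem_of_smul_eq hq'
    obtain ⟨h, hh⟩ : ∃ h : H, (d • q).out = d * q.out * h := by
      have e : ((d • q).out : G ⧸ H) = ((d * q.out : G) : G ⧸ H) := by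
        rw [QuotientGroup.out_eq', ← smul_eq_mul, ← MulAction.Quotient.smul_mk, QuotientGroup.out_eq']
      refine ⟨⟨(d * q.out)⁻¹ * (d • q).out, QuotientGroup.eq.1 e.symm⟩, ?_⟩
      show (d • q).out = d * q.out * ((d * q.out)⁻¹ * (d • q).out)
      group
    simp only [hf, dif_pos m1, dif_pos m2]
    have e2 : (⟨(d • q).out⁻¹ * u * (d • q).out, m2⟩ : H) = h⁻¹ * ⟨q.out⁻¹ * u * q.out, m1⟩ * h := by
      apply Subtype.ext
      show (d • q).out⁻¹ * u * (d • q).out = (h : G)⁻¹ * (q.out⁻¹ * u * q.out) * h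
      rw [hh]
      calc (d * q.out * (h : G))⁻¹ * u * (d * q.out * h)
          = (h : G)⁻¹ * (q.out⁻¹ * (d⁻¹ * (u * d)) * q.out) * h := by group
        _ = _ := by rw [← hDu d hd]; group
    rw [e2, map_mul, map_mul, map_inv, mul_comm, ← mul_assoc, mul_inv_cancel, one_mul]
  let act : MulAction D S :=
    { smul := fun d q => ⟨(d : G) • q.1, (hinv d d.2 q.1 q.2.1).1,
        ((hinv d d.2 q.1 q.2.1).2).trans q.2.2⟩
      one_smul := fun q => Subtype.ext (one_smul G q.1)
      mul_smul := fun a b q => Subtype.ext (mul_smul (a : G) (b : G) q.1) }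
  letI := act
  have key := hD.card_modEq_card_fixedPoints S
  set A := ((Finset.univ : Finset (G ⧸ H)).filter fun q => u • q = q).filter fun q => f q = -1 with hA
  set B := ((Finset.univ : Finset (G ⧸ H)).filter fun q => u • q = q ∧ ∀ d ∈ D, d • q = q).filter
    fun q => f q = -1 with hB
  have cA : Nat.card S = A.card := by
    rw [← Nat.card_eq_finsetCard]
    exact Nat.card_congr (Equiv.subtypeEquivRight fun q => by simp [hA])
  have cB : Nat.card (MulAction.fixedPoints D S) = B.card := by
    rw [← Nat.card_eq_finsetCard]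
    refine Nat.card_congr
      { toFun := fun q => ⟨q.1.1, ?_⟩
        invFun := fun q => ⟨⟨q.1, ?_, ?_⟩, fun d => ?_⟩
        left_inv := fun q => rfl
        right_inv := fun q => rfl }
    · simp only [hB, Finset.mem_filter, Finset.mem_univ, true_and]
      exact ⟨⟨q.1.2.1, fun d hd => congrArg Subtype.val (q.2 ⟨d, hd⟩)⟩, q.1.2.2⟩
    · have := q.2; simp only [hB, Finset.mem_filter, Finset.mem_univ, true_and] at this; exact this.1.1
    · have := q.2; simp only [hB, Finset.mem_filter, Finset.mem_univ, true_and] at this; exact this.2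
    · have := q.2; simp only [hB, Finset.mem_filter, Finset.mem_univ, true_and] at this
      exact Subtype.ext (this.1.2 d d.2)
  rw [cA, cB] at key
  rw [Int.units_pow_eq_pow_mod_two, Int.units_pow_eq_pow_mod_two (-1) B.card, key]

open Classical in
/-- Signs through the conjugates of `z`: if none but `z` centralised by `D` and `u` gives a sign,
the transfer is the sign. -/
theorem transfer_centralizer {z u : G} (φ : Subgroup.centralizer ({z} : Set G) →* ℤˣ)
    (h4 : u * u * (u * u) = 1)
    (h2 : ∀ g : G, ∀ h : g⁻¹ * (u * u) * g ∈ Subgroup.centralizer ({z} : Set G), φ ⟨_, h⟩ = 1)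
    (huz : u ∈ Subgroup.centralizer ({z} : Set G)) (D : Subgroup G) (hD : IsPGroup 2 D)
    (hDz : D ≤ Subgroup.centralizer ({z} : Set G)) (hDu : ∀ d ∈ D, d * u = u * d)
    (hK : ∀ g : G, g * z * g⁻¹ ≠ z → u * (g * z * g⁻¹) = g * z * g⁻¹ * u →
      (∀ d ∈ D, d * (g * z * g⁻¹) = g * z * g⁻¹ * d) →
      ∀ h : g⁻¹ * u * g ∈ Subgroup.centralizer ({z} : Set G), φ ⟨_, h⟩ = 1) :
    MonoidHom.transfer φ u = φ ⟨u, huz⟩ := by
  haveI := Fintype.ofFinite (G ⧸ Subgroup.centralizer ({z} : Set G))
  have hcom : ∀ {x g : G}, g⁻¹ * x * g ∈ Subgroup.centralizer ({z} : Set G) → x * (g * z * g⁻¹) = g * z * g⁻¹ * x := fun {x g} h => by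
    have h' := Subgroup.mem_centralizer_singleton_iff.1 h
    calc x * (g * z * g⁻¹) = g * (g⁻¹ * x * g * z) * g⁻¹ := by group
      _ = g * (z * (g⁻¹ * x * g)) * g⁻¹ := by rw [h']
      _ = _ := by group
  rw [transfer_fixed φ h4 h2 D hD hDu]
  have h1 : ∀ x ∈ Subgroup.centralizer ({z} : Set G), x • ((1 : G) : G ⧸ Subgroup.centralizer ({z} : Set G)) = ((1 : G) : G ⧸ Subgroup.centralizer ({z} : Set G)) := fun x hx => by
    rw [MulAction.Quotient.smul_mk, smul_eq_mul, mul_one, QuotientGroup.eq, mul_one]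
    exact (Subgroup.centralizer ({z} : Set G)).inv_mem hx
  rw [Finset.prod_eq_single ((1 : G) : G ⧸ Subgroup.centralizer ({z} : Set G))]
  · have m := CfsgLib.Transfer.mem_of_smul_eq (h1 u huz)
    rw [dif_pos m]
    set o := ((1 : G) : G ⧸ Subgroup.centralizer ({z} : Set G)).out with ho
    have hoH : o ∈ Subgroup.centralizer ({z} : Set G) := by
      have := QuotientGroup.eq.1 (QuotientGroup.out_eq' ((1 : G) : G ⧸ Subgroup.centralizer ({z} : Set G))).symm
      simpa using this
    have e : (⟨o⁻¹ * u * o, m⟩ : Subgroup.centralizer ({z} : Set G)) = ⟨o, hoH⟩⁻¹ * ⟨u, huz⟩ * ⟨o, hoH⟩ := Subtype.ext rfl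
    rw [e, map_mul, map_mul, map_inv, mul_comm, ← mul_assoc, mul_inv_cancel, one_mul]
  · intro q hq hq1
    obtain ⟨hqu, hqd⟩ := (Finset.mem_filter.1 hq).2
    have m := CfsgLib.Transfer.mem_of_smul_eq hqu
    rw [dif_pos m]
    refine hK q.out (fun he => hq1 ?_) (hcom m) (fun d hd => hcom (CfsgLib.Transfer.mem_of_smul_eq (hqd d hd))) m
    rw [← QuotientGroup.out_eq' q, QuotientGroup.eq, mul_one]
    refine (Subgroup.centralizer ({z} : Set G)).inv_mem (Subgroup.mem_centralizer_singleton_iff.2 ?_)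
    exact mul_inv_eq_iff_eq_mul.1 he
  · intro h
    exact absurd (Finset.mem_filter.2 ⟨Finset.mem_univ _, h1 u huz, fun d hd => h1 d (hDz hd)⟩) h

end CfsgLib.USixTwo
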