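import Cfsg.Agent.Lib.USixTwo.Mirror
import Cfsg.Agent.Lib.USixType.CaseB

/-!
With a fixed plane the involution is isolated in its centraliser.
-/

set_option autoImplicit false
set_option linter.unusedSectionVars false
set_option linter.style.haveILetI false
set_option maxRecDepth 100000

open Cfsg CfsgLib.Extraspecial CfsgLib.USixType

namespace CfsgLib.USixTwo

/-- Test vectors. -/
def ptsC : List V8 := [8, 38, 64, 65, 80, 106, 122, 197]

/-- A commutator witness: matrix, signs, word and signs of a commuting element, moved vector, translations. -/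
structure CW where
  M : Lin
  d : V8
  w : List (Fin 5)
  dc : V8
  x : V8
  us : List V8

/-- The witness for the outer involutions without anisotropic fixed lines. -/
def commW : CW :=
  ⟨sgB1, 21, [3, 2, 1], 20, 5, [0, 2, 8, 10, 32, 34, 40, 42, 64, 66, 72, 74, 96, 98, 104, 106]⟩

/-- Their conjugations into one of them. -/
def conjT : List (Lin × List (Fin 5)) :=
[
  (⟨1, 3, 4, 12, 16, 48, 128, 64⟩, []),
  (⟨4, 12, 1, 3, 16, 48, 128, 64⟩, [0, 4, 2, 3, 0, 2, 0, 4, 3, 2, 0, 2, 3, 0]),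
  (⟨4, 29, 1, 23, 16, 53, 128, 64⟩, [0, 4, 0, 2, 1]),
  (⟨4, 8, 1, 2, 16, 48, 128, 64⟩, [0, 2, 0, 4, 3, 0, 2, 0, 4, 3, 2, 0]),
  (⟨4, 25, 1, 22, 16, 53, 128, 64⟩, [0, 4, 0, 2, 3]),
  (⟨1, 22, 4, 25, 16, 53, 128, 64⟩, [0, 4, 2, 3, 0, 2, 0, 0, 4, 3, 2, 0, 0]),
  (⟨1, 23, 4, 25, 16, 37, 128, 64⟩, [0, 4, 2, 3, 1, 2, 0, 4, 2, 3, 0, 2, 0, 0]),
  (⟨1, 22, 4, 29, 16, 37, 128, 64⟩, [0, 4, 2, 3, 0, 0, 2, 0, 4, 3, 2, 0, 0]),
  (⟨1, 55, 4, 57, 21, 37, 128, 64⟩, [0, 2, 3, 1, 2, 0, 4, 0, 2]),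
  (⟨1, 38, 4, 45, 21, 32, 128, 64⟩, [0, 4, 2, 3, 1, 2, 0, 4, 3, 0]),
  (⟨1, 54, 4, 61, 21, 37, 128, 64⟩, [0, 2, 3, 1, 2, 0, 4, 0]),
  (⟨1, 39, 4, 41, 21, 32, 128, 64⟩, [0, 2, 3, 1, 2, 0, 4, 0, 2, 3, 1])]

/-- A fixed anisotropic line. -/
def aniC (β : V8 → V8 → Bool) (L : Lin) : Bool :=
  ptsC.any fun u => ptsC.any fun v =>
    app L u == u && app L v == v && qq β u && qq β v && qq β (xr u v)

/-- The witness is valid. -/
def cwOK (β : V8 → V8 → Bool) (e : CW) : Bool :=
  let c : PR := ⟨linW wL e.w, e.dc⟩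
  let p : PR := ⟨e.M, e.d⟩
  let c2 := pmul β c c
  decide (pmul β c p = pmul β p c) && app e.M e.x == e.x && !p.f β e.x &&
    app c2.M e.x == e.x && c2.f β e.x

/-- An outer involution is conjugate to a standard one or has an anisotropic line. -/
def outerB (β : V8 → V8 → Bool) (σ : Lin) : Bool :=
  (plist wL (sylPg wL)).all fun L =>
    let M := comp L σ
    !decide (comp M M = idL) || aniC β M ||
      conjT.any fun e => decide (e.1 = M) &&
        decide (comp (linW wL e.2) (comp M (linW wL (invW e.2))) = sgB1)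

/-- The standard one has a witness for all signs. -/
def signB (β : V8 → V8 → Bool) : Bool :=
  (List.finRange 256).all fun d =>
    let p : PR := ⟨sgB1, d⟩
    !decide (pmul β p p = pone) ||
      ((ptsB ++ ptsC).any fun w => app sgB1 w == w && qq β w && !p.f β w) ||
      commW.us.any fun u => decide (cjU β u p = ⟨sgB1, commW.d⟩)

/-- An element of order four moves a fixed point of its square along a singular vector. -/
def qTest (β : V8 → V8 → Bool) (L : Lin) : Bool :=
  decide (comp L L = idL) || !decide (comp (comp L L) (comp L L) = idL) ||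
    ptsB.any fun w => app L (app L w) == w && app L w != w && !qq β (xr (app L w) w)

theorem outerB_ok : (outerB bA sgB0 = true ∧ outerB bA sgB1 = true) ∧
    (outerB bD sgB0 = true ∧ outerB bD sgB1 = true) := by
  decide +kernel

theorem commW_ok : cwOK bA commW = true ∧ cwOK bD commW = true := by decide +kernel

set_option maxHeartbeats 4000000 in
theorem signB_A : signB bA = true := by decide +kernel

set_option maxHeartbeats 4000000 in
theorem signB_D : signB bD = true := by decide +kernel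

theorem qTest_ok : ([sgB0, sgB1].all fun s => (sylL wL s).all (qTest bA)) = true ∧
    ([sgB0, sgB1].all fun s => (sylL wL s).all (qTest bD)) = true := by
  decide +kernel

theorem top_sg : app sgB0 192 = 192 ∧ app sgB1 192 = 192 := by decide +kernel

theorem PR.ext' {β : V8 → V8 → Bool} {p q : PR} (hM : p.M = q.M) (h : ∀ v, p.f β v = q.f β v) : p = q := by
  have hb : ∀ d : V8, bitsV (fun i => linD d (un i)) = d := by decide +kernel
  have e : ∀ (r : PR) (i : Fin 8), r.f β (un i) = linD r.d (un i) := fun r i => by simp [PR.f, af, lowG_units]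
  cases p with
  | mk M d =>
    cases q with
    | mk M' d' =>
      change M = M' at hM
      subst hM
      rw [← hb d, ← hb d', show (fun i => linD d (un i)) = fun i => linD d' (un i) from
        funext fun i => ((e ⟨M, d⟩ i).symm.trans (h (un i))).trans (e ⟨M, d'⟩ i)]

namespace Fr

variable {G : Type*} [Group G] [Finite G] {z : G} {Q : Subgroup G} {π : ↥(Cz z) →* MulAut G4}
  {β : V8 → V8 → Bool} {S : Fin 5 → Lin} {σ : Lin} (F : Fr z Q π β S σ) (H : Two z Q π)
include F H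

theorem act_eq_pair {x : G} {p q : PR} (hp : F.C.Act x p) (hq : F.C.Act x q) : p = q :=
  PR.ext' (F.C.act_unique hp hq).1 (F.C.act_unique hp hq).2

/-- An inner element outside `Q` moves `Q/⟨z⟩`. -/
theorem inner_ne_id {x : G} (hx : x ∈ inn π) (hQ : x ∉ Q) {p : PR} (hp : F.C.Act x p) : p.M ≠ idL := by
  obtain ⟨hxC, g, hg⟩ := H.mem_inn.1 hx
  obtain ⟨d, hd⟩ := F.inner x hxC g hg
  rw [F.act_eq_pair H hp hd]
  intro e
  have : g = 1 := F.M.inj (e.trans F.M.one.symm)
  rw [this, map_one] at hg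
  exact hQ ((H.aut_eq_one hxC).1 hg)

variable (hK : Kind β S σ) (hW : S = wL)
include hK hW

theorem kindB : (β = bA ∨ β = bD) ∧ (σ = sgB0 ∨ σ = sgB1) := by
  rcases hK with ⟨-, h, -⟩ | ⟨h, -, h'⟩ | ⟨h, -, h'⟩ | ⟨h, -, h'⟩ | ⟨h, -, h'⟩
  · exact absurd (congrFun (h.symm.trans hW) 0) (by decide +kernel)
  all_goals simp [h, h']

theorem qtop : qq β 192 = true := by
  rcases (F.kindB H hK hW).1 with rfl | rfl
  exacts [top_q.1, top_q.2]

theorem fix192 {x : G} (hx : x ∈ Cz z) : ∃ d, x * F.C.j 192 false * x⁻¹ = F.C.j 192 d ∧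
    ∀ b, x * F.C.j 192 b * x⁻¹ = F.C.j 192 (b ^^ d) := by
  subst hW
  have hL : ∀ g : G4, app (F.M.L g) 192 = 192 := by
    intro g
    have hg : g ∈ Subgroup.closure (Set.range gen) := by rw [gen_top]; exact Subgroup.mem_top g
    rw [← Subgroup.mem_toSubmonoid, Subgroup.closure_toSubmonoid_of_finite] at hg
    induction hg using Submonoid.closure_induction with
    | mem x hx => obtain ⟨k, rfl⟩ := hx; rw [F.M.gen_eq]; exact wL_top k
    | one => rw [F.M.one, id_app]
    | mul x y _ _ hx hy => rw [F.M.mul, app_comp, hy, hx]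
  obtain ⟨p, hp, hM⟩ : ∃ p, F.C.Act x p ∧ app p.M 192 = 192 := by
    obtain ⟨g, ⟨hg, -⟩ | ⟨hg, -⟩⟩ := F.act_cases H hx
    · obtain ⟨d, hd⟩ := F.inner x hx g hg
      exact ⟨_, hd, hL g⟩
    · obtain ⟨d, hd⟩ := F.outer_act H hx hg
      refine ⟨_, hd, ?_⟩
      show app (comp (F.M.L g) σ) 192 = 192
      rcases (F.kindB H hK rfl).2 with rfl | rfl <;> rw [app_comp]
      · rw [top_sg.1, hL]
      · rw [top_sg.2, hL]
  refine ⟨p.f β 192, ?_, fun b => by rw [hp, hM]⟩
  rw [hp, hM, Bool.false_xor]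

/-- The mirror of a conjugate is inner, and a square if the conjugate is inner. -/
theorem mirrorB {g : G} (ha : g * z * g⁻¹ ∈ Cz z) (hne : g * z * g⁻¹ ≠ z) :
    g⁻¹ * z * g ∈ inn π ∧ (g * z * g⁻¹ ∈ inn π → ∃ y ∈ Cz z, y * y = g⁻¹ * z * g) := by
  subst hW
  have haa : g * z * g⁻¹ * (g * z * g⁻¹) = 1 := (H.st.conj g).zz
  obtain ⟨h, hh, p, hp, hcase⟩ := F.conj_syl_act H hK ha (n := 1) (by
    rw [pow_one, pow_two, ← H.aut_mul ha ha, haa, H.aut_Q Q.one_mem])
  have hb : h * (g * z * g⁻¹) * h⁻¹ = h * g * z * (h * g)⁻¹ := by group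
  rw [hb] at hp
  have hmir : (h * g)⁻¹ * z * (h * g) = g⁻¹ * z * g := by
    calc (h * g)⁻¹ * z * (h * g) = g⁻¹ * (h⁻¹ * (z * h)) * g := by group
      _ = g⁻¹ * (h⁻¹ * (h * z)) * g := by rw [mem_Cz.1 hh]
      _ = _ := by group
  have hp2 : pmul β p p = pone := by
    refine F.act_eq_pair H (F.C.act_mul hp hp) ?_
    rw [(H.st.conj (h * g)).zz]; exact F.C.act_one
  have hM2 : comp p.M p.M = idL := congrArg PR.M hp2
  have bysq : ∀ {y : G}, y * (h * g * z * (h * g)⁻¹) = h * g * z * (h * g)⁻¹ * y → y * y = z →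
      g⁻¹ * z * g ∈ inn π ∧ ∃ y ∈ Cz z, y * y = g⁻¹ * z * g := fun h1 h2 => by
    rw [← hmir]; exact F.mirror_sq H h1 h2
  obtain ⟨hβ, hσ⟩ := F.kindB H hK rfl
  rcases hcase with ⟨hmem, hi⟩ | ⟨hmem, ho⟩
  · -- inner
    have hb' : h * g * z * (h * g)⁻¹ ∈ inn π := hb ▸ H.inn_conj hh hi
    have hnQ : h * g * z * (h * g)⁻¹ ∉ Q := fun hq => by
      have := F.weakly_closed H hK _ hq
      apply hne
      rw [← hb] at this
      calc g * z * g⁻¹ = h⁻¹ * (h * (g * z * g⁻¹) * h⁻¹) * h := by group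
        _ = h⁻¹ * (z * h) := by rw [this]; group
        _ = z := by rw [← mem_Cz.1 hh]; group
    have htest : aniTest β ptsB p.M = true := by
      rcases hβ with rfl | rfl
      exacts [List.all_eq_true.1 aniB.1 _ hmem, List.all_eq_true.1 aniB.2 _ hmem]
    simp only [aniTest, hM2, decide_true, Bool.not_true, Bool.false_or, List.any_eq_true,
      Bool.and_eq_true, beq_iff_eq] at htest
    obtain ⟨u, -, v, -, ⟨⟨⟨hu, hv⟩, qu⟩, qv⟩, quv⟩ := htest
    obtain ⟨y, -, h1, h2⟩ := F.sq_line H hp hu hv qu qv quv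
    exact ⟨(bysq h1 h2).1, fun _ => (bysq h1 h2).2⟩
  · refine ⟨?_, fun h' => absurd h' ho⟩
    obtain ⟨L, hL, hLM⟩ := List.mem_map.1 hmem
    have htest : outerB β σ = true := by
      rcases hβ with rfl | rfl <;> rcases hσ with rfl | rfl
      exacts [outerB_ok.1.1, outerB_ok.1.2, outerB_ok.2.1, outerB_ok.2.2]
    have ht := List.all_eq_true.1 htest L hL
    simp only [hLM, hM2, decide_true, Bool.not_true, Bool.false_or, Bool.or_eq_true, aniC, List.any_eq_true,
      Bool.and_eq_true, beq_iff_eq, decide_eq_true_eq, List.all_eq_true, Bool.not_eq_true',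
      decide_eq_false_iff_not] at ht
    rcases ht with ⟨u, -, v, -, ⟨⟨⟨hu, hv⟩, qu⟩, qv⟩, quv⟩ | ⟨⟨M1, w0⟩, -, heM, hconj⟩
    · obtain ⟨y, -, h1, h2⟩ := F.sq_line H hp hu hv qu qv quv
      exact (bysq h1 h2).1
    subst heM
    -- conjugate to the standard matrix
    obtain ⟨cw, hcw, -, hcwA⟩ := F.exists_act H hK (evalW w0) 0
    obtain ⟨cwi, hcwi⟩ : ∃ r, F.C.Act cw⁻¹ r := H.act_lin F.C ((Cz z).inv_mem (H.inn_le hcw))
    have hcwiM : cwi.M = linW wL (invW w0) := by
      have e := congrArg PR.M (F.act_eq_pair H (F.C.act_mul hcwi hcwA) (by rw [inv_mul_cancel]; exact F.C.act_one))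
      have e2 : comp (F.M.L (evalW w0)) (F.M.L (evalW (invW w0))) = idL := by
        rw [← F.M.mul, invW_eval, mul_inv_cancel, F.M.one]
      calc cwi.M = comp cwi.M (comp (F.M.L (evalW w0)) (F.M.L (evalW (invW w0)))) := by rw [e2, comp_id]
        _ = comp (comp cwi.M (F.M.L (evalW w0))) (F.M.L (evalW (invW w0))) := (comp_assoc _ _ _).symm
        _ = _ := by
          rw [show comp cwi.M (F.M.L (evalW w0)) = idL from e, id_comp, F.M.evalW_L]
    have hact1 := F.C.act_mul hcwA (F.C.act_mul hp hcwi)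
    generalize hp1 : pmul β ⟨F.M.L (evalW w0), 0⟩ (pmul β p cwi) = p1 at hact1
    have hp1M : p1.M = sgB1 := by
      rw [← hp1]
      show comp (F.M.L (evalW w0)) (comp p.M cwi.M) = sgB1
      rw [hcwiM, F.M.evalW_L]; exact hconj
    set k := cw * (h * g) with hk
    have hpk : F.C.Act (k * z * k⁻¹) p1 := by
      rwa [hk, show cw * (h * g) * z * (cw * (h * g))⁻¹ = cw * (h * g * z * (h * g)⁻¹ * cw⁻¹) by group]
    have hp12 : pmul β p1 p1 = pone := by
      refine F.act_eq_pair H (F.C.act_mul hpk hpk) ?_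
      rw [(H.st.conj k).zz]; exact F.C.act_one
    have hmirk : k⁻¹ * z * k = g⁻¹ * z * g := by
      rw [hk, ← hmir]
      calc (cw * (h * g))⁻¹ * z * (cw * (h * g)) = (h * g)⁻¹ * (cw⁻¹ * (z * cw)) * (h * g) := by group
        _ = (h * g)⁻¹ * (cw⁻¹ * (cw * z)) * (h * g) := by rw [mem_Cz.1 (H.inn_le hcw)]
        _ = _ := by group
    obtain ⟨M', d'⟩ := p1
    change M' = sgB1 at hp1M
    subst hp1M
    have hsgn : signB β = true := by
      rcases hβ with rfl | rfl
      exacts [signB_A, signB_D]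
    have hok : cwOK β commW = true := by
      rcases hβ with rfl | rfl
      exacts [commW_ok.1, commW_ok.2]
    simp only [signB, Bool.or_eq_true, List.all_eq_true, List.any_eq_true, Bool.and_eq_true, beq_iff_eq,
      Bool.not_eq_true', decide_eq_true_eq, decide_eq_false_iff_not] at hsgn
    rcases hsgn d' (List.mem_finRange _) with (hbad | ⟨w, -, ⟨hw, qw⟩, fw⟩) | ⟨u, -, hu⟩
    · exact absurd hp12 hbad
    · rw [← hmirk]
      exact (F.mirror_sq H ((F.C.act_comm hpk w false).2 ⟨hw, fw⟩).symm (by rw [F.C.sq, qw, F.C.j_z])).1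
    -- the commutator
    set g' := F.C.j u false * k with hg'
    have huC : F.C.j u false ∈ Cz z := H.QC (F.C.mem _ _)
    have hmir' : g'⁻¹ * z * g' = g⁻¹ * z * g := by
      rw [hg', ← hmirk]
      calc (F.C.j u false * k)⁻¹ * z * (F.C.j u false * k)
          = k⁻¹ * ((F.C.j u false)⁻¹ * (z * F.C.j u false)) * k := by group
        _ = k⁻¹ * ((F.C.j u false)⁻¹ * (F.C.j u false * z)) * k := by rw [mem_Cz.1 huC]
        _ = _ := by group
    have hy : F.C.Act (g' * z * g'⁻¹) ⟨sgB1, commW.d⟩ := by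
      rw [← hu, show g' * z * g'⁻¹ = F.C.j u false * (k * z * k⁻¹ * (F.C.j u false)⁻¹) by
        rw [hg']; group, F.C.j_inv]
      exact F.C.act_mul (F.C.act_inn u false) (F.C.act_mul hpk (F.C.act_inn u _))
    simp only [cwOK, Bool.and_eq_true, decide_eq_true_eq, beq_iff_eq, Bool.not_eq_true'] at hok
    obtain ⟨⟨⟨⟨hcp, hxfix⟩, hxf⟩, hx2⟩, hx2f⟩ := hok
    obtain ⟨c, hc, -, hcA⟩ := F.exists_act H hK (evalW commW.w) commW.dc
    rw [F.M.evalW_L] at hcA
    set a := g' * z * g'⁻¹ with haD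
    have hc2a : c * c * a = a * (c * c) := by
      have h1 := F.C.act_mul hcA hy
      change pmul β ⟨linW wL commW.w, commW.dc⟩ ⟨sgB1, commW.d⟩ = _ at hcp
      rw [hcp] at h1
      have hza : z * a = a * z := by
        have h0 : F.C.j 0 true * a = a * F.C.j 0 true :=
          ((F.C.act_comm hy 0 true).2 ⟨app_zero _, by
            have := hy 0 false
            rw [F.C.j_one, app_zero, mul_one, mul_inv_cancel, ← F.C.j_one, Bool.false_xor] at this
            exact (F.C.inj _ _ _ _ this).2.symm⟩).symm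
        rwa [F.C.j_z] at h0
      rcases F.C.act_eq H.st h1 (F.C.act_mul hy hcA) with e1 | e1
      · calc c * c * a = c * (c * a) := by group
          _ = c * (a * c) := by rw [e1]
          _ = (c * a) * c := by group
          _ = _ := by rw [e1]; group
      · have hcz : c * z = z * c := mem_Cz.1 (H.inn_le hc)
        calc c * c * a = c * (c * a) := by group
          _ = (c * z) * a * c := by rw [e1]; group
          _ = z * (c * a) * c := by rw [hcz]; group
          _ = (z * z) * a * (c * c) := by rw [e1]; group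
          _ = _ := by rw [H.st.zz, one_mul]
    rw [← hmir']
    refine F.mirror_comm H (c := c * c) (x := F.C.j commW.x false) hc2a
      ((F.C.act_comm hy commW.x false).2 ⟨hxfix, hxf⟩).symm ?_
    have h2 := F.C.act_mul hcA hcA
    rw [h2, hx2, hx2f, F.C.j_inv, F.C.mul, xr_self, qq]
    refine (congrArg (F.C.j 0) ?_).trans F.C.j_z
    cases β commW.x commW.x <;> rfl

/-- Every conjugate in the centraliser is inner and a square. -/
theorem innerB {g : G} (ha : g * z * g⁻¹ ∈ Cz z) (hne : g * z * g⁻¹ ≠ z) :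
    g * z * g⁻¹ ∈ inn π ∧ ∃ y ∈ Cz z, y * y = g * z * g⁻¹ := by
  have hm : g⁻¹ * z * g⁻¹⁻¹ ∈ Cz z := by
    rw [inv_inv]; exact F.pull H (mem_Cz.1 ha).symm
  have hm' : g⁻¹ * z * g⁻¹⁻¹ ≠ z := fun e => hne (by
    rw [inv_inv] at e
    calc g * z * g⁻¹ = g * (g⁻¹ * z * g) * g⁻¹ := by rw [e]
      _ = z := by group)
  have h1 := (F.mirrorB H hK hW hm hm').1
  have h2 := (F.mirrorB H hK hW hm hm').2 (by rw [inv_inv]; exact (F.mirrorB H hK hW ha hne).1)
  rw [inv_inv] at h1 h2
  exact ⟨h1, h2⟩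

theorem commute192 {g : G} (ha : g * z * g⁻¹ ∈ Cz z) (hne : g * z * g⁻¹ ≠ z) (b : Bool) :
    g * z * g⁻¹ * F.C.j 192 b = F.C.j 192 b * (g * z * g⁻¹) := by
  obtain ⟨-, y, hy, e⟩ := F.innerB H hK hW ha hne
  obtain ⟨d, -, hd⟩ := F.fix192 H hK hW hy
  refine mul_inv_eq_iff_eq_mul.1 ?_
  rw [← e]
  calc y * y * F.C.j 192 b * (y * y)⁻¹ = y * (y * F.C.j 192 b * y⁻¹) * y⁻¹ := by group
    _ = F.C.j 192 ((b ^^ d) ^^ d) := by rw [hd, hd]
    _ = _ := by cases b <;> cases d <;> rfl

/-- No other conjugate lies in the centraliser. -/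
theorem isolatedB (g : G) (ha : g * z * g⁻¹ ∈ Cz z) : g * z * g⁻¹ = z := by
  subst hW
  by_contra hne
  set q0 := g * F.C.j 192 false * g⁻¹ with hq0
  have hq0C : q0 ∈ Cz z := by
    have hm : g⁻¹ * z * g⁻¹⁻¹ ∈ Cz z := by rw [inv_inv]; exact F.pull H (mem_Cz.1 ha).symm
    have hm' : g⁻¹ * z * g⁻¹⁻¹ ≠ z := fun e => hne (by
      rw [inv_inv] at e
      calc g * z * g⁻¹ = g * (g⁻¹ * z * g) * g⁻¹ := by rw [e]
        _ = z := by group)
    have h := F.commute192 H hK rfl hm hm' false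
    rw [inv_inv] at h
    refine mem_Cz.2 ?_
    calc q0 * z = g * (F.C.j 192 false * (g⁻¹ * z * g)) * g⁻¹ := by rw [hq0]; group
      _ = g * (g⁻¹ * z * g * F.C.j 192 false) * g⁻¹ := by rw [h]
      _ = _ := by rw [hq0]; group
  have hq0q : q0 * q0 = g * z * g⁻¹ := by
    calc q0 * q0 = g * (F.C.j 192 false * F.C.j 192 false) * g⁻¹ := by rw [hq0]; group
      _ = _ := by rw [F.C.sq, F.qtop H hK rfl, F.C.j_z]
  obtain ⟨h, hh, p, hp, hcase⟩ := F.conj_syl_act H hK hq0C (n := 2) (by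
    rw [show 2 ^ 2 = 2 * 2 from rfl, pow_mul, pow_two (aut z π q0), ← H.aut_mul hq0C hq0C, hq0q, pow_two,
      ← H.aut_mul ha ha, (H.st.conj g).zz, H.aut_Q Q.one_mem])
  set g' := h * g with hg'
  set a := g' * z * g'⁻¹ with haD
  set q := g' * F.C.j 192 false * g'⁻¹ with hqD
  have hqh : h * q0 * h⁻¹ = q := by rw [hqD, hq0, hg']; group
  rw [hqh] at hp
  have hqC : q ∈ Cz z := hqh ▸ (Cz z).mul_mem ((Cz z).mul_mem hh hq0C) ((Cz z).inv_mem hh)
  have haC : a ∈ Cz z := by
    rw [haD, hg', show h * g * z * (h * g)⁻¹ = h * (g * z * g⁻¹) * h⁻¹ by group]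
    exact (Cz z).mul_mem ((Cz z).mul_mem hh ha) ((Cz z).inv_mem hh)
  have hane : a ≠ z := fun e => hne (by
    calc g * z * g⁻¹ = h⁻¹ * a * h := by rw [haD, hg']; group
      _ = h⁻¹ * (h * z) := by rw [e, mul_assoc, ← mem_Cz.1 hh]
      _ = z := by group)
  have haQ : a ∉ Q := fun hQ => hane (F.weakly_closed H hK g' hQ)
  have hqq : q * q = a := by
    calc q * q = g' * (F.C.j 192 false * F.C.j 192 false) * g'⁻¹ := by rw [hqD]; group
      _ = _ := by rw [F.C.sq, F.qtop H hK rfl, F.C.j_z]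
  have haA : F.C.Act a (pmul β p p) := hqq ▸ F.C.act_mul hp hp
  have hne2 : ¬ comp p.M p.M = idL := F.inner_ne_id H (F.innerB H hK rfl haC hane).1 haQ haA
  have hmem : p.M ∈ sylL wL σ := by
    rcases hcase with ⟨h1, -⟩ | ⟨h1, -⟩
    exacts [List.mem_append_left _ h1, List.mem_append_right _ h1]
  have h4 : comp (comp p.M p.M) (comp p.M p.M) = idL := by
    have e := F.act_eq_pair H (F.C.act_mul haA haA) ((H.st.conj g').zz.symm ▸ F.C.act_one)
    exact congrArg PR.M e
  obtain ⟨hβ, hσ⟩ := F.kindB H hK rfl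
  have ht : qTest β p.M = true := by
    rcases hβ with rfl | rfl
    · exact List.all_eq_true.1 (List.all_eq_true.1 qTest_ok.1 σ (by rcases hσ with rfl | rfl <;> simp)) _ hmem
    · exact List.all_eq_true.1 (List.all_eq_true.1 qTest_ok.2 σ (by rcases hσ with rfl | rfl <;> simp)) _ hmem
  simp only [qTest, hne2, h4, decide_false, decide_true, Bool.not_true, Bool.false_or, List.any_eq_true,
    Bool.and_eq_true, beq_iff_eq, bne_iff_ne, Bool.not_eq_true'] at ht
  obtain ⟨w, -, ⟨hw2, hw1⟩, hr⟩ := ht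
  -- what centralises `a` in `Q` centralises `q`
  have hfix : ∀ v, app (comp p.M p.M) v = v → (pmul β p p).f β v = false →
      app p.M v = v ∧ p.f β v = false := by
    intro v hv hf
    set c := F.C.j v false with hc
    have hca : c * a = a * c := ((F.C.act_comm haA v false).2 ⟨hv, hf⟩).symm
    obtain ⟨δ, hδ, -⟩ := F.fix192 H hK rfl (x := g'⁻¹ * c * g') (F.pull H hca)
    have h2 : c * q * c⁻¹ = g' * F.C.j 192 δ * g'⁻¹ := by rw [← hδ, hqD]; group
    cases δ
    · rw [← hqD] at h2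
      exact (F.C.act_comm hp v false).1 (mul_inv_eq_iff_eq_mul.1 h2).symm
    · exfalso
      refine haQ ?_
      have hz : F.C.j 192 true = z * F.C.j 192 false := (F.C.z_mul 192 false).symm
      have h4 : c * q * c⁻¹ = a * q := by rw [h2, hz, haD, hqD]; group
      have h5 : a = c * (q * c⁻¹ * q⁻¹) := by
        calc a = a * q * q⁻¹ := by group
          _ = c * q * c⁻¹ * q⁻¹ := by rw [h4]
          _ = _ := by group
      rw [h5]
      exact Q.mul_mem (F.C.mem _ _) (H.conjQ hqC (Q.inv_mem (F.C.mem _ _)))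
  set r := xr (app p.M w) w with hrD
  have hwA : app (comp p.M p.M) w = w := by rw [app_comp]; exact hw2
  have hMw : app p.M w = xr w r := by rw [hrD, xr_comm (app p.M w) w, xr_cancel]
  have hrA : app (comp p.M p.M) r = r := by
    have e : app (comp p.M p.M) (app p.M w) = app p.M w := by rw [app_comp, hw2]
    rw [hrD, app_xr, e, hwA]
  have ftrue : ∀ v, app (comp p.M p.M) v = v → app p.M v ≠ v → (pmul β p p).f β v = true := fun v hv hn => by
    by_contra hc
    rw [Bool.not_eq_true] at hc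
    exact hn (hfix v hv hc).1
  have hfa_w := ftrue w hwA hw1
  have hfa_Mw := ftrue (app p.M w) (by rw [app_comp, hw2]) (fun e => hw1 (by rw [← e, hw2]))
  have hfa_r : (pmul β p p).f β r = false := by
    rw [hrD, F.f_fix H haA (v := app p.M w) (w := w) (by show app (comp p.M p.M) _ = _; rw [app_comp, hw2]) hwA,
      hfa_Mw, hfa_w]
    rfl
  obtain ⟨hr1, hr2⟩ := hfix r hrA hfa_r
  have e1 : p.f β (app p.M w) = p.f β w := by
    have e : q * (F.C.j w false * F.C.j r false) * q⁻¹ = q * F.C.j w false * q⁻¹ * (q * F.C.j r false * q⁻¹) := by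
      group
    rw [F.C.mul, hp, hp, hp, F.C.mul, app_xr, hr1, hr2, ← hMw] at e
    have e2 := (F.C.inj _ _ _ _ e).2
    have hb : β (app p.M w) r = β w r := by
      rw [hMw, F.C.bil.left]
      have : β r r = false := hr
      rw [this, Bool.xor_false]
    rw [hb] at e2
    revert e2
    cases p.f β (app p.M w) <;> cases p.f β w <;> cases β w r <;> decide
  have e3 : a * F.C.j w false * a⁻¹ = F.C.j w false := by
    rw [← hqq]
    calc q * q * F.C.j w false * (q * q)⁻¹ = q * (q * F.C.j w false * q⁻¹) * q⁻¹ := by group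
      _ = _ := by
        rw [hp, hp, hw2, e1]
        congr 1
        cases p.f β w <;> rfl
  rw [haA, show app (pmul β p p).M w = w from hwA, hfa_w] at e3
  exact Bool.noConfusion (F.C.inj _ _ _ _ e3).2

end Fr

end CfsgLib.USixTwo
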