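import Cfsg.Agent.Lib.USixTwo.Mirror
import Cfsg.Agent.Lib.USixType.Action

/-!
Tables for the outer involutions in the natural case.
-/

set_option autoImplicit false
set_option linter.unusedSectionVars false
set_option linter.style.haveILetI false
set_option maxRecDepth 100000

open Cfsg CfsgLib.Extraspecial CfsgLib.USixType

namespace CfsgLib.USixTwo

/-- Conjugations of the outer involutions of a Sylow subgroup into the two standard ones. -/
def cjA : List (Lin × List (Fin 5) × Bool) :=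
[
  (⟨1, 3, 4, 12, 16, 48, 64, 192⟩, [], false),
  (⟨4, 12, 1, 3, 16, 48, 64, 192⟩, [0, 2, 0, 4, 3, 0, 2, 0, 4, 2, 3, 2, 0, 2], false),
  (⟨1, 3, 4, 12, 64, 192, 16, 48⟩, [0, 4, 2, 3, 0, 2, 0, 4, 3, 0, 2, 0], false),
  (⟨4, 12, 1, 3, 64, 192, 16, 48⟩, [], true),
  (⟨84, 252, 81, 243, 69, 207, 21, 63⟩, [2, 0, 4, 0, 2, 3, 1, 2, 0], true),
  (⟨81, 243, 84, 252, 69, 207, 21, 63⟩, [0, 4, 0], false),
  (⟨84, 252, 81, 243, 21, 63, 69, 207⟩, [0, 4, 0, 2, 3, 1, 2], false),
  (⟨81, 243, 84, 252, 21, 63, 69, 207⟩, [0, 4, 2, 3, 1, 2, 0, 4, 2, 3, 0, 2, 0, 0], false),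
  (⟨180, 108, 177, 99, 79, 202, 26, 53⟩, [2, 0, 4, 3, 0], true),
  (⟨177, 99, 180, 108, 79, 202, 26, 53⟩, [0, 4, 2, 0, 2, 3, 2, 0, 0, 2, 0], false),
  (⟨228, 156, 225, 147, 74, 197, 31, 58⟩, [2, 0, 4, 0], true),
  (⟨225, 147, 228, 156, 74, 197, 31, 58⟩, [0, 4, 2, 0, 0, 2, 3, 2, 0, 2, 0], false),
  (⟨78, 201, 75, 198, 16, 48, 69, 207⟩, [0, 2, 0, 4, 3, 2, 0, 0, 2, 0, 0], false),
  (⟨75, 198, 78, 201, 16, 48, 69, 207⟩, [0, 0, 2, 0, 0, 4, 3, 2, 0, 2, 0], false),
  (⟨30, 57, 27, 54, 21, 63, 64, 192⟩, [0, 2, 0, 4, 3, 2, 0, 0, 2, 3, 0, 0], false),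
  (⟨27, 54, 30, 57, 21, 63, 64, 192⟩, [0, 0, 2, 0, 0, 4, 3, 2, 0, 2, 3, 0], false)]

/-- The inner part of a standard outer element. -/
def lW : Bool → List (Fin 5)
  | false => []
  | true => [1, 3]

/-- The standard outer matrices. -/
def tgtA (b : Bool) : Lin := comp (linW gL (lW b)) sgA

/-- The standard outer pairs. -/
def pureA (b : Bool) : PR := pmul bA ⟨linW gL (lW b), 0⟩ ⟨sgA, 255⟩

/-- Translations between the involutory pairs over a standard matrix. -/
def usA : Bool → List V8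
  | false => [0, 2, 8, 10, 32, 34, 40, 42, 128, 130, 136, 138, 160, 162, 168, 170]
  | true => [0, 1, 2, 3, 16, 17, 18, 19, 32, 33, 34, 35, 48, 49, 50, 51]

/-- An element commuting with a standard one whose square is a product of two transvections. -/
def sqW : Bool → List (Fin 5)
  | false => [3, 2, 1]
  | true => [4, 0]

/-- The conjugation to its square. -/
def sqC : Bool → List (Fin 5)
  | false => [2]
  | true => [0, 2, 3, 1, 2, 0, 4, 0]

theorem cjA_ok : ((plist gL (sylPg gL)).all fun L => !decide (comp (comp L sgA) (comp L sgA) = idL) ||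
    cjA.any fun e => decide (e.1 = comp L sgA) &&
      decide (comp (linW gL e.2.1) (comp (comp L sgA) (linW gL (invW e.2.1))) = tgtA e.2.2)) = true := by
  decide +kernel

set_option maxHeartbeats 4000000 in
theorem signA : ([false, true].all fun b => (List.finRange 256).all fun d =>
    !decide (pmul bA ⟨tgtA b, d⟩ ⟨tgtA b, d⟩ = pone) ||
      (usA b).any fun u => decide (cjU bA u ⟨tgtA b, d⟩ = pureA b)) = true := by
  decide +kernel

theorem sqA_ok : ∀ b, linW gL (sqC b ++ [1, 3] ++ invW (sqC b)) = linW gL (sqW b ++ sqW b) ∧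
    comp (linW gL (lW b)) (comp (comp sgA (comp (linW gL (sqW b)) sgA)) (linW gL (invW (lW b)))) =
      linW gL (sqW b) := by
  decide +kernel

theorem trans_line : app (gL 1) 16 = 16 ∧ app (gL 1) 32 = 32 ∧ qq bA 16 = true ∧ qq bA 32 = true ∧
    qq bA (xr 16 32) = true ∧ app (gL 1) 5 = 5 := by decide +kernel

end CfsgLib.USixTwo
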