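import Cfsg.Agent.Lib.USixTwo.AModel
import Cfsg.Agent.Lib.USixTwo.AData
import Cfsg.Agent.Lib.USixType.Classes

/-!
The natural case with anticommuting lifts of two commuting transvections: the involution is isolated.
-/

set_option autoImplicit false
set_option linter.unusedSectionVars false
set_option linter.style.haveILetI false
set_option maxRecDepth 100000

open Cfsg CfsgLib.Extraspecial CfsgLib.USixType

namespace CfsgLib.USixTwo

namespace Fr

variable {G : Type*} [Group G] [Finite G] {z : G} {Q : Subgroup G} {π : ↥(Cz z) →* MulAut G4}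
  (F : Fr z Q π bA gL sgA) (H : Two z Q π)
include F H

theorem lf_three_sq {a1 a3 : G} (h1 : F.Lf a1 (gen 1)) (h3 : F.Lf a3 (gen 3)) :
    a1 * a1 = 1 ∧ a3 * a3 = 1 := by
  have s1 := F.lf_gen1_sq H h1
  refine ⟨s1, Fr.Lf.sq_transfer F H h1 h3 (h := evalW (fiveW 1)) ?_ (Or.inl rfl) s1⟩
  rw [← evalW_single 1, ← invW_eval, ← evalW_append, ← evalW_append]
  exact (evalW_eq fW_first.2).trans (evalW_single 3)

/-- An inner involution outside `Q` over a representative. -/
theorem inner_shape {x : G} (hx : x ∈ inn π) (hQ : x ∉ Q) (xx : x * x = 1) {r : Bool → G}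
    (hr : ∀ k, F.Lf (r k) (evalW (repW k))) :
    ∃ c ∈ inn π, ∃ k v b, c * x * c⁻¹ = F.C.j v b * r k ∧ app (linW gL (repW k)) v = v ∧
      F.C.j 0 (qq bA v) * (r k * r k) = 1 := by
  obtain ⟨hxC, g, hg⟩ := H.mem_inn.1 hx
  have g2 : orderOf g = 2 := orderOf_eq_prime_iff.2 ⟨conj_inj (by
    rw [map_pow, ← hg, pow_two, ← H.aut_mul hxC hxC, xx, H.aut_Q Q.one_mem, map_one]),
    fun e => hQ ((H.aut_eq_one hxC).1 (by rw [hg, e, map_one]))⟩
  obtain ⟨k, h, hh⟩ := inv_class g2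
  obtain ⟨c, hc⟩ := F.exists_lf H h⁻¹
  have hcC := H.inn_le hc.1
  have hcx : c * x * c⁻¹ ∈ Cz z := (Cz z).mul_mem ((Cz z).mul_mem hcC hxC) ((Cz z).inv_mem hcC)
  have hrC := H.inn_le (hr k).1
  have hq : c * x * c⁻¹ * (r k)⁻¹ ∈ Q := by
    refine (H.aut_eq_one ((Cz z).mul_mem hcx ((Cz z).inv_mem hrC))).1 ?_
    rw [H.aut_mul hcx ((Cz z).inv_mem hrC), H.aut_inv hrC, H.aut_conj hcC hxC, hc.2.1, (hr k).2.1, hg,
      ← map_inv, ← map_inv, ← map_mul, ← map_mul, ← map_mul, hh]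
    rw [← (MulAut.conj : G4 →* MulAut G4).map_one]
    congr 1
    group
  obtain ⟨v, b, hvb⟩ := F.C.surj _ hq
  have he : c * x * c⁻¹ = F.C.j v b * r k := by rw [hvb]; group
  have hsq : F.C.j v b * r k * (F.C.j v b * r k) = 1 := by
    rw [← he, show c * x * c⁻¹ * (c * x * c⁻¹) = c * (x * x) * c⁻¹ by group, xx]
    group
  rw [show F.C.j v b * r k * (F.C.j v b * r k) = F.C.j v b * (r k * F.C.j v b * (r k)⁻¹) * (r k * r k) by group,
    Fr.Lf.conj_j F H (hr k), natL_evalW, F.C.mul] at hsq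
  have hrr : r k * r k = 1 ∨ r k * r k = z := by
    have := Fr.Lf.mul F H (hr k) (hr k)
    rw [rep_sq] at this
    rcases Fr.Lf.unique F H this (F.lf_one H) with e | e
    · exact Or.inl e
    · exact Or.inr (by rw [e, mul_one])
  have hfix : app (linW gL (repW k)) v = v := by
    obtain ⟨d, hd⟩ : ∃ d, F.C.j 0 d = (r k * r k)⁻¹ := by
      rcases hrr with e | e <;> rw [e]
      · exact ⟨false, by rw [F.C.j_one, inv_one]⟩
      · exact ⟨true, by rw [F.C.j_z, H.st.inv_z]⟩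
    rw [mul_eq_one_iff_eq_inv, ← hd] at hsq
    exact (xr_eq_zero.1 (F.C.inj _ _ _ _ hsq).1).symm
  refine ⟨c, hc.1, k, v, b, he, hfix, ?_⟩
  rw [hfix, xr_self, Bool.xor_self, Bool.false_xor] at hsq
  exact hsq

/-- Without anticommuting lifts the mirrors are inner. -/
theorem mirror_anti {a1 a3 : G} (h1 : F.Lf a1 (gen 1)) (h3 : F.Lf a3 (gen 3))
    (hanti : a3 * a1 = z * (a1 * a3)) {g : G} (ha : g * z * g⁻¹ ∈ Cz z) (hne : g * z * g⁻¹ ≠ z) :
    g⁻¹ * z * g ∈ inn π ∧
      (g * z * g⁻¹ ∈ inn π → ∃ c ∈ Cz z, ∃ v b, c * (g * z * g⁻¹) * c⁻¹ = F.C.j v b * a1 ∧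
        app (gL 1) v = v ∧ qq bA v = false) := by
  obtain ⟨s1, s3⟩ := F.lf_three_sq H h1 h3
  have s13 : a1 * a3 * (a1 * a3) = z := by
    rw [show a1 * a3 * (a1 * a3) = a1 * (a3 * a1) * a3 by group, hanti,
      show a1 * (z * (a1 * a3)) * a3 = (a1 * z) * a1 * (a3 * a3) by group, ← Fr.Lf.z_comm F H h1,
      mul_assoc z a1 a1, s1, s3, mul_one, mul_one]
  have haa : g * z * g⁻¹ * (g * z * g⁻¹) = 1 := (H.st.conj g).zz
  have hQ : g * z * g⁻¹ ∉ Q := fun h => hne (F.weakly_closed H kindA g h)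
  have hmir : ∀ {c : G}, c ∈ Cz z → (c * g)⁻¹ * z * (c * g) = g⁻¹ * z * g := fun {c} hc => by
    calc (c * g)⁻¹ * z * (c * g) = g⁻¹ * (c⁻¹ * (z * c)) * g := by group
      _ = g⁻¹ * (c⁻¹ * (c * z)) * g := by rw [mem_Cz.1 hc]
      _ = _ := by group
  by_cases hi : g * z * g⁻¹ ∈ inn π
  · let r : Bool → G := fun k => cond k (a1 * a3) a1
    have hr : ∀ k, F.Lf (r k) (evalW (repW k)) := fun k => by
      cases k
      · rw [repW, evalW_single]; exact h1
      · have := Fr.Lf.mul F H h1 h3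
        rw [← evalW_single 1, ← evalW_single 3, ← evalW_append] at this
        exact this
    obtain ⟨c, hc, k, v, b, he, hfix, hq⟩ := F.inner_shape H hi hQ haa hr
    have hcC := H.inn_le hc
    cases k
    · change F.C.j 0 (qq bA v) * (a1 * a1) = 1 at hq
      rw [s1, mul_one, ← F.C.j_one] at hq
      have qv : qq bA v = false := (F.C.inj _ _ _ _ hq).2
      have hfix' : app (gL 1) v = v := by simpa [repW, linW, comp_id] using hfix
      refine ⟨?_, fun _ => ⟨c, hcC, v, b, he, hfix', qv⟩⟩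
      have hA := F.C.act_mul (F.C.act_inn v b) h1.2.2
      rw [natL_gen] at hA
      obtain ⟨t16, t32, q16, q32, q48, -⟩ := trans_line
      have hM : (pmul bA (pinn bA v) ⟨gL 1, 0⟩).M = gL 1 := id_comp _
      obtain ⟨y, -, hy1, hy2⟩ := F.sq_line H hA (u := 16) (v := 32) (by rw [hM, t16]) (by rw [hM, t32]) q16 q32 q48
      change y * (F.C.j v b * a1) = F.C.j v b * a1 * y at hy1
      change c * (g * z * g⁻¹) * c⁻¹ = F.C.j v b * a1 at he
      rw [← he, show c * (g * z * g⁻¹) * c⁻¹ = c * g * z * (c * g)⁻¹ by group] at hy1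
      rw [← hmir hcC]
      exact (F.mirror_sq H hy1 hy2).1
    · exfalso
      change F.C.j 0 (qq bA v) * (a1 * a3 * (a1 * a3)) = 1 at hq
      rw [s13, rep_fix_pair v hfix, F.C.j_one, one_mul] at hq
      exact H.st.ne_one hq
  refine ⟨?_, fun h => absurd h hi⟩
  obtain ⟨h, hh, p, hp, hcase⟩ := F.conj_syl_act H kindA ha (n := 1) (by
    rw [pow_one, pow_two, ← H.aut_mul ha ha, haa, H.aut_Q Q.one_mem])
  rw [show h * (g * z * g⁻¹) * h⁻¹ = h * g * z * (h * g)⁻¹ by group] at hp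
  have hp2 : pmul bA p p = pone := by
    refine F.act_eq_pair H (F.C.act_mul hp hp) ?_
    rw [(H.st.conj (h * g)).zz]; exact F.C.act_one
  have hM2 : comp p.M p.M = idL := congrArg PR.M hp2
  rcases hcase with ⟨-, h'⟩ | ⟨hmem, -⟩
  · exact absurd h' hi
  obtain ⟨L, hL, hLM⟩ := List.mem_map.1 hmem
  have ht := List.all_eq_true.1 cjA_ok L hL
  simp only [hLM, hM2, decide_true, Bool.not_true, Bool.false_or, List.any_eq_true, Bool.and_eq_true,
    decide_eq_true_eq] at ht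
  obtain ⟨⟨M1, w0, β0⟩, -, heM, hconj⟩ := ht
  subst heM
  obtain ⟨cw, hcw⟩ := F.exists_lf H (evalW w0)
  have hcwi := Fr.Lf.inv F H hcw
  rw [← invW_eval] at hcwi
  have hact1 := F.C.act_mul hcw.2.2 (F.C.act_mul hp hcwi.2.2)
  rw [natL_evalW, natL_evalW] at hact1
  generalize hp1 : pmul bA ⟨linW gL w0, 0⟩ (pmul bA p ⟨linW gL (invW w0), 0⟩) = p1 at hact1
  have hp1M : p1.M = tgtA β0 := by rw [← hp1]; exact hconj
  set k := cw * (h * g) with hk
  have hpk : F.C.Act (k * z * k⁻¹) p1 := by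
    rwa [hk, show cw * (h * g) * z * (cw * (h * g))⁻¹ = cw * (h * g * z * (h * g)⁻¹ * cw⁻¹) by group]
  have hp12 : pmul bA p1 p1 = pone := by
    refine F.act_eq_pair H (F.C.act_mul hpk hpk) ?_
    rw [(H.st.conj k).zz]; exact F.C.act_one
  obtain ⟨M', d'⟩ := p1
  change M' = tgtA β0 at hp1M
  subst hp1M
  have hs := List.all_eq_true.1 (List.all_eq_true.1 signA β0 (by cases β0 <;> simp)) d' (List.mem_finRange _)
  simp only [hp12, decide_true, Bool.not_true, Bool.false_or, List.any_eq_true, decide_eq_true_eq] at hs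
  obtain ⟨u, -, hu⟩ := hs
  have hju : F.C.Act (F.C.j u false)⁻¹ (pinn bA u) := by rw [F.C.j_inv]; exact F.C.act_inn u _
  have hpa := F.C.act_mul (F.C.act_inn u false) (F.C.act_mul hpk hju)
  rw [show pmul bA (pinn bA u) (pmul bA ⟨tgtA β0, d'⟩ (pinn bA u)) = pureA β0 from hu] at hpa
  set k' := F.C.j u false * k with hk'
  have hpk' : F.C.Act (k' * z * k'⁻¹) (pureA β0) := by
    rwa [hk', show F.C.j u false * k * z * (F.C.j u false * k)⁻¹ =
      F.C.j u false * (k * z * k⁻¹ * (F.C.j u false)⁻¹) by group]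
  have hmirk : k'⁻¹ * z * k' = g⁻¹ * z * g := by
    rw [hk', hk, show F.C.j u false * (cw * (h * g)) = (F.C.j u false * cw * h) * g by group]
    exact hmir ((Cz z).mul_mem ((Cz z).mul_mem (H.QC (F.C.mem _ _)) (H.inn_le hcw.1)) hh)
  -- the standard element and an element of order four commuting with it
  obtain ⟨e1, he1C, -, he1a, he1A⟩ := F.exists_e1 H
  obtain ⟨l, hl⟩ := F.exists_lf H (evalW (lW β0))
  have hlA : F.C.Act (l * e1) (pureA β0) := by
    have := F.C.act_mul hl.2.2 he1A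
    rwa [natL_evalW] at this
  obtain ⟨c, hc⟩ := F.exists_lf H (evalW (sqW β0))
  obtain ⟨hsq, hfix⟩ := sqA_ok β0
  have hd : F.Lf (l * e1 * c * (l * e1)⁻¹) (evalW (sqW β0)) := by
    have := Fr.Lf.mul F H (Fr.Lf.mul F H hl (Fr.Lf.outer F H he1C he1a he1A hc)) (Fr.Lf.inv F H hl)
    rw [show evalW (lW β0) * al (evalW (sqW β0)) * (evalW (lW β0))⁻¹ = evalW (sqW β0) from natL_inj (by
      rw [← invW_eval, natL_mul, natL_mul, comp_assoc, natL_evalW, natL_evalW, natL_evalW]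
      show comp _ (comp (natL (alF _)) _) = _
      rw [natL_alF, natL_evalW]; exact hfix)] at this
    rwa [show l * e1 * c * (l * e1)⁻¹ = l * (e1 * c * e1⁻¹) * l⁻¹ by group]
  have hcom : ∀ a', F.C.Act a' (pureA β0) → c * c * a' = a' * (c * c) := by
    intro a' ha'
    have e0 : l * e1 * (c * c) * (l * e1)⁻¹ = c * c := by
      rw [show l * e1 * (c * c) * (l * e1)⁻¹ = l * e1 * c * (l * e1)⁻¹ * (l * e1 * c * (l * e1)⁻¹) by group]
      rcases Fr.Lf.unique F H hd hc with e | e <;> rw [e]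
      rw [(show Commute z c from Fr.Lf.z_comm F H hc).symm.mul_mul_mul_comm z c, H.st.zz, one_mul]
    have e1' : c * c * (l * e1) = l * e1 * (c * c) := (mul_inv_eq_iff_eq_mul.1 e0).symm
    rcases F.C.act_eq H.st ha' hlA with e | e <;> rw [e]
    · exact e1'
    · rw [← mul_assoc, ← (show Commute z (c * c) from Fr.Lf.z_comm F H (Fr.Lf.mul F H hc hc)).eq, mul_assoc, e1',
        mul_assoc z]
  have hcc : c * c * (c * c) = z := by
    refine Fr.Lf.sq_transfer F H (Fr.Lf.mul F H h1 h3) (Fr.Lf.mul F H hc hc) (h := evalW (sqC β0)) ?_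
      (Or.inr rfl) s13
    rw [← evalW_single 1, ← evalW_single 3, ← invW_eval, ← evalW_append, ← evalW_append, ← evalW_append,
      ← evalW_append]
    exact evalW_eq hsq
  rw [← hmirk]
  exact (F.mirror_sq H (hcom _ hpk') hcc).1

/-- Anticommuting lifts of two commuting transvections isolate the involution. -/
theorem isolated_anti {a1 a3 : G} (h1 : F.Lf a1 (gen 1)) (h3 : F.Lf a3 (gen 3))
    (hanti : a3 * a1 = z * (a1 * a3)) (g : G) (hg : g * z * g⁻¹ ∈ Cz z) : g * z * g⁻¹ = z := by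
  by_contra hne
  -- every conjugate in the centraliser has the shape of a transvection
  have shape : ∀ a ∈ Cz z, IsK z a → a ≠ z → ∃ c ∈ Cz z, ∃ v b, c * a * c⁻¹ = F.C.j v b * a1 ∧
      app (gL 1) v = v ∧ qq bA v = false := by
    rintro _ ha ⟨g, rfl⟩ ha'
    refine (F.mirror_anti H h1 h3 hanti ha ha').2 ?_
    have hm : g⁻¹ * z * g ∈ Cz z := F.pull H (mem_Cz.1 ha).symm
    have hm' : g⁻¹ * z * g ≠ z := fun e => ha' (by
      calc g * z * g⁻¹ = g * (g⁻¹ * z * g) * g⁻¹ := by rw [e]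
        _ = z := by group)
    have h2 := (F.mirror_anti H h1 h3 hanti (g := g⁻¹) (by rwa [inv_inv]) (by rwa [inv_inv])).1
    rwa [inv_inv] at h2
  have za : ∀ a ∈ Cz z, IsK z a → a ≠ z → IsK z (z * a) := by
    intro a ha hK ha'
    obtain ⟨c, hc, v, b, he, hfix, hq⟩ := shape a ha hK ha'
    have hzc : ∀ x, c⁻¹ * (z * x) * c = z * (c⁻¹ * x * c) := fun x => by
      calc c⁻¹ * (z * x) * c = (c⁻¹ * z) * x * c := by group
        _ = (z * c⁻¹) * x * c := by rw [← mem_Cz.1 ((Cz z).inv_mem hc)]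
        _ = _ := by group
    suffices IsK z (z * (F.C.j v b * a1)) by
      have := this.conj c⁻¹
      rwa [inv_inv, hzc, ← he, show c⁻¹ * (c * a * c⁻¹) * c = a by group] at this
    have hX : IsK z (F.C.j v b * a1) := he ▸ hK.conj c
    rcases (rep_fix_trans v hfix).2 hq with ⟨u, hu, huv⟩ | h3v
    · have hcomm : F.C.j u false * a1 = a1 * F.C.j u false := by
        have := Fr.Lf.conj_j F H h1 u false
        rw [natL_gen, hu] at this
        exact (mul_inv_eq_iff_eq_mul.1 this).symm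
      have h := hX.conj (F.C.j u false)
      have hanti' : F.C.j u false * F.C.j v b * (F.C.j u false)⁻¹ = z * F.C.j v b := by
        rw [F.C.act_inn u false v b, show app (pinn bA u).M v = v from id_app v, F.C.z_mul]
        have e : (pinn bA u).f bA v = true := by
          by_contra hc
          rw [Bool.not_eq_true] at hc
          have := (F.C.act_comm (F.C.act_inn u false) v b).2 ⟨id_app v, hc⟩
          rw [F.C.comm_iff, huv] at this
          exact Bool.noConfusion this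
        rw [e]
        cases b <;> rfl
      rwa [show F.C.j u false * (F.C.j v b * a1) * (F.C.j u false)⁻¹ =
        F.C.j u false * F.C.j v b * (F.C.j u false)⁻¹ * (F.C.j u false * a1 * (F.C.j u false)⁻¹) by group,
        hanti', hcomm, mul_inv_cancel_right, mul_assoc] at h
    · have h := hX.conj a3
      have e1 : a3 * F.C.j v b * a3⁻¹ = F.C.j v b := by
        have := Fr.Lf.conj_j F H h3 v b
        rwa [natL_gen, h3v] at this
      have e2 : a3 * a1 * a3⁻¹ = z * a1 := by rw [hanti]; group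
      rwa [show a3 * (F.C.j v b * a1) * a3⁻¹ = a3 * F.C.j v b * a3⁻¹ * (a3 * a1 * a3⁻¹) by group, e1, e2,
        ← mul_assoc, F.C.mul_z, ← F.C.z_mul, mul_assoc] at h
  -- two commuting conjugates have a conjugate as product
  have prule : ∀ y u, IsK z y → IsK z u → u * y = y * u → u ≠ y → IsK z (y * u) := by
    rintro y u ⟨h, rfl⟩ hu hcom hne'
    have hu' : IsK z (h⁻¹ * u * h) := by
      have := hu.conj h⁻¹
      rwa [inv_inv] at this
    have := (za _ (F.pull H hcom) hu' fun e => hne' (by rw [← e]; group)).conj h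
    rwa [show h * (z * (h⁻¹ * u * h)) * h⁻¹ = h * z * h⁻¹ * u by group] at this
  obtain ⟨c, hc, v, b, he, hfix, -⟩ := shape _ hg ⟨g, rfl⟩ hne
  set x := c * (g * z * g⁻¹) * c⁻¹ with hx
  have hxK : IsK z x := IsK.conj (z := z) (x := g * z * g⁻¹) ⟨g, rfl⟩ c
  set y := F.C.j 4 false * x * (F.C.j 4 false)⁻¹ with hy
  obtain ⟨m4, m5⟩ := move_four
  obtain ⟨d, hd⟩ : ∃ d, y * x⁻¹ = F.C.j 5 d := by
    have hA := F.C.act_mul (F.C.act_inn v b) h1.2.2
    rw [natL_gen] at hA
    rw [← he] at hA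
    rw [hy, show F.C.j 4 false * x * (F.C.j 4 false)⁻¹ * x⁻¹ = F.C.j 4 false * (x * (F.C.j 4 false)⁻¹ * x⁻¹) by group,
      F.C.j_inv, hA, show (pmul bA (pinn bA v) ⟨gL 1, 0⟩).M = gL 1 from id_comp _, m4, F.C.mul, m5]
    exact ⟨_, rfl⟩
  have hcx : F.C.j 5 d * x = x * F.C.j 5 d := by
    have e1 : a1 * F.C.j 5 d = F.C.j 5 d * a1 := by
      have := Fr.Lf.conj_j F H h1 5 d
      rw [natL_gen, trans_line.2.2.2.2.2] at this
      exact mul_inv_eq_iff_eq_mul.1 this
    rw [he, mul_assoc (F.C.j v b), e1, ← mul_assoc, ← mul_assoc,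
      (F.C.comm_iff 5 v d b).2 (rep_fix_trans v hfix).1]
  have hyx : y = F.C.j 5 d * x := by rw [← hd]; group
  have hxx : x * x = 1 := by obtain ⟨h, e⟩ := hxK; rw [← e, (H.st.conj h).zz]
  have h5ne : F.C.j 5 d ≠ 1 ∧ F.C.j 5 d ≠ z :=
    ⟨fun e => absurd (F.C.inj _ _ 0 false (e.trans F.C.j_one.symm)).1 (by decide),
      fun e => absurd (F.C.inj _ _ 0 true (e.trans F.C.j_z.symm)).1 (by decide)⟩
  have hprod : IsK z (y * x) := prule y x (hxK.conj _) hxK
    (by rw [hyx, ← mul_assoc, ← hcx]) (fun e => h5ne.1 (by rw [← hd, ← e, mul_inv_cancel]))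
  rw [hyx, mul_assoc, hxx, mul_one] at hprod
  obtain ⟨h, hh⟩ := hprod
  exact h5ne.2 (hh.symm.trans (F.weakly_closed H kindA h (hh ▸ F.C.mem _ _)))

end Fr

end CfsgLib.USixTwo
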