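import Cfsg.Agent.Lib.USixTwo.IsoB
import Cfsg.Agent.Lib.USixType.Extension

/-!
The natural case: lifts of `SU₄(2)` without signs and the outer element with the quadratic form as signs.
-/

set_option autoImplicit false
set_option linter.unusedSectionVars false
set_option linter.style.haveILetI false
set_option maxRecDepth 100000

open Cfsg CfsgLib.Extraspecial CfsgLib.USixType

namespace CfsgLib.USixTwo

theorem f_sgA : ∀ v : V8, af bA sgA 255 v = qq bA v := by decide +kernel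

theorem sgA_pair : pmul bA ⟨idL, 255⟩ pone = ⟨idL, 255⟩ ∧ pmul bA ⟨sgA, 0⟩ ⟨idL, 255⟩ = ⟨sgA, 255⟩ ∧
    pmul bA ⟨sgA, 255⟩ ⟨sgA, 255⟩ = pone := by decide +kernel

theorem kindA : Kind bA gL sgA := Or.inl ⟨rfl, rfl, rfl⟩

theorem qq_nat (g : G4) (v : V8) : qq bA (app (natL g) v) = qq bA v := bA_natL g v v

theorem f_nat (g : G4) (v : V8) : (⟨natL g, 0⟩ : PR).f bA v = false := by
  show af bA (natL g) 0 v = false
  have h0 : ∀ v : V8, linD 0 v = false := by decide +kernel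
  rw [af, h0, Bool.false_xor]
  have e : gam bA (natL g) = fun _ _ => false := by
    funext a b; rw [gam, bA_natL, Bool.xor_self]
  have h : ∀ v : V8, lowG (fun _ _ => false) v v = false := by decide +kernel
  rw [e, h]

namespace Fr

variable {G : Type*} [Group G] [Finite G] {z : G} {Q : Subgroup G} {π : ↥(Cz z) →* MulAut G4}
  (F : Fr z Q π bA gL sgA) (H : Two z Q π)

/-- A lift without signs. -/
def Lf (x : G) (g : G4) : Prop :=
  x ∈ inn π ∧ aut z π x = MulAut.conj g ∧ F.C.Act x ⟨natL g, 0⟩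

include H

theorem Lf.conj_j {x : G} {g : G4} (h : F.Lf x g) (v : V8) (b : Bool) :
    x * F.C.j v b * x⁻¹ = F.C.j (app (natL g) v) b := by
  rw [h.2.2, f_nat, Bool.xor_false]

theorem lf_of {x : G} {g : G4} (hx : x ∈ inn π) (hg : aut z π x = MulAut.conj g)
    (h : ∀ v b, x * F.C.j v b * x⁻¹ = F.C.j (app (natL g) v) b) : F.Lf x g :=
  ⟨hx, hg, fun v b => by rw [h, f_nat, Bool.xor_false]⟩

theorem exists_lf (g : G4) : ∃ x, F.Lf x g := by
  obtain ⟨x, hx, hg, hA⟩ := F.exists_act H kindA g 0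
  rw [natL_L F.M rfl] at hA
  exact ⟨x, hx, hg, hA⟩

theorem lf_one : F.Lf 1 1 :=
  F.lf_of H (inn π).one_mem (by rw [H.aut_Q Q.one_mem, map_one]) fun v b => by
    rw [natL_one, id_app]; group

theorem lf_z : F.Lf z 1 :=
  F.lf_of H H.z_inn (by rw [H.aut_Q H.st.z_mem, map_one]) fun v b => by
    rw [natL_one, id_app, F.C.z_mul, H.st.inv_z, F.C.mul_z, Bool.not_not]

theorem Lf.mul {x y : G} {g h : G4} (hx : F.Lf x g) (hy : F.Lf y h) : F.Lf (x * y) (g * h) := by
  refine F.lf_of H ((inn π).mul_mem hx.1 hy.1) (by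
    rw [H.aut_mul (H.inn_le hx.1) (H.inn_le hy.1), hx.2.1, hy.2.1, map_mul]) fun v b => ?_
  rw [natL_mul, app_comp, ← Fr.Lf.conj_j F H hx, ← Fr.Lf.conj_j F H hy]
  group

theorem Lf.inv {x : G} {g : G4} (hx : F.Lf x g) : F.Lf x⁻¹ g⁻¹ := by
  refine F.lf_of H ((inn π).inv_mem hx.1) (by
    rw [H.aut_inv (H.inn_le hx.1), hx.2.1, map_inv]) fun v b => ?_
  have h := Fr.Lf.conj_j F H hx (app (natL g⁻¹) v) b
  rw [← app_comp, ← natL_mul, mul_inv_cancel, natL_one, id_app] at h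
  rw [← h]; group

theorem Lf.unique {x y : G} {g : G4} (hx : F.Lf x g) (hy : F.Lf y g) : x = y ∨ x = z * y :=
  F.C.act_eq H.st hx.2.2 hy.2.2

theorem Lf.z_comm {x : G} {g : G4} (hx : F.Lf x g) : z * x = x * z := (mem_Cz.1 (H.inn_le hx.1)).symm

theorem Lf.sq_transfer {a a' : G} {g h k : G4} (ha : F.Lf a g) (ha' : F.Lf a' k) (e : h * g * h⁻¹ = k) {u : G}
    (hu : u = 1 ∨ u = z) (haa : a * a = u) : a' * a' = u := by
  obtain ⟨c, hc⟩ := F.exists_lf H h
  have hm := Fr.Lf.mul F H (Fr.Lf.mul F H hc ha) (Fr.Lf.inv F H hc)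
  rw [e] at hm
  have base : c * a * c⁻¹ * (c * a * c⁻¹) = u := by
    calc c * a * c⁻¹ * (c * a * c⁻¹) = c * (a * a) * c⁻¹ := by group
      _ = u := by
        rw [haa]
        rcases hu with rfl | rfl
        · group
        · rw [← Fr.Lf.z_comm F H hc]; group
  rcases Fr.Lf.unique F H ha' hm with rfl | rfl
  · exact base
  · rw [(show Commute z (c * a * c⁻¹) from Fr.Lf.z_comm F H hm).symm.mul_mul_mul_comm z _, H.st.zz, one_mul]
    exact base

/-- The coordinates over the inner subgroup. -/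
theorem exists_sub : ∃ (π0 : ↥(Cz (⟨z, H.z_inn⟩ : inn π)) →* G4)
    (_ : Pre (⟨z, H.z_inn⟩ : inn π) (Q.subgroupOf (inn π)) π0)
    (C0 : Co (⟨z, H.z_inn⟩ : inn π) (Q.subgroupOf (inn π)) π0 bA gL),
    (∀ x : inn π, aut z π (x : G) = MulAut.conj (img (⟨z, H.z_inn⟩ : inn π) π0 x)) ∧
      ∀ v b, (C0.j v b : G) = F.C.j v b := by
  classical
  set K := inn π with hK
  let z0 : K := ⟨z, H.z_inn⟩
  have hex : ∀ x : ↥(Cz z0), ∃ g, aut z π ((x : K) : G) = MulAut.conj g := fun x => (H.mem_inn.1 (x : K).2).2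
  choose f hf using hex
  let π0 : ↥(Cz z0) →* G4 := MonoidHom.mk' f fun a b => conj_inj (by
    rw [← hf, map_mul, ← hf, ← hf]
    exact H.aut_mul (H.inn_le (a : K).2) (H.inn_le (b : K).2))
  have htop : ∀ x : K, x ∈ Cz z0 := fun x => mem_Cz.2 (Subtype.ext (mem_Cz.1 (H.inn_le x.2)))
  have P : Pre z0 (Q.subgroupOf K) π0 := by
    refine ⟨setting_sub H.st H.Q_inn H.inn_le H.z_inn, ?_, ?_, fun g => ?_⟩
    · rw [Nat.card_congr (Subgroup.subgroupOfEquivOfLe H.Q_inn).toEquiv, H.card]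
    · ext x
      rw [MonoidHom.mem_ker, Subgroup.mem_subgroupOf, Subgroup.mem_subgroupOf,
        ← H.aut_eq_one (H.inn_le (x : K).2), hf]
      show f x = 1 ↔ _
      rw [← (MulAut.conj : G4 →* MulAut G4).map_one, conj_inj.eq_iff]
    · obtain ⟨c, hc, e⟩ := H.lift (MulAut.conj g)
      refine ⟨⟨⟨c, H.mem_inn.2 ⟨hc, g, e⟩⟩, htop _⟩, conj_inj ?_⟩
      show MulAut.conj (f _) = _
      rw [← hf]; exact e
  have himg : ∀ x : K, aut z π (x : G) = MulAut.conj (img z0 π0 x) := fun x => by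
    rw [img, dif_pos (htop x)]
    exact hf ⟨x, htop x⟩
  let C0 : Co z0 (Q.subgroupOf K) π0 bA gL :=
    { M := F.M
      j := fun v b => ⟨F.C.j v b, H.Q_inn (F.C.mem v b)⟩
      bil := F.C.bil
      mem := fun v b => F.C.mem v b
      surj := fun q hq => by
        obtain ⟨v, b, h⟩ := F.C.surj (q : G) hq
        exact ⟨v, b, Subtype.ext h⟩
      inj := fun v b w d h => F.C.inj v b w d (congrArg Subtype.val h)
      mul := fun v b w d => Subtype.ext (F.C.mul v b w d)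
      j_z := Subtype.ext F.C.j_z
      conj := fun c _ v b => by
        obtain ⟨d, hd⟩ := F.inner_j H (H.inn_le c.2) (himg c) v b
        exact ⟨d, Subtype.ext hd⟩ }
  exact ⟨π0, P, C0, himg, fun _ _ => rfl⟩

/-- The lift of a transvection is an involution. -/
theorem lf_gen1_sq {a : G} (ha : F.Lf a (gen 1)) : a * a = 1 := by
  obtain ⟨π0, P, C0, himg, hj⟩ := F.exists_sub H
  let a0 : inn π := ⟨a, ha.1⟩
  have hi : img (⟨z, H.z_inn⟩ : inn π) π0 a0 = gen 1 := conj_inj ((himg a0).symm.trans ha.2.1)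
  have hL : a0 ∈ C0.Lh P := ⟨mem_Cz.2 (Subtype.ext (mem_Cz.1 (H.inn_le ha.1))), fun v b => by
    rw [hi]
    refine Subtype.ext ?_
    show a * (C0.j v b : G) * a⁻¹ = (C0.j _ b : G)
    rw [hj, hj]; exact Fr.Lf.conj_j F H ha v b⟩
  exact congrArg Subtype.val (C0.transvection_sq P hL hi)

/-- A homomorphic section, if the lifts of two transvections commute. -/
theorem exists_s {a1 a3 : G} (h1 : F.Lf a1 (gen 1)) (h3 : F.Lf a3 (gen 3)) (hcom : a3 * a1 = a1 * a3) :
    ∃ s : G4 →* G, ∀ g, F.Lf (s g) g := by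
  obtain ⟨π0, P, C0, himg, hj⟩ := F.exists_sub H
  have mk : ∀ {a : G} {g : G4} (ha : F.Lf a g),
      (⟨a, ha.1⟩ : inn π) ∈ C0.Lh P ∧ img (⟨z, H.z_inn⟩ : inn π) π0 ⟨a, ha.1⟩ = g := by
    intro a g ha
    have hi : img (⟨z, H.z_inn⟩ : inn π) π0 ⟨a, ha.1⟩ = g := conj_inj ((himg ⟨a, ha.1⟩).symm.trans ha.2.1)
    refine ⟨⟨mem_Cz.2 (Subtype.ext (mem_Cz.1 (H.inn_le ha.1))), fun v b => ?_⟩, hi⟩
    rw [hi]
    refine Subtype.ext ?_
    show a * (C0.j v b : G) * a⁻¹ = (C0.j _ b : G)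
    rw [hj, hj]; exact Fr.Lf.conj_j F H ha v b
  obtain ⟨s, hs⟩ := C0.exists_section P (mk h1).1 (mk h3).1 (mk h1).2 (mk h3).2 (Subtype.ext hcom)
  refine ⟨(inn π).subtype.comp s, fun g => F.lf_of H (s g).2 ?_ fun v b => ?_⟩
  · show aut z π ((s g : inn π) : G) = _
    rw [himg, (hs g).2]
  · have := congrArg Subtype.val (C0.Lh_conj P (hs g).1 v b)
    rw [(hs g).2] at this
    show (s g : G) * F.C.j v b * (s g : G)⁻¹ = _
    rw [← hj, ← hj]
    exact this

/-- The outer element. -/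
theorem exists_e1 : ∃ e1 ∈ Cz z, e1 ∉ inn π ∧ aut z π e1 = al ∧ F.C.Act e1 ⟨sgA, 255⟩ := by
  obtain ⟨x, hx, hg, hA⟩ := F.exists_act H kindA 1 255
  rw [natL_L F.M rfl, natL_one] at hA
  have ha : aut z π (F.e * x) = al := by
    rw [H.aut_mul F.eC (H.inn_le hx), hg, F.eAut, map_one, mul_one]
  exact ⟨F.e * x, (Cz z).mul_mem F.eC (H.inn_le hx), H.al_not_inn ha, ha, sgA_pair.2.1 ▸ F.C.act_mul F.eAct hA⟩

/-- The outer element normalises the lifts. -/
theorem Lf.outer {e1 x : G} {g : G4} (he : e1 ∈ Cz z) (hea : aut z π e1 = al)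
    (heA : F.C.Act e1 ⟨sgA, 255⟩) (hx : F.Lf x g) : F.Lf (e1 * x * e1⁻¹) (al g) := by
  have hee : ∀ v b, e1⁻¹ * F.C.j v b * e1 = F.C.j (app sgA v) (b ^^ qq bA v) := by
    intro v b
    have h := heA (app sgA v) (b ^^ qq bA v)
    rw [← app_comp, sgA_facts.1, id_app, show (⟨sgA, 255⟩ : PR).f bA (app sgA v) = qq bA v from
      (f_sgA _).trans (by
        have e : ∀ v : V8, qq bA (app sgA v) = qq bA v := by decide +kernel
        exact e v), show ((b ^^ qq bA v) ^^ qq bA v) = b by cases b <;> cases qq bA v <;> rfl] at h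
    rw [← h]; group
  refine F.lf_of H (H.inn_conj he hx.1) ?_ fun v b => ?_
  · rw [H.aut_conj he (H.inn_le hx.1), hea, hx.2.1]
    exact MulEquiv.ext fun y => by simp [MulAut.mul_apply, map_mul]
  · calc e1 * x * e1⁻¹ * F.C.j v b * (e1 * x * e1⁻¹)⁻¹ = e1 * (x * (e1⁻¹ * F.C.j v b * e1) * x⁻¹) * e1⁻¹ := by
          group
      _ = F.C.j (app (natL (al g)) v) b := by
        rw [hee, Fr.Lf.conj_j F H hx, heA, show (⟨sgA, 255⟩ : PR).f bA (app (natL g) (app sgA v)) = qq bA v from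
          (f_sgA _).trans ((qq_nat _ _).trans (by
            have e : ∀ v : V8, qq bA (app sgA v) = qq bA v := by decide +kernel
            exact e v))]
        show F.C.j (app sgA (app (natL g) (app sgA v))) _ = F.C.j (app (natL (alF g)) v) b
        rw [natL_alF, app_comp, app_comp]
        congr 1
        cases b <;> cases qq bA v <;> rfl

end Fr

end CfsgLib.USixTwo
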