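import Cfsg.Agent.Lib.USixTwo.Quot
import Cfsg.Agent.Lib.USixType.Action

/-!
Tables for the split natural case.
-/

set_option autoImplicit false
set_option linter.unusedSectionVars false
set_option linter.style.haveILetI false
set_option maxRecDepth 100000

open Cfsg CfsgLib.Extraspecial CfsgLib.USixType

namespace CfsgLib.USixTwo

/-- The standard outer matrix with sixteen fixed points. -/
def m36 : Lin := comp (linW gL [1, 3]) sgA

/-- Its fixed points. -/
def fix36 : List V8 := [0, 5, 11, 14, 80, 85, 91, 94, 176, 181, 187, 190, 224, 229, 235, 238]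

/-- The units as `ω a + b` with fixed `a`, `b`. -/
def omPair : Fin 8 → V8 × V8 :=
  ![(5, 11), (14, 5), (5, 14), (11, 5), (80, 176), (224, 80), (80, 224), (176, 80)]

/-- A group of order sixteen centralising the standard outer element. -/
def pgW : List (List (Fin 5)) := [[0, 4, 0], [4], [1], [3]]

/-- An element of order five centralising it. -/
def fiveD : List (Fin 5) := [4, 2, 3, 1, 2, 0]

/-- The units spanned by the images of the first one under powers of the element of order five. -/
def fiveSpan : Fin 8 → List (Fin 5 × Bool) :=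
  ![[(0, false)], [(0, true)], [(0, false), (1, false), (1, true), (2, true), (3, true)],
    [(0, true), (1, false), (2, false), (2, true), (3, false), (3, true)],
    [(0, false), (0, true), (1, true), (3, true)], [(0, false), (1, false), (1, true), (3, false), (3, true)],
    [(2, true), (3, true)], [(2, false), (2, true), (3, false), (3, true)]]

/-- Images of a vector under a power of a matrix, possibly times `ω`. -/
def fiveImg (y : V8) (p : Fin 5 × Bool) : V8 :=
  let x := (List.replicate p.1.1 (linW gL fiveD)).foldr app y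
  cond p.2 (app omL x) x

/-- The candidate with the given first image. -/
def fiveCand (y : V8) : Lin :=
  let c := fun i => ((fiveSpan i).map (fiveImg y)).foldr xr 0
  ⟨c 0, c 1, c 2, c 3, c 4, c 5, c 6, c 7⟩

/-- The words for moving vectors to all units. -/
def spanT : Fin 8 → List (Fin 5 × Fin 8) :=
  ![[(0, 1)], [(0, 0), (0, 1)], [(0, 2), (0, 3)], [(0, 2)], [(0, 2), (0, 3), (2, 2)], [(0, 2), (2, 3)],
    [(0, 2), (0, 3), (2, 2), (3, 4)], [(0, 2), (2, 3), (3, 5)]]

theorem m36_fix : ∀ v : V8, app m36 v = v → v ∈ fix36 := by decide +kernel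

theorem fix36_ok : ∀ v ∈ fix36, app m36 v = v ∧ qq bA v = false := by decide +kernel

theorem omPair_ok : ∀ i, (omPair i).1 ∈ fix36 ∧ (omPair i).2 ∈ fix36 ∧
    xr (app omL (omPair i).1) (omPair i).2 = un i := by decide +kernel

theorem pgW_ok : (decide (plist gL pgW).Nodup && (pgW.all fun w => (plist gL pgW).all fun L =>
      (plist gL pgW).contains (comp (linW gL w) L))) = true ∧
    ∀ w ∈ fiveD :: [3, 0] :: pgW,
      comp (linW gL [1, 3]) (comp (comp sgA (comp (linW gL w) sgA)) (linW gL (invW [1, 3]))) = linW gL w := by
  decide +kernel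

theorem pgW_fix : ∀ v ∈ fix36, (∀ w ∈ pgW, app (linW gL w) v = v) → v = 0 ∨ v = 80 := by decide +kernel

theorem g13_al : comp sgA (comp (linW gL [1, 3]) sgA) = linW gL [1, 3] ∧
    linW gL ([1, 3] ++ [1, 3]) = linW gL [] := by decide +kernel

theorem move80 : app m36 16 = xr 16 80 := by decide +kernel

theorem commut85 : xr (app (linW gL [3, 0]) 190) 190 = 85 ∧ xr (app (linW gL [4]) 11) 11 = 85 ∧
    bA (app (linW gL [3, 0]) 190) 190 = false ∧ bA (app (linW gL [4]) 11) 11 = true ∧
    qq bA 190 = false ∧ qq bA 11 = false := by decide +kernel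

theorem five_ord : linW gL (fiveD ++ fiveD ++ fiveD ++ fiveD ++ fiveD) = linW gL [] ∧
    linW gL fiveD ≠ idL := by decide +kernel

theorem five_span : ∀ i : Fin 8, ((fiveSpan i).map (fiveImg 1)).foldr xr 0 = un i := by decide +kernel

set_option maxHeartbeats 4000000 in
theorem five_cent : ∀ y : V8, comp (fiveCand y) (fiveCand y) = idL →
    comp (fiveCand y) (linW gL fiveD) = comp (linW gL fiveD) (fiveCand y) → fiveCand y = idL := by
  decide +kernel

theorem spanT_ok : ∀ j, ((spanT j).map fun p => xr (app (gL p.1) (un p.2)) (un p.2)).foldr xr 0 = un j := by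
  decide +kernel

end CfsgLib.USixTwo
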