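import Cfsg.Agent.Lib.USixTwo.AModel
import Cfsg.Agent.Lib.USixTwo.ASData
import Cfsg.Agent.Lib.USixTwo.Transfer
import Cfsg.Agent.Lib.USixType.Classes

/-!
The natural case with commuting lifts: a subgroup of index two.
-/

set_option autoImplicit false
set_option linter.unusedSectionVars false
set_option linter.style.haveILetI false
set_option maxRecDepth 100000

open Cfsg CfsgLib.Extraspecial CfsgLib.USixType

namespace CfsgLib.USixTwo

/-- `SU₄(2)` has no abelian quotient. -/
theorem hom_trivial {A : Type*} [Group A] (χ : G4 →* A) (hc : ∀ x y, χ x * χ y = χ y * χ x) (g : G4) :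
    χ g = 1 := by
  set a := χ (gen 0) with ha
  have conj : ∀ x, χ (x * gen 0 * x⁻¹) = a := fun x => by
    rw [map_mul, map_mul, map_inv, hc x, mul_inv_cancel_right]
  have hprod : ∀ l : List (List (Fin 5)),
      χ (evalW ((l.map fun w => w ++ [0] ++ invW w).flatten)) = a ^ l.length := by
    intro l
    induction l with
    | nil => show χ 1 = a ^ 0; rw [pow_zero, map_one]
    | cons w l ih =>
      rw [List.map_cons, List.flatten_cons, evalW_append, map_mul, ih, evalW_append, evalW_append,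
        evalW_single, invW_eval, conj, List.length_cons, pow_succ']
  have hk : ∀ k, χ (gen k) = a ^ (conjW k).length := fun k => by
    rw [← hprod, evalW_eq (conjW_check k), evalW_single]
  have h3 : a * a * a = 1 := by
    rw [ha, ← map_mul, ← map_mul, ← map_one χ]
    congr 1
    refine natL_inj ?_
    rw [natL_mul, natL_mul, natL_one, natL_gen]
    decide +kernel
  have h2 : χ (gen 1) * χ (gen 1) = 1 := by
    rw [← map_mul, ← map_one χ]
    congr 1
    refine natL_inj ?_
    rw [natL_mul, natL_one, natL_gen]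
    decide +kernel
  have e : a ^ (conjW 1).length = a := by
    rw [show (conjW 1).length = 4 from rfl, pow_succ, pow_succ, pow_succ, pow_one, h3, one_mul]
  rw [hk, e] at h2
  have a1 : a = 1 := by rw [h2, one_mul] at h3; exact h3
  have hgen : ∀ k, χ (gen k) = 1 := fun k => by rw [hk, a1, one_pow]
  have hg : g ∈ Subgroup.closure (Set.range gen) := by rw [gen_top]; exact Subgroup.mem_top g
  exact (Subgroup.closure_le χ.ker).2 (fun x hx => by obtain ⟨k, rfl⟩ := hx; exact hgen k) hg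

/-- An involution does not commute with an element of order five. -/
theorem five_free {g k : G4} (hg : orderOf g = 5) (hk : k * k = 1) (hgk : g * k = k * g) : k = 1 := by
  classical
  haveI : Fact (Nat.Prime 5) := ⟨by norm_num⟩
  have hd : orderOf (evalW fiveD) = 5 := orderOf_eq_prime
    (by
      have h : evalW (fiveD ++ fiveD ++ fiveD ++ fiveD ++ fiveD) = evalW [] := evalW_eq five_ord.1
      simp only [evalW_append] at h
      rw [pow_succ, pow_succ, pow_succ, pow_succ, pow_one]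
      exact h)
    (fun e => five_ord.2 (by rw [← natL_evalW, e, natL_one]))
  have hf : (Nat.card G4).factorization 5 = 1 := by
    rw [card_G4, show (25920 : ℕ) = 5 ^ 1 * 5184 from rfl, Nat.factorization_mul (by norm_num) (by norm_num),
      Finsupp.add_apply, Nat.Prime.factorization_pow (by norm_num), Finsupp.single_eq_same,
      Nat.factorization_eq_zero_of_not_dvd (by norm_num : ¬(5 ∣ 5184))]
  let P : Sylow 5 G4 := Sylow.ofCard (Subgroup.zpowers g) (by rw [Nat.card_zpowers, hg, hf, pow_one])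
  let R : Sylow 5 G4 := Sylow.ofCard (Subgroup.zpowers (evalW fiveD)) (by rw [Nat.card_zpowers, hd, hf, pow_one])
  obtain ⟨h, hh⟩ := MulAction.exists_smul_eq G4 P R
  have hmem : evalW fiveD ∈ (R : Subgroup G4) := Subgroup.mem_zpowers _
  rw [← hh] at hmem
  obtain ⟨y, hy, hye⟩ := hmem
  obtain ⟨n, rfl⟩ := Subgroup.mem_zpowers_iff.1 (show y ∈ Subgroup.zpowers g from hy)
  set k' := h * k * h⁻¹ with hk'
  have hc : evalW fiveD * k' = k' * evalW fiveD := by
    rw [← hye]
    show h * g ^ n * h⁻¹ * (h * k * h⁻¹) = h * k * h⁻¹ * (h * g ^ n * h⁻¹)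
    calc h * g ^ n * h⁻¹ * (h * k * h⁻¹) = h * (g ^ n * k) * h⁻¹ := by group
      _ = h * (k * g ^ n) * h⁻¹ := by rw [((show Commute g k from hgk).zpow_left n).eq]
      _ = _ := by group
  suffices k' = 1 by
    rw [hk'] at this
    exact conj_eq_one_iff.1 this
  set K := natL k' with hK
  have hKD : comp K (linW gL fiveD) = comp (linW gL fiveD) K := by
    rw [← natL_evalW, hK, ← natL_mul, ← natL_mul, hc]
  have hK2 : comp K K = idL := by
    rw [hK, ← natL_mul, hk', show h * k * h⁻¹ * (h * k * h⁻¹) = h * (k * k) * h⁻¹ by group, hk, mul_one,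
      mul_inv_cancel, natL_one]
  have hKo : ∀ v, app K (app omL v) = app omL (app K v) := fun v => by
    rw [hK, ← app_comp, ← omL_natL, app_comp]
  have hKp : ∀ (n : ℕ) (v : V8), app K ((List.replicate n (linW gL fiveD)).foldr app v) =
      (List.replicate n (linW gL fiveD)).foldr app (app K v) := fun n v => by
    induction n with
    | zero => rfl
    | succ n ih => rw [List.replicate_succ, List.foldr_cons, List.foldr_cons, ← app_comp, hKD, app_comp, ih]
  have himg : ∀ p, app K (fiveImg 1 p) = fiveImg (app K 1) p := by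
    rintro ⟨i, _ | _⟩
    · exact hKp i.1 1
    · show app K (app omL _) = app omL _
      rw [hKo, hKp]
  have hsum : ∀ l : List (Fin 5 × Bool), app K ((l.map (fiveImg 1)).foldr xr 0) =
      (l.map (fiveImg (app K 1))).foldr xr 0 := fun l => by
    induction l with
    | nil => exact app_zero _
    | cons p l ih => rw [List.map_cons, List.map_cons, List.foldr_cons, List.foldr_cons, app_xr, ih, himg]
  have hC : K = fiveCand (app K 1) := lin_ext_un fun i => by
    conv_lhs => rw [← five_span i, hsum]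
    rw [app_un]
    fin_cases i <;> rfl
  have := five_cent (app K 1) (by rw [← hC]; exact hK2) (by rw [← hC]; exact hKD)
  refine natL_inj ?_
  rw [natL_one, ← hK, hC, this]

theorem al13 : al (evalW [1, 3]) = evalW [1, 3] := natL_inj (by
  show natL (alF _) = _
  rw [natL_alF, natL_evalW]; exact g13_al.1)

/-- The split data. -/
structure Fr.Sp {G : Type*} [Group G] [Finite G] {z : G} {Q : Subgroup G} {π : ↥(Cz z) →* MulAut G4}
    (F : Fr z Q π bA gL sgA) where
  s : G4 →* G
  hs : ∀ g, F.Lf (s g) g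
  e1 : G
  eC : e1 ∈ Cz z
  eo : e1 ∉ inn π
  ea : aut z π e1 = al
  eA : F.C.Act e1 ⟨sgA, 255⟩
  es : ∀ g, e1 * s g * e1⁻¹ = s (al g)
  ee : e1 * e1 = 1 ∨ e1 * e1 = z

namespace Fr

variable {G : Type*} [Group G] [Finite G] {z : G} {Q : Subgroup G} {π : ↥(Cz z) →* MulAut G4}
  (F : Fr z Q π bA gL sgA) (H : Two z Q π)
include F H

theorem exists_split {a1 a3 : G} (h1 : F.Lf a1 (gen 1)) (h3 : F.Lf a3 (gen 3)) (hcom : a3 * a1 = a1 * a3) :
    Nonempty F.Sp := by
  obtain ⟨s, hs⟩ := F.exists_s H h1 h3 hcom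
  obtain ⟨e1, eC, eo, ea, eA⟩ := F.exists_e1 H
  let χ0 : G4 → G := fun g => e1 * s g * e1⁻¹ * (s (al g))⁻¹
  have hval : ∀ g, χ0 g = 1 ∨ χ0 g = z := fun g => by
    rcases Fr.Lf.unique F H (Fr.Lf.outer F H eC ea eA (hs g)) (hs (al g)) with e | e
    · exact Or.inl (mul_inv_eq_one.2 e)
    · exact Or.inr (mul_inv_eq_iff_eq_mul.2 e)
  have hcen : ∀ g h, χ0 g * s h = s h * χ0 g := fun g h => by
    rcases hval g with e | e <;> rw [e]
    · rw [one_mul, mul_one]
    · exact Fr.Lf.z_comm F H (hs h)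
  let χ : G4 →* G := MonoidHom.mk' χ0 fun a b => by
    show e1 * s (a * b) * e1⁻¹ * (s (al (a * b)))⁻¹ = χ0 a * χ0 b
    rw [map_mul al, map_mul s, map_mul s, mul_inv_rev]
    calc e1 * (s a * s b) * e1⁻¹ * ((s (al b))⁻¹ * (s (al a))⁻¹)
        = e1 * s a * e1⁻¹ * (χ0 b * (s (al a))⁻¹) := by simp only [χ0]; group
      _ = e1 * s a * e1⁻¹ * ((s (al a))⁻¹ * χ0 b) := by rw [← map_inv, hcen]
      _ = _ := by simp only [χ0]; group
  refine ⟨⟨s, hs, e1, eC, eo, ea, eA, fun g => ?_, ?_⟩⟩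
  · refine mul_inv_eq_one.1 (hom_trivial χ (fun a b => ?_) g)
    show χ0 a * χ0 b = χ0 b * χ0 a
    rcases hval a with e | e <;> rcases hval b with e' | e' <;> simp [e, e']
  · have h2 := F.C.act_mul eA eA
    rw [sgA_pair.2.2] at h2
    rcases F.C.act_eq H.st h2 F.C.act_one with e | e
    · exact Or.inl e
    · exact Or.inr (e.trans (mul_one z))

namespace Sp

variable {F} (S : F.Sp)

/-- The standard outer element. -/
def t : G := S.s (evalW [1, 3]) * S.e1

omit H

include H

theorem tC : S.t ∈ Cz z := (Cz z).mul_mem (H.inn_le (S.hs _).1) S.eC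

theorem t_out : S.t ∉ inn π := fun h => S.eo (((H.outer_mul (H.inn_le (S.hs _).1) S.eC).1 h).1 (S.hs _).1)

theorem tt : S.t * S.t = S.e1 * S.e1 := by
  rw [t, show S.s (evalW [1, 3]) * S.e1 * (S.s (evalW [1, 3]) * S.e1) =
    S.s (evalW [1, 3]) * (S.e1 * S.s (evalW [1, 3]) * S.e1⁻¹) * (S.e1 * S.e1) by group, S.es, al13,
    ← map_mul, ← evalW_append, evalW_eq g13_al.2, evalW, map_one, one_mul]

theorem outer_conj (g : G4) (v : V8) (b : Bool) :
    S.s g * S.e1 * F.C.j v b * (S.s g * S.e1)⁻¹ = F.C.j (app (comp (natL g) sgA) v) (b ^^ qq bA v) := by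
  rw [show S.s g * S.e1 * F.C.j v b * (S.s g * S.e1)⁻¹ =
    S.s g * (S.e1 * F.C.j v b * S.e1⁻¹) * (S.s g)⁻¹ by group, S.eA,
    show (⟨sgA, 255⟩ : PR).f bA v = qq bA v from f_sgA v, Fr.Lf.conj_j F H (S.hs g), app_comp]

theorem t_conj (v : V8) (b : Bool) : S.t * F.C.j v b * S.t⁻¹ = F.C.j (app m36 v) (b ^^ qq bA v) := by
  rw [t, S.outer_conj H, natL_evalW]
  rfl

theorem t_s {w : List (Fin 5)}
    (hw : comp (linW gL [1, 3]) (comp (comp sgA (comp (linW gL w) sgA)) (linW gL (invW [1, 3]))) = linW gL w) :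
    S.s (evalW w) * S.t = S.t * S.s (evalW w) := by
  refine (mul_inv_eq_iff_eq_mul.1 ?_).symm
  rw [t, show S.s (evalW [1, 3]) * S.e1 * S.s (evalW w) * (S.s (evalW [1, 3]) * S.e1)⁻¹ =
    S.s (evalW [1, 3]) * (S.e1 * S.s (evalW w) * S.e1⁻¹) * (S.s (evalW [1, 3]))⁻¹ by group, S.es, ← map_inv,
    ← map_mul, ← map_mul]
  congr 1
  refine natL_inj ?_
  rw [← invW_eval, natL_mul, natL_mul, comp_assoc, natL_evalW, natL_evalW, natL_evalW]
  show comp _ (comp (natL (alF _)) _) = _
  rw [natL_alF, natL_evalW]; exact hw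

theorem t_j {v : V8} (hv : v ∈ fix36) (b : Bool) : F.C.j v b * S.t = S.t * F.C.j v b := by
  refine (mul_inv_eq_iff_eq_mul.1 ?_).symm
  rw [S.t_conj H, (fix36_ok v hv).1, (fix36_ok v hv).2, Bool.xor_false]

/-- The normal form of an outer element. -/
theorem outer_form {x : G} (hx : x ∈ Cz z) (ho : x ∉ inn π) :
    ∃ g v b, aut z π x = MulAut.conj g * al ∧ x = F.C.j v b * (S.s g * S.e1) := by
  obtain ⟨g, ⟨-, h⟩ | ⟨hg, -⟩⟩ := F.act_cases H hx
  · exact absurd h ho
  have hgC : S.s g * S.e1 ∈ Cz z := (Cz z).mul_mem (H.inn_le (S.hs g).1) S.eC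
  have hq : x * (S.s g * S.e1)⁻¹ ∈ Q := by
    refine (H.aut_eq_one ((Cz z).mul_mem hx ((Cz z).inv_mem hgC))).1 ?_
    rw [H.aut_mul hx ((Cz z).inv_mem hgC), H.aut_inv hgC, H.aut_mul (H.inn_le (S.hs g).1) S.eC, hg, (S.hs g).2.1,
      S.ea, mul_inv_cancel]
  obtain ⟨v, b, hvb⟩ := F.C.surj _ hq
  exact ⟨g, v, b, hg, by rw [hvb, inv_mul_cancel_right]⟩

/-- If the outer element squares to `z` there are no outer involutions. -/
theorem no_outer (hz : S.e1 * S.e1 = z) {x : G} (hx : x ∈ Cz z) (xx : x * x = 1) : x ∈ inn π := by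
  by_contra ho
  obtain ⟨g, v, b, hg, he⟩ := S.outer_form H hx ho
  have hgg : g * al g = 1 := conj_inj (by
    have h := H.aut_mul hx hx
    rw [xx, H.aut_Q Q.one_mem, hg] at h
    rw [map_one, h, map_mul]
    refine MulEquiv.ext fun y => ?_
    have e : al (al y) = y := alF_alF y
    simp [MulAut.mul_apply, map_mul, e, mul_assoc])
  set y := S.s g * S.e1 with hy
  have hyy : y * y = z := by
    rw [hy, show S.s g * S.e1 * (S.s g * S.e1) = S.s g * (S.e1 * S.s g * S.e1⁻¹) * (S.e1 * S.e1) by group,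
      S.es, ← map_mul, hgg, map_one, one_mul, hz]
  rw [he, show F.C.j v b * y * (F.C.j v b * y) = F.C.j v b * (y * F.C.j v b * y⁻¹) * (y * y) by group, hyy,
    hy, S.outer_conj H, F.C.mul, F.C.mul_z, ← F.C.j_one] at xx
  obtain ⟨e0, e1⟩ := F.C.inj _ _ _ _ xx
  rw [← xr_eq_zero.1 e0] at e1
  revert e1
  have : bA v v = qq bA v := rfl
  rw [this]
  cases b <;> cases qq bA v <;> decide

/-- A conjugate centralised by the standard element and the group of order sixteen. -/
theorem outer_only {a : G} (haC : a ∈ Cz z) (aa : a * a = 1) (hQ : a ∉ Q)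
    (hat : S.t * a = a * S.t) (haW : ∀ v ∈ fix36, F.C.j v false * a = a * F.C.j v false)
    (haP : ∀ w ∈ pgW, S.s (evalW w) * a = a * S.s (evalW w)) :
    S.e1 * S.e1 = 1 ∧ ∃ c ∈ Cz z, c * a * c⁻¹ = S.t ∨ c * a * c⁻¹ = z * S.t := by
  obtain ⟨p, hp⟩ := H.act_lin F.C haC
  have hfix : ∀ v ∈ fix36, app p.M v = v := fun v hv => ((F.C.act_comm hp v false).1 (haW v hv).symm).1
  have hunit : ∀ {g : G4}, (∀ v ∈ fix36, app (natL g) v = v) → g = 1 := by
    intro g hg
    refine natL_inj ?_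
    rw [natL_one]
    refine lin_ext_un fun i => ?_
    obtain ⟨h1, h2, h3⟩ := omPair_ok i
    rw [← h3, app_xr, ← app_comp, ← omL_natL, app_comp, hg _ h1, hg _ h2, id_app]
  obtain ⟨g, ⟨hg, hi⟩ | ⟨hg, ho⟩⟩ := F.act_cases H haC
  · exfalso
    obtain ⟨d, hd⟩ := F.inner a haC g hg
    rw [natL_L F.M rfl] at hd
    rw [F.act_eq_pair H hp hd] at hfix
    rw [hunit hfix, map_one] at hg
    exact hQ ((H.aut_eq_one haC).1 hg)
  -- outer
  obtain ⟨d, hd⟩ := F.outer_act H haC hg
  rw [natL_L F.M rfl] at hd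
  rw [F.act_eq_pair H hp hd] at hfix
  have hg13 : g = evalW [1, 3] := by
    have hone : g * (evalW [1, 3])⁻¹ = 1 := hunit fun v hv => by
      have h1 := (fix36_ok v hv).1
      have h2 := hfix v hv
      change app (comp (natL g) sgA) v = v at h2
      have hi13 : comp (natL (evalW [1, 3])⁻¹) (linW gL [1, 3]) = idL := by
        rw [← natL_evalW, ← natL_mul, inv_mul_cancel, natL_one]
      have h3 : app (natL (evalW [1, 3])⁻¹) v = app sgA v := by
        conv_lhs => rw [← h1, m36, app_comp, ← app_comp, hi13, id_app]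
      rw [natL_mul, app_comp, h3, ← app_comp, h2]
    exact mul_inv_eq_one.1 hone
  obtain ⟨g', v, b, hg', he⟩ := S.outer_form H haC ho
  obtain rfl : g' = g := conj_inj (mul_right_cancel (hg'.symm.trans hg))
  rw [hg13] at he
  change a = F.C.j v b * S.t at he
  -- the translation commutes with everything
  have hvt : F.C.j v b * S.t = S.t * F.C.j v b := by
    rw [he] at hat
    have h := congrArg (· * S.t⁻¹) hat
    simp only [mul_inv_cancel_right] at h
    rw [← h]; group
  have hv36 : v ∈ fix36 := by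
    have h := mul_inv_eq_iff_eq_mul.2 hvt.symm
    rw [S.t_conj H] at h
    exact m36_fix v (F.C.inj _ _ _ _ h).1
  have hvP : ∀ w ∈ pgW, app (linW gL w) v = v := by
    intro w hw
    have h := haP w hw
    rw [he, mul_assoc, ← S.t_s H (pgW_ok.2 w (List.mem_cons_of_mem _ (List.mem_cons_of_mem _ hw))),
      ← mul_assoc, ← mul_assoc] at h
    have h2 := mul_inv_eq_iff_eq_mul.2 (mul_right_cancel h)
    rw [Fr.Lf.conj_j F H (S.hs _), natL_evalW] at h2
    exact (F.C.inj _ _ _ _ h2).1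
  have hee : S.e1 * S.e1 = 1 := by
    rw [he, (show Commute (F.C.j v b) S.t from hvt).symm.mul_mul_mul_comm (F.C.j v b) S.t, F.C.sq,
      (fix36_ok v hv36).2, F.C.j_one, one_mul, S.tt H] at aa
    exact aa
  refine ⟨hee, ?_⟩
  have hz0 : ∀ b', F.C.j 0 b' * S.t = S.t ∨ F.C.j 0 b' * S.t = z * S.t := fun b' => by
    rcases F.C.eq_one_or_z b' with e | e <;> rw [e]
    · exact Or.inl (one_mul _)
    · exact Or.inr rfl
  rcases pgW_fix v hv36 hvP with rfl | rfl
  · refine ⟨1, (Cz z).one_mem, ?_⟩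
    rw [he, one_mul, inv_one, mul_one]
    exact hz0 b
  · refine ⟨F.C.j 16 false, H.QC (F.C.mem _ _), ?_⟩
    have e : ∀ b, ∃ b', F.C.j 16 false * (F.C.j 80 b * S.t) * (F.C.j 16 false)⁻¹ = F.C.j 0 b' * S.t := by
      intro b
      rw [show F.C.j 16 false * (F.C.j 80 b * S.t) * (F.C.j 16 false)⁻¹ =
        F.C.j 16 false * F.C.j 80 b * (S.t * (F.C.j 16 false)⁻¹ * S.t⁻¹) * S.t by group, F.C.j_inv, S.t_conj H,
        F.C.mul, F.C.mul, move80, xr_self]
      exact ⟨_, rfl⟩
    obtain ⟨b', hb'⟩ := e b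
    rw [he, hb']
    exact hz0 b'

/-- The standard outer involution is no conjugate of `z`. -/
theorem t_no {a : G} (ha : a = S.t ∨ a = z * S.t) (g : G) (hg : g * z * g⁻¹ = a) : False := by
  have haC : a ∈ Cz z := by
    rcases ha with rfl | rfl
    exacts [S.tC H, (Cz z).mul_mem H.zC (S.tC H)]
  have hout : a ∉ inn π := by
    rcases ha with rfl | rfl
    · exact S.t_out H
    · exact fun h => S.t_out H (by
        have := (inn π).mul_mem ((inn π).inv_mem H.z_inn) h
        rwa [inv_mul_cancel_left] at this)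
  have hcom : ∀ x : G, x ∈ Cz z → x * S.t = S.t * x → x * a = a * x := fun x hx h => by
    rcases ha with rfl | rfl
    · exact h
    · rw [← mul_assoc, mem_Cz.1 hx, mul_assoc, h, ← mul_assoc]
  have hga : ∀ x : G, x * a = a * x → g⁻¹ * x * g ∈ Cz z := fun x h => F.pull H (by rw [hg]; exact h)
  -- the mirror is inner
  have hc : ∀ w v, (comp (linW gL [1, 3]) (comp (comp sgA (comp (linW gL w) sgA)) (linW gL (invW [1, 3]))) =
      linW gL w) → v ∈ fix36 → g⁻¹ * (S.s (evalW w) * F.C.j v false * (S.s (evalW w))⁻¹ * (F.C.j v false)⁻¹) * g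
        ∈ inn π := by
    intro w v hw hv
    have h := F.comm_inn H (hga _ (hcom _ (H.inn_le (S.hs (evalW w)).1) (S.t_s H hw)))
      (hga _ (hcom _ (H.QC (F.C.mem v false)) (S.t_j H hv false)))
    rwa [show g⁻¹ * S.s (evalW w) * g * (g⁻¹ * F.C.j v false * g) * (g⁻¹ * S.s (evalW w) * g)⁻¹ *
      (g⁻¹ * F.C.j v false * g)⁻¹ =
      g⁻¹ * (S.s (evalW w) * F.C.j v false * (S.s (evalW w))⁻¹ * (F.C.j v false)⁻¹) * g by group] at h
  have hmem := pgW_ok.2
  have c1 := hc [3, 0] 190 (hmem _ (by simp)) (by decide)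
  have c2 := hc [4] 11 (hmem _ (by simp [pgW])) (by decide)
  obtain ⟨x1, x2, y1, y2, q1, q2⟩ := commut85
  rw [Fr.Lf.conj_j F H (S.hs _), natL_evalW, F.C.j_inv, q1, Bool.xor_false, F.C.mul, x1, y1] at c1
  rw [Fr.Lf.conj_j F H (S.hs _), natL_evalW, F.C.j_inv, q2, Bool.xor_false, F.C.mul, x2, y2] at c2
  have hz85 : F.C.j 85 ((false ^^ false) ^^ true) = z * F.C.j 85 ((false ^^ false) ^^ false) := by
    rw [F.C.z_mul]; rfl
  have hm : g⁻¹ * z * g ∈ inn π := by
    have := (inn π).mul_mem c2 ((inn π).inv_mem c1)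
    rwa [hz85, show g⁻¹ * (z * F.C.j 85 ((false ^^ false) ^^ false)) * g *
      (g⁻¹ * F.C.j 85 ((false ^^ false) ^^ false) * g)⁻¹ = g⁻¹ * z * g by group] at this
  have hQ : g⁻¹ * z * g ∉ Q := fun h => by
    have h' := F.weakly_closed H kindA g⁻¹ (by rwa [inv_inv])
    rw [inv_inv] at h'
    apply hout
    have : a = z := by
      rw [← hg]
      calc g * z * g⁻¹ = g * (g⁻¹ * z * g) * g⁻¹ := by rw [h']
        _ = z := by group
    rw [this]; exact H.z_inn
  -- an element of order five commuting with it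
  set f := S.s (evalW fiveD) with hf
  have hfC : f ∈ Cz z := H.inn_le (S.hs _).1
  have hf5 : f * f * f * f * f = 1 := by
    rw [hf, ← map_mul, ← map_mul, ← map_mul, ← map_mul, ← evalW_append, ← evalW_append, ← evalW_append,
      ← evalW_append, evalW_eq five_ord.1, evalW, map_one]
  set f' := g⁻¹ * f * g with hf'
  have hf'C : f' ∈ Cz z := hga _ (hcom _ hfC (S.t_s H (hmem _ (by simp))))
  have hf'5 : f' * f' * f' * f' * f' = 1 := by
    rw [hf', show g⁻¹ * f * g * (g⁻¹ * f * g) * (g⁻¹ * f * g) * (g⁻¹ * f * g) * (g⁻¹ * f * g) =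
      g⁻¹ * (f * f * f * f * f) * g by group, hf5]; group
  have hf'i : f' ∈ inn π := by
    have h := H.sq_inn ((Cz z).mul_mem ((Cz z).mul_mem hf'C hf'C) hf'C)
    rwa [show f' * f' * f' * (f' * f' * f') = f' * f' * f' * f' * f' * f' by group, hf'5, one_mul] at h
  obtain ⟨-, k, hk⟩ := H.mem_inn.1 hm
  obtain ⟨-, h, hh⟩ := H.mem_inn.1 hf'i
  have hmC := H.inn_le hm
  have hcm : f' * (g⁻¹ * z * g) = g⁻¹ * z * g * f' := by
    rw [hf']
    calc g⁻¹ * f * g * (g⁻¹ * z * g) = g⁻¹ * (f * z) * g := by group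
      _ = g⁻¹ * (z * f) * g := by rw [mem_Cz.1 hfC]
      _ = _ := by group
  have hmm : g⁻¹ * z * g * (g⁻¹ * z * g) = 1 := by
    rw [show g⁻¹ * z * g * (g⁻¹ * z * g) = g⁻¹ * (z * z) * g by group, H.st.zz]; group
  have hk1 : k * k = 1 := conj_inj (by rw [map_mul, map_one, ← hk, ← H.aut_mul hmC hmC, hmm, H.aut_Q Q.one_mem])
  have hhk : h * k = k * h := conj_inj (by
    rw [map_mul, map_mul, ← hk, ← hh, ← H.aut_mul hf'C hmC, ← H.aut_mul hmC hf'C, hcm])
  have hne : k ≠ 1 := fun e => hQ ((H.aut_eq_one hmC).1 (by rw [hk, e, map_one]))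
  refine hne (five_free ?_ hk1 hhk)
  haveI : Fact (Nat.Prime 5) := ⟨by norm_num⟩
  refine orderOf_eq_prime (conj_inj ?_) fun e => ?_
  · rw [map_one, pow_succ, pow_succ, pow_succ, pow_succ, pow_one, map_mul, map_mul, map_mul, map_mul, ← hh,
      ← H.aut_mul hf'C hf'C, ← H.aut_mul ((Cz z).mul_mem hf'C hf'C) hf'C,
      ← H.aut_mul ((Cz z).mul_mem ((Cz z).mul_mem hf'C hf'C) hf'C) hf'C,
      ← H.aut_mul ((Cz z).mul_mem ((Cz z).mul_mem ((Cz z).mul_mem hf'C hf'C) hf'C) hf'C) hf'C, hf'5,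
      H.aut_Q Q.one_mem]
  · have hQf : f' ∈ Q := (H.aut_eq_one hf'C).1 (by rw [hh, e, map_one])
    have h9 : orderOf f' ∣ 2 ^ 9 := by
      have := orderOf_dvd_natCard (⟨f', hQf⟩ : Q)
      rwa [Subgroup.orderOf_mk, H.card] at this
    have h5 : orderOf f' ∣ 5 := orderOf_dvd_of_pow_eq_one (by
      rw [pow_succ, pow_succ, pow_succ, pow_succ, pow_one, hf'5])
    have : f' = 1 := orderOf_eq_one_iff.1 (Nat.dvd_one.1 (by
      have := Nat.dvd_gcd h5 h9
      rwa [show Nat.gcd 5 (2 ^ 9) = 1 by norm_num] at this))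
    have hf1 : f = 1 := by
      rw [hf'] at this
      calc f = g * (g⁻¹ * f * g) * g⁻¹ := by group
        _ = 1 := by rw [this]; group
    have := (S.hs (evalW fiveD)).2.1
    rw [← hf, hf1, H.aut_Q Q.one_mem, ← (MulAut.conj : G4 →* MulAut G4).map_one] at this
    exact five_ord.2 (by rw [← natL_evalW, ← conj_inj this, natL_one])

open scoped _root_.Classical in
/-- A homomorphism to signs nontrivial on the standard outer element and trivial on the inner part. -/
theorem exists_sign : ∃ V : G →* ℤˣ, (∀ x ∈ inn π, V x = 1) ∧ V S.t = -1 := by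
  classical
  haveI : Fintype (G ⧸ Cz z) := Fintype.ofFinite _
  haveI : (Cz z).FiniteIndex := inferInstance
  let φ : Cz z →* ℤˣ := MonoidHom.mk' (fun x => if (x : G) ∈ inn π then 1 else -1) fun a b => by
    have := H.outer_mul a.2 b.2
    by_cases ha : (a : G) ∈ inn π <;> by_cases hb : (b : G) ∈ inn π <;> simp [ha, hb, this]
  set V := MonoidHom.transfer φ with hV
  have htC := S.tC H
  -- trivial on the inner part
  have hVc : ∀ a b : G, V (a * b * a⁻¹ * b⁻¹) = 1 := fun a b => by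
    rw [map_mul, map_mul, map_mul, map_inv, map_inv, mul_comm (V a), mul_inv_cancel_right, mul_inv_cancel]
  have hVz : V z = 1 := by
    have h := hVc (F.C.j (un 0) false) (F.C.j (un 1) false)
    rwa [F.C.j_inv, F.C.j_inv, F.C.mul, F.C.mul, F.C.mul,
      show F.C.j (xr (xr (xr (un 0) (un 1)) (un 0)) (un 1)) _ = F.C.j 0 true from by
        congr 1 <;> decide +kernel, F.C.j_z] at h
  have hjb : ∀ v b, V (F.C.j v b) = V (F.C.j v false) := fun v b => by
    cases b
    · rfl
    · rw [show F.C.j v true = z * F.C.j v false from (F.C.z_mul v false).symm, map_mul, hVz, one_mul]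
  let χ : V8 → ℤˣ := fun v => V (F.C.j v false)
  have hadd : ∀ v w, χ (xr v w) = χ v * χ w := fun v w => by
    simp only [χ]
    rw [← map_mul, F.C.mul]
    exact (hjb _ _).symm
  have hχ0 : χ 0 = 1 := by simp only [χ]; rw [F.C.j_one, map_one]
  have hmove : ∀ (k : Fin 5) (v : V8), χ (xr (app (gL k) v) v) = 1 := fun k v => by
    have h := hVc (S.s (gen k)) (F.C.j v false)
    rw [Fr.Lf.conj_j F H (S.hs _), natL_gen, F.C.j_inv, F.C.mul, hjb] at h
    exact h
  have hsum : ∀ l : List V8, (∀ v ∈ l, χ v = 1) → χ (l.foldr xr 0) = 1 := fun l hl => by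
    induction l with
    | nil => exact hχ0
    | cons a l ih =>
      rw [List.foldr_cons, hadd, hl a (List.mem_cons_self ..), one_mul]
      exact ih fun v hv => hl v (List.mem_cons_of_mem _ hv)
  have hun : ∀ j, χ (un j) = 1 := fun j => by
    rw [← spanT_ok j]
    refine hsum _ fun v hv => ?_
    obtain ⟨p, -, rfl⟩ := List.mem_map.1 hv
    exact hmove _ _
  have hj : ∀ v b, V (F.C.j v b) = 1 := fun v b => by
    rw [hjb, ← unit_span v]
    exact hsum _ fun w hw => by
      obtain ⟨i, -, rfl⟩ := List.mem_map.1 hw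
      exact hun i
  have hVi : ∀ x ∈ inn π, V x = 1 := by
    intro x hx
    obtain ⟨hxC, g, hg⟩ := H.mem_inn.1 hx
    have hsC : (S.s g)⁻¹ ∈ Cz z := (Cz z).inv_mem (H.inn_le (S.hs g).1)
    obtain ⟨v, b, hvb⟩ := F.C.surj (x * (S.s g)⁻¹) ((H.aut_eq_one ((Cz z).mul_mem hxC hsC)).1 (by
      rw [H.aut_mul hxC hsC, H.aut_inv (H.inn_le (S.hs g).1), (S.hs g).2.1, hg, mul_inv_cancel]))
    have hs1 : V (S.s g) = 1 := hom_trivial (V.comp S.s) (fun _ _ => mul_comm _ _) g
    rw [show x = F.C.j v b * S.s g by rw [hvb, inv_mul_cancel_right], map_mul, hj, hs1, one_mul]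
  refine ⟨V, hVi, ?_⟩
  -- a group of order sixteen
  obtain ⟨P, hPc, hPl, -⟩ := natM.exists_pgrp (pg := pgW) (by
    have := pgW_ok.1
    simp only [Bool.and_eq_true, decide_eq_true_eq] at this
    exact this.1) (by
    have := pgW_ok.1
    simp only [Bool.and_eq_true, decide_eq_true_eq, List.all_eq_true, List.contains_iff_mem] at this
    exact this.2)
  have hPm : ∀ w ∈ pgW, evalW w ∈ P := by
    intro w hw
    have hin : linW gL w ∈ plist gL pgW := by
      have : ∀ w ∈ pgW, linW gL w ∈ plist gL pgW := by decide +kernel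
      exact this w hw
    have hsurj : (Finset.univ.image fun x : P => natL x) = (plist gL pgW).toFinset := by
      refine Finset.eq_of_subset_of_card_le (fun L hL => ?_) ?_
      · obtain ⟨x, -, rfl⟩ := Finset.mem_image.1 hL
        exact List.mem_toFinset.2 (hPl x x.2)
      · rw [Finset.card_image_of_injective _ (fun a b e => Subtype.ext (natL_inj e)), Finset.card_univ,
          ← Nat.card_eq_fintype_card, hPc]
        exact List.toFinset_card_le _
    obtain ⟨x, -, hx⟩ := Finset.mem_image.1 (hsurj.ge (List.mem_toFinset.2 hin))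
    rw [← natL_evalW] at hx
    exact natL_inj hx ▸ x.2
  set sP := P.map S.s with hsP
  have hsPC : sP ≤ Cz z := by rintro _ ⟨p, -, rfl⟩; exact H.inn_le (S.hs p).1
  haveI : Fact (Nat.Prime 2) := ⟨Nat.prime_two⟩
  have hnorm : sP ≤ Subgroup.normalizer (Q : Set G) := fun x hx => H.st.cz (hsPC hx)
  have hQ2 : IsPGroup 2 Q := IsPGroup.of_card (n := 9) (by rw [H.card]; norm_num)
  have hP2 : IsPGroup 2 sP := (IsPGroup.of_card hPc).map S.s
  have h2 : IsPGroup 2 (sP ⊔ Q : Subgroup G) := hP2.to_sup_of_normal_right' hQ2 hnorm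
  set D : Subgroup G := (sP ⊔ Q) ⊓ Subgroup.centralizer ({S.t} : Set G) with hD
  have hD2 : IsPGroup 2 D := h2.to_le inf_le_left
  have hDz : D ≤ Cz z := inf_le_left.trans (sup_le hsPC H.QC)
  have hDt : ∀ d ∈ D, d * S.t = S.t * d := fun d hd => Subgroup.mem_centralizer_singleton_iff.1 hd.2
  have hDj : ∀ v ∈ fix36, F.C.j v false ∈ D := fun v hv =>
    ⟨Subgroup.mem_sup_right (F.C.mem _ _), Subgroup.mem_centralizer_singleton_iff.2 (S.t_j H hv false)⟩
  have hDs : ∀ w ∈ pgW, S.s (evalW w) ∈ D := fun w hw =>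
    ⟨Subgroup.mem_sup_left ⟨_, hPm w hw, rfl⟩,
      Subgroup.mem_centralizer_singleton_iff.2 (S.t_s H (pgW_ok.2 w (List.mem_cons_of_mem _ (List.mem_cons_of_mem _ hw))))⟩
  have hee := S.tt H
  have h4 : S.t * S.t * (S.t * S.t) = 1 := by
    rw [hee]
    rcases S.ee with e | e <;> rw [e]
    exacts [one_mul 1, H.st.zz]
  have key : V S.t = φ ⟨S.t, htC⟩ := by
    refine transfer_centralizer φ h4 (fun g h => ?_) htC D hD2 hDz hDt (fun g hne hgt hgD h => ?_)
    · refine if_pos ?_
      show g⁻¹ * (S.t * S.t) * g ∈ inn π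
      rcases S.ee with e | e
      · rw [hee, e, show g⁻¹ * 1 * g = 1 by group]; exact (inn π).one_mem
      · refine S.no_outer H e h ?_
        rw [hee, e, show g⁻¹ * z * g * (g⁻¹ * z * g) = g⁻¹ * (z * z) * g by group, H.st.zz]; group
    · exfalso
      set a := g * z * g⁻¹ with ha
      have haC : a ∈ Cz z := by
        refine mem_Cz.2 ?_
        have := hgD _ (hDj 0 (by decide))
        have hzD : z ∈ D := ⟨Subgroup.mem_sup_right H.st.z_mem,
          Subgroup.mem_centralizer_singleton_iff.2 (mem_Cz.1 htC).symm⟩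
        exact (hgD z hzD).symm
      have hQa : a ∉ Q := fun h => hne (F.weakly_closed H kindA g h)
      obtain ⟨-, c, hc, hca⟩ := S.outer_only H haC (H.st.conj g).zz hQa hgt (fun v hv => hgD _ (hDj v hv))
        (fun w hw => hgD _ (hDs w hw))
      exact S.t_no H hca (c * g) (by rw [ha]; group)
  rw [key]
  exact if_neg (S.t_out H)

end Sp

end Fr

end CfsgLib.USixTwo
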