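import Cfsg.Agent.Lib.USixTwo.Two

/-!
The element inducing the field automorphism and the normal form of its matrix.
-/

set_option autoImplicit false
set_option linter.unusedSectionVars false
set_option linter.style.haveILetI false
set_option maxRecDepth 100000

open Cfsg CfsgLib.Extraspecial CfsgLib.USixType

namespace CfsgLib.USixTwo

/-- Scalars of the natural model with their inverses. -/
def scalA : List (Lin × Lin) := [(idL, idL), (omL, comp omL omL), (comp omL omL, omL)]

/-- Changes of basis of the fixed plane with their inverses. -/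
def scalB : List (Lin × Lin) :=
  [(idL, idL), (⟨1, 2, 4, 8, 16, 32, 128, 192⟩, ⟨1, 2, 4, 8, 16, 32, 192, 64⟩),
    (⟨1, 2, 4, 8, 16, 32, 192, 64⟩, ⟨1, 2, 4, 8, 16, 32, 128, 192⟩)]

theorem conjA_L (g : G4) : comp sgA (comp (natL (al g)) sgA) = natL g := by
  show comp sgA (comp (natL (alF g)) sgA) = _
  rw [natL_alF]
  simp only [comp_assoc, sgA_facts.1, comp_id]
  rw [← comp_assoc, sgA_facts.1, id_comp]

theorem sg_facts : ∀ s ∈ [sgB0, sgB1], comp s s = idL ∧
    ∀ k, comp s (comp (linW wL (alW k)) s) = wL k := by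
  decide +kernel

theorem Mdl.al_conj {S : Fin 5 → Lin} (M : Mdl S) {s : Lin} (hs : comp s s = idL)
    (hgen : ∀ k, comp s (comp (linW S (alW k)) s) = S k) (g : G4) :
    comp s (comp (M.L (al g)) s) = M.L g := by
  have hg : g ∈ Subgroup.closure (Set.range gen) := by rw [gen_top]; exact Subgroup.mem_top g
  rw [← Subgroup.mem_toSubmonoid, Subgroup.closure_toSubmonoid_of_finite] at hg
  induction hg using Submonoid.closure_induction with
  | mem x hx => obtain ⟨k, rfl⟩ := hx; rw [al_gen, M.evalW_L, M.gen_eq, hgen]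
  | one => rw [map_one, M.one, id_comp, hs]
  | mul x y _ _ hx hy =>
    rw [map_mul, M.mul, M.mul, ← hx, ← hy]
    simp only [comp_assoc]
    rw [← comp_assoc s s, hs, id_comp]

/-- The plane part. -/
def planeL (p q : V8) : Lin := ⟨1, 2, 4, 8, 16, 32, p, q⟩

/-- A change of basis brings the matrix to a standard one. -/
def normOK (β : V8 → V8 → Bool) (S : Fin 5 → Lin) (M : Lin) (scal : List (Lin × Lin)) (targets : List Lin) :
    Bool :=
  scal.any fun m => decide (comp m.1 m.2 = idL) && decide (comp m.2 m.1 = idL) &&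
    ((List.finRange 5).all fun k => decide (comp m.1 (S k) = comp (S k) m.1)) &&
    ((List.finRange 8).all fun i => !gam β m.1 (un i) (un i) &&
      (List.finRange 8).all fun k => gam β m.1 (un i) (un k) == gam β m.1 (un k) (un i)) &&
    targets.contains (comp m.2 (comp M m.1))

theorem normA : ∀ X ∈ [idL, omL, comp omL omL], normOK bA gL (comp sgA X) scalA [sgA] = true := by
  decide +kernel

theorem normB : ∀ p ∈ planeF, ∀ q ∈ planeF,
    (comp (comp sgB0 (planeL p q)) (comp sgB0 (planeL p q)) = idL →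
      qq bA p = true → qq bA q = true →
      normOK bA wL (comp sgB0 (planeL p q)) scalB [sgB0, sgB1] = true) ∧
    (comp (comp sgB0 (planeL p q)) (comp sgB0 (planeL p q)) = idL →
      qq bD p = qq bD 64 → qq bD q = qq bD 128 →
      normOK bD wL (comp sgB0 (planeL p q)) scalB [sgB0, sgB1] = true) := by
  decide +kernel

theorem dual_A : ∀ m : V8, ∃ w : V8, ∀ i : Fin 8, bb bA w (un i) = m.1.testBit i.1 := dual_check

theorem dual_D : ∀ m : V8, ∃ w : V8, ∀ i : Fin 8, bb bD w (un i) = m.1.testBit i.1 := by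
  decide +kernel

theorem Kind.model {β : V8 → V8 → Bool} {S : Fin 5 → Lin} {σ : Lin} (h : Kind β S σ) :
    Model β S ∧ comp σ σ = idL ∧ (∀ k, comp σ (comp (linW S (alW k)) σ) = S k) ∧
      (∀ i k, bb β (app σ (un i)) (app σ (un k)) = bb β (un i) (un k)) := by
  have f : ∀ k, comp sgA (comp (linW gL (alW k)) sgA) = gL k := by decide +kernel
  have hb : (∀ i k, bb bA (app sgA (un i)) (app sgA (un k)) = bb bA (un i) (un k)) ∧
      (∀ s ∈ [sgB0, sgB1], ∀ i k, bb bA (app s (un i)) (app s (un k)) = bb bA (un i) (un k)) ∧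
      ∀ s ∈ [sgB0, sgB1], ∀ i k, bb bD (app s (un i)) (app s (un k)) = bb bD (un i) (un k) := by
    decide +kernel
  rcases h with ⟨rfl, rfl, rfl⟩ | ⟨rfl, rfl, rfl⟩ | ⟨rfl, rfl, rfl⟩ | ⟨rfl, rfl, rfl⟩ | ⟨rfl, rfl, rfl⟩
  · exact ⟨Or.inl ⟨rfl, rfl⟩, sgA_facts.1, f, hb.1⟩
  · exact ⟨Or.inr (Or.inl ⟨rfl, rfl⟩), (sg_facts _ (by simp)).1, (sg_facts _ (by simp)).2, hb.2.1 _ (by simp)⟩
  · exact ⟨Or.inr (Or.inl ⟨rfl, rfl⟩), (sg_facts _ (by simp)).1, (sg_facts _ (by simp)).2, hb.2.1 _ (by simp)⟩
  · exact ⟨Or.inr (Or.inr ⟨rfl, rfl⟩), (sg_facts _ (by simp)).1, (sg_facts _ (by simp)).2, hb.2.2 _ (by simp)⟩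
  · exact ⟨Or.inr (Or.inr ⟨rfl, rfl⟩), (sg_facts _ (by simp)).1, (sg_facts _ (by simp)).2, hb.2.2 _ (by simp)⟩

theorem dual_of {β : V8 → V8 → Bool} (hβ : β = bA ∨ β = bD) (f : Fin 8 → Bool) :
    ∃ w, ∀ i, bb β w (un i) = f i := by
  have hb : ∀ b0 b1 b2 b3 b4 b5 b6 b7 : Bool, ∃ m : V8, ∀ i : Fin 8,
      m.1.testBit i.1 = ![b0, b1, b2, b3, b4, b5, b6, b7] i := by decide +kernel
  obtain ⟨m, hm⟩ := hb (f 0) (f 1) (f 2) (f 3) (f 4) (f 5) (f 6) (f 7)
  have e : ∀ i, m.1.testBit i.1 = f i := fun i => by rw [hm i]; fin_cases i <;> rfl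
  rcases hβ with rfl | rfl
  · obtain ⟨w, hw⟩ := dual_A m; exact ⟨w, fun i => (hw i).trans (e i)⟩
  · obtain ⟨w, hw⟩ := dual_D m; exact ⟨w, fun i => (hw i).trans (e i)⟩

namespace Two

variable {G : Type*} [Group G] [Finite G] {z : G} {Q : Subgroup G} {π : ↥(Cz z) →* MulAut G4}
  (H : Two z Q π)
include H

/-- Every element of the centraliser acts by a matrix. -/
theorem act_lin {β : V8 → V8 → Bool} (C : Cn z Q β) {x : G} (hx : x ∈ Cz z) : ∃ p, C.Act x p := by
  classical
  have hmem : ∀ v b, ∃ w d, C.j w d = x * C.j v b * x⁻¹ := fun v b => C.surj _ (H.conjQ hx (C.mem v b))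
  choose m δ hm using fun v => hmem v false
  have hb : ∀ v b, x * C.j v b * x⁻¹ = C.j (m v) (b ^^ δ v) := by
    intro v b
    cases b
    · rw [← hm, Bool.false_xor]
    · rw [Bool.true_xor, ← C.z_mul (m v) (δ v), hm, show C.j v true = z * C.j v false from (C.z_mul v false).symm]
      calc x * (z * C.j v false) * x⁻¹ = (x * z) * C.j v false * x⁻¹ := by group
        _ = _ := by rw [mem_Cz.1 hx]; group
  have hlin : ∀ v w, m (xr v w) = xr (m v) (m w) := fun v w => by
    have e : x * (C.j v false * C.j w false) * x⁻¹ = x * C.j v false * x⁻¹ * (x * C.j w false * x⁻¹) := by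
      group
    rw [C.mul, hb, hb, hb, C.mul] at e
    exact (C.inj _ _ _ _ e).1
  exact ⟨_, C.act_of (M := ofFun m) (δ := δ) fun v b => by rw [app_ofFun hlin, hb]⟩

/-- The five models. -/
theorem exists_fr : ∃ (β : V8 → V8 → Bool) (S : Fin 5 → Lin) (σ : Lin),
    Kind β S σ ∧ Nonempty (Fr z Q π β S σ) := by
  classical
  obtain ⟨β, S, hM, C, M, hin⟩ := H.exists_cn
  obtain ⟨e0, he0, ha0⟩ := H.lift al
  obtain ⟨⟨M0, d0⟩, hact⟩ := H.act_lin C he0
  have hsemi : ∀ g, comp M0 (M.L g) = comp (M.L (al g)) M0 := by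
    intro g
    obtain ⟨c, hc, hcg⟩ := H.lift (MulAut.conj g)
    obtain ⟨d, hd⟩ := hin c hc g hcg
    have hcc := H.aut_conj he0 hc
    rw [ha0, hcg, show al * MulAut.conj g * al⁻¹ = MulAut.conj (al g) from MulEquiv.ext fun y => by
      simp [MulAut.mul_apply, map_mul]] at hcc
    have hc2 : e0 * c * e0⁻¹ ∈ Cz z := (Cz z).mul_mem ((Cz z).mul_mem he0 hc) ((Cz z).inv_mem he0)
    obtain ⟨d', hd'⟩ := hin _ hc2 _ hcc
    have h1 := C.act_mul hact hd
    have h2 := C.act_mul hd' hact
    rw [show e0 * c * e0⁻¹ * e0 = e0 * c by group] at h2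
    exact (C.act_unique h1 h2).1
  have hsq0 : comp M0 M0 = idL := by
    have hQ : e0 * e0 ∈ Q := (H.aut_eq_one ((Cz z).mul_mem he0 he0)).1 (by
      rw [H.aut_mul he0 he0, ha0]; exact MulEquiv.ext fun y => alF_alF y)
    obtain ⟨w, b, hw⟩ := C.surj _ hQ
    exact (C.act_unique (C.act_mul hact hact) (hw ▸ C.act_inn w b)).1
  have hq0 : ∀ v, qq β (app M0 v) = qq β v := by
    intro v
    have e : e0 * (C.j v false * C.j v false) * e0⁻¹ = e0 * C.j v false * e0⁻¹ * (e0 * C.j v false * e0⁻¹) := by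
      group
    rw [C.sq, hact, hact, C.sq] at e
    have e2 := (C.inj _ _ _ _ e).2
    have hf0 : (⟨M0, d0⟩ : PR).f β 0 = false := by
      have := hact 0 false
      rw [C.j_one, app_zero, mul_one, mul_inv_cancel, ← C.j_one, Bool.false_xor] at this
      exact (C.inj _ _ _ _ this).2.symm
    rw [hf0, Bool.xor_false] at e2
    exact e2.symm
  -- the standard matrix up to a change of basis
  obtain ⟨mu, mu', σ, hK, h12, h21, hcS, hself, hsymm, hσ⟩ : ∃ mu mu' σ, Kind β S σ ∧ comp mu mu' = idL ∧
      comp mu' mu = idL ∧ (∀ k, comp mu (S k) = comp (S k) mu) ∧ (∀ i, gam β mu (un i) (un i) = false) ∧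
      (∀ i k, gam β mu (un i) (un k) = gam β mu (un k) (un i)) ∧ comp mu' (comp M0 mu) = σ := by
    have unpack : ∀ {scal : List (Lin × Lin)} {targets : List Lin}, normOK β S M0 scal targets = true →
        (∀ s ∈ targets, Kind β S s) → ∃ mu mu' σ, Kind β S σ ∧ comp mu mu' = idL ∧
        comp mu' mu = idL ∧ (∀ k, comp mu (S k) = comp (S k) mu) ∧ (∀ i, gam β mu (un i) (un i) = false) ∧
        (∀ i k, gam β mu (un i) (un k) = gam β mu (un k) (un i)) ∧ comp mu' (comp M0 mu) = σ := by
      intro scal targets h hT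
      simp only [normOK, List.any_eq_true, Bool.and_eq_true, decide_eq_true_eq, List.all_eq_true,
        Bool.not_eq_true', beq_iff_eq, List.contains_iff_mem] at h
      obtain ⟨m, -, ⟨⟨⟨h1, h2⟩, h3⟩, h4⟩, h5⟩ := h
      exact ⟨m.1, m.2, _, hT _ h5, h1, h2, fun k => h3 k (List.mem_finRange k),
        fun i => (h4 i (List.mem_finRange i)).1, fun i k => (h4 i (List.mem_finRange i)).2 k (List.mem_finRange k), rfl⟩
    have hnz : ∀ (s : Lin), comp s s = idL → app (comp s M0) 1 ≠ 0 := fun s hs h => by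
      have h1 : app M0 (app s (app (comp s M0) 1)) = 1 := by
        rw [app_comp, ← app_comp s s, hs, id_app, ← app_comp, hsq0, id_app]
      rw [h, app_zero, app_zero] at h1
      exact absurd h1 (by decide)
    have hcomm : ∀ (s : Lin), comp s s = idL → (∀ g, comp s (comp (M.L (al g)) s) = M.L g) →
        ∀ k, comp (comp s M0) (S k) = comp (S k) (comp s M0) := by
      intro s hs hg k
      rw [← M.gen_eq, comp_assoc, hsemi, ← comp_assoc]
      have h1 := congrArg (fun L => comp L s) (hg (gen k))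
      simp only [comp_assoc, hs, comp_id] at h1
      rw [h1, comp_assoc]
    have back : ∀ (s : Lin), comp s s = idL → M0 = comp s (comp s M0) := fun s hs => by
      rw [← comp_assoc, hs, id_comp]
    rcases hM with ⟨rfl, rfl⟩ | hB
    · have hX := cent_A (hcomm sgA sgA_facts.1 (fun g => by
        rw [natL_L M rfl, natL_L M rfl]; exact conjA_L g)) (hnz sgA sgA_facts.1)
      have hmem : comp sgA M0 ∈ [idL, omL, comp omL omL] := by
        rcases hX with e | e | e <;> rw [e] <;> simp
      have h := normA _ hmem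
      rw [← back sgA sgA_facts.1] at h
      exact unpack h fun s hs => Or.inl ⟨rfl, rfl, List.mem_singleton.1 hs⟩
    · have hS : S = wL := by rcases hB with ⟨-, h⟩ | ⟨-, h⟩ <;> exact h
      subst hS
      have hs0 : comp sgB0 sgB0 = idL := (sg_facts sgB0 (by simp)).1
      obtain ⟨h6, hp, hq⟩ := cent_W (hcomm sgB0 hs0 (Mdl.al_conj M hs0 (sg_facts sgB0 (by simp)).2)) (hnz sgB0 hs0)
      set X := comp sgB0 M0 with hX
      have hXe : X = planeL (app X 64) (app X 128) := lin_ext_un fun i => by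
        fin_cases i
        · rw [app_un (planeL _ _)]; exact h6 0
        · rw [app_un (planeL _ _)]; exact h6 1
        · rw [app_un (planeL _ _)]; exact h6 2
        · rw [app_un (planeL _ _)]; exact h6 3
        · rw [app_un (planeL _ _)]; exact h6 4
        · rw [app_un (planeL _ _)]; exact h6 5
        · rw [app_un (planeL _ _)]; rfl
        · rw [app_un (planeL _ _)]; rfl
      have hM0 : M0 = comp sgB0 (planeL (app X 64) (app X 128)) := by rw [← hXe]; exact back sgB0 hs0
      have hfixp : ∀ v ∈ planeF, app sgB0 v = v := by decide +kernel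
      have hqp : ∀ v, (v = 64 ∨ v = 128) → qq β (app X v) = qq β v := fun v hv => by
        have hmem : app X v ∈ planeF := by rcases hv with rfl | rfl <;> assumption
        have e : app M0 v = app X v := by
          conv_lhs => rw [back sgB0 hs0, ← hX, app_comp, hfixp _ hmem]
        rw [← e, hq0]
      have hsq : comp (comp sgB0 (planeL (app X 64) (app X 128))) (comp sgB0 (planeL (app X 64) (app X 128))) = idL := by
        rw [← hM0, hsq0]
      rcases hB with ⟨rfl, -⟩ | ⟨rfl, -⟩
      · have h := (normB _ hp _ hq).1 hsq ((hqp 64 (Or.inl rfl)).trans (by decide +kernel))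
          ((hqp 128 (Or.inr rfl)).trans (by decide +kernel))
        rw [← hM0] at h
        refine unpack h fun s hs => ?_
        simp only [List.mem_cons, List.not_mem_nil, or_false] at hs
        rcases hs with rfl | rfl
        · exact Or.inr (Or.inl ⟨rfl, rfl, rfl⟩)
        · exact Or.inr (Or.inr (Or.inl ⟨rfl, rfl, rfl⟩))
      · have h := (normB _ hp _ hq).2 hsq (hqp 64 (Or.inl rfl)) (hqp 128 (Or.inr rfl))
        rw [← hM0] at h
        refine unpack h fun s hs => ?_
        simp only [List.mem_cons, List.not_mem_nil, or_false] at hs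
        rcases hs with rfl | rfl
        · exact Or.inr (Or.inr (Or.inr (Or.inl ⟨rfl, rfl, rfl⟩)))
        · exact Or.inr (Or.inr (Or.inr (Or.inr ⟨rfl, rfl, rfl⟩)))
  obtain ⟨hMod, hσσ, hσgen, hσbb⟩ := hK.model
  -- the new coordinates
  have hadd := af_quad C.bil hself hsymm 0
  have hinjv : ∀ {v w}, app mu v = app mu w → v = w := fun {v w} h => by
    have := congrArg (app mu') h
    rwa [← app_comp, ← app_comp, h21, id_app, id_app] at this
  let C' : Cn z Q β :=
    { j := fun v b => C.j (app mu v) (b ^^ af β mu 0 v)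
      bil := C.bil
      mem := fun v b => C.mem _ _
      surj := fun q hq => by
        obtain ⟨v, b, rfl⟩ := C.surj q hq
        refine ⟨app mu' v, b ^^ af β mu 0 (app mu' v), ?_⟩
        show C.j (app mu (app mu' v)) _ = _
        rw [← app_comp, h12, id_app]
        congr 1
        cases b <;> cases af β mu 0 (app mu' v) <;> rfl
      inj := fun v b w d h => by
        obtain ⟨h1, h2⟩ := C.inj _ _ _ _ h
        obtain rfl := hinjv h1
        exact ⟨rfl, by revert h2; cases b <;> cases d <;> cases af β mu 0 v <;> simp⟩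
      mul := fun v b w d => by
        show C.j _ _ * C.j _ _ = C.j _ _
        rw [C.mul, app_xr, hadd, gam]
        congr 1
        cases b <;> cases d <;> cases af β mu 0 v <;> cases af β mu 0 w <;> cases β v w <;>
          cases β (app mu v) (app mu w) <;> rfl
      j_z := by
        show C.j (app mu 0) _ = z
        have h0 : af β mu 0 0 = false := by
          have := hadd 0 0
          rw [xr_self, gam, app_zero, C.bil.zero_left] at this
          revert this; cases af β mu 0 0 <;> simp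
        rw [h0, app_zero, Bool.xor_false]; exact C.j_z }
  have trans : ∀ {x : G} {p : PR}, C.Act x p → ∃ d, C'.Act x ⟨comp mu' (comp p.M mu), d⟩ := by
    intro x p hp
    refine ⟨_, C'.act_of (M := comp mu' (comp p.M mu))
      (δ := fun v => af β mu 0 v ^^ p.f β (app mu v) ^^ af β mu 0 (app (comp mu' (comp p.M mu)) v)) fun v b => ?_⟩
    show x * C.j (app mu v) (b ^^ af β mu 0 v) * x⁻¹ = C.j (app mu (app (comp mu' (comp p.M mu)) v)) _
    rw [hp, ← app_comp mu, ← comp_assoc, h12, id_comp, app_comp]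
    congr 1
    cases b <;> cases af β mu 0 v <;> cases p.f β (app mu v) <;>
      cases af β mu 0 (app (comp mu' (comp p.M mu)) v) <;> rfl
  have hmu : ∀ g : G4, comp (M.L g) mu = comp mu (M.L g) := by
    intro g
    have hg' : g ∈ Subgroup.closure (Set.range gen) := by rw [gen_top]; exact Subgroup.mem_top g
    rw [← Subgroup.mem_toSubmonoid, Subgroup.closure_toSubmonoid_of_finite] at hg'
    induction hg' using Submonoid.closure_induction with
    | mem x hx => obtain ⟨k, rfl⟩ := hx; rw [M.gen_eq]; exact (hcS k).symm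
    | one => rw [M.one, comp_id, id_comp]
    | mul x y _ _ hx hy => rw [M.mul, comp_assoc, hy, ← comp_assoc, hx, comp_assoc]
  have hin' : ∀ x ∈ Cz z, ∀ g, aut z π x = MulAut.conj g → ∃ d, C'.Act x ⟨M.L g, d⟩ := by
    intro x hx g hg
    obtain ⟨d, hd⟩ := hin x hx g hg
    obtain ⟨d', hd'⟩ := trans hd
    refine ⟨d', ?_⟩
    have hcg := hmu g
    have e : comp mu' (comp (M.L g) mu) = M.L g := by rw [hcg, ← comp_assoc, h21, id_comp]
    simpa only [e] using hd'
  obtain ⟨d1, hd1⟩ := trans hact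
  simp only [hσ] at hd1
  -- kill the signs
  have hβ : β = bA ∨ β = bD := by rcases hMod with ⟨h, -⟩ | ⟨h, -⟩ | ⟨h, -⟩ <;> simp [h]
  obtain ⟨w, hw⟩ := dual_of hβ fun i => (⟨σ, d1⟩ : PR).f β (un i)
  set w' := app σ w with hw'
  have hbb : ∀ a b, bb β (app σ a) (app σ b) = bb β a b := by
    have h2 : Bil fun a b => bb β (app σ a) (app σ b) := ⟨fun a b c => by simp only [app_xr, C.bil.bb_left],
      fun a b c => by simp only [app_xr, C.bil.bb_right]⟩
    exact h2.ext (bb_bil C.bil) hσbb
  refine ⟨β, S, σ, hK, ⟨⟨C', M, hin', C'.j w' false * e0, ?_, ?_, ?_⟩⟩⟩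
  · exact (Cz z).mul_mem (H.QC (C'.mem _ _)) he0
  · rw [H.aut_mul (H.QC (C'.mem _ _)) he0, H.aut_Q (C'.mem _ _), ha0, one_mul]
  · have h := C'.act_mul (C'.act_inn w' false) hd1
    have hM' : comp idL σ = σ := id_comp σ
    have hd' : (pmul β (pinn β w') ⟨σ, d1⟩).d = 0 := by
      have h0 : bitsV (fun _ => false) = (0 : V8) := by decide +kernel
      rw [← h0]
      simp only [pmul]
      refine congrArg bitsV (funext fun i => ?_)
      show ((⟨σ, d1⟩ : PR).f β (un i) ^^ (pinn β w').f β (app σ (un i))) = false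
      have hlin : ∀ v, (pinn β w').f β v = bb β w' v := by
        intro v
        have h1 := C'.act_inn w' false v false
        have e : C'.j w' false * C'.j v false * (C'.j w' false)⁻¹ = C'.j v (bb β w' v) := by
          rw [C'.j_inv, C'.mul, C'.mul, xr_comm w' v, xr_assoc, xr_self, xr_zero, C'.bil.left, qq, bb]
          congr 1
          cases β w' v <;> cases β v w' <;> cases β w' w' <;> rfl
        rw [e] at h1
        simpa using (C'.inj _ _ _ _ h1).2.symm
      rw [hlin, hw', hbb, hw]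
      simp
    have e : pmul β (pinn β w') ⟨σ, d1⟩ = ⟨σ, 0⟩ := by
      cases hp : pmul β (pinn β w') ⟨σ, d1⟩ with
      | mk M' d' =>
        have h1 : M' = σ := by rw [← hM']; exact (congrArg PR.M hp).symm
        have h2 : d' = 0 := by rw [← hd']; exact (congrArg PR.d hp).symm
        rw [h1, h2]
    rwa [e] at h

end Two

end CfsgLib.USixTwo
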