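import Cfsg.Agent.Lib.USixTwo.AAnti
import Cfsg.Agent.Lib.USixTwo.ASplit
import Cfsg.Agent.Lib.USixTwo.IsoB
import Cfsg.Agent.Lib.USixTwo.Frame
import Cfsg.Agent.Lib.USixType.Main

/-!
A group with an involution centraliser `2^{1+8}.Aut(U₄(2))` has it isolated or has `U₆(2)` of index two.
-/

set_option autoImplicit false
set_option linter.unusedSectionVars false
set_option linter.style.haveILetI false

open Cfsg CfsgLib.Extraspecial CfsgLib.USixType
open CfsgLib.HePres (K4)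

namespace CfsgLib.USixTwo

variable {G : Type*} [Group G] [Finite G] {z : G} {Q : Subgroup G} {π : ↥(Cz z) →* MulAut G4}

/-- The inner part as a centraliser in a subgroup of index two. -/
theorem Two.exists_pre (H : Two z Q π) {G0 : Subgroup G} (hz0 : z ∈ G0)
    (hinn : ∀ x ∈ Cz z, x ∈ G0 ↔ x ∈ inn π) :
    ∃ π0 : ↥(Cz (⟨z, hz0⟩ : G0)) →* G4, Pre (⟨z, hz0⟩ : G0) (Q.subgroupOf G0) π0 := by
  classical
  let z0 : G0 := ⟨z, hz0⟩
  have hmem : ∀ x : G0, x ∈ Cz z0 ↔ (x : G) ∈ Cz z := fun x =>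
    ⟨fun h => mem_Cz.2 (congrArg Subtype.val (mem_Cz.1 h)), fun h => mem_Cz.2 (Subtype.ext (mem_Cz.1 h))⟩
  have hC : ∀ x : ↥(Cz z0), ((x : G0) : G) ∈ Cz z := fun x => (hmem _).1 x.2
  have hex : ∀ x : ↥(Cz z0), ∃ g, aut z π ((x : G0) : G) = MulAut.conj g := fun x =>
    (H.mem_inn.1 ((hinn _ (hC x)).1 (x : G0).2)).2
  choose f hf using hex
  let π0 : ↥(Cz z0) →* G4 := MonoidHom.mk' f fun a b => conj_inj (by
    rw [← hf, map_mul, ← hf, ← hf]
    exact H.aut_mul (hC a) (hC b))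
  have hQ0 : Q ≤ G0 := fun q hq => (hinn q (H.QC hq)).2 (H.Q_inn hq)
  refine ⟨π0, ?_, ?_, ?_, fun g => ?_⟩
  · -- the setting restricts
    have hm : ∀ x : G0, x ∈ Subgroup.zpowers z0 ↔ (x : G) ∈ Subgroup.zpowers z := fun x => by
      simp only [Subgroup.mem_zpowers_iff]
      exact exists_congr fun n => by rw [← Subtype.coe_inj, SubgroupClass.coe_zpow]
    have hQC := H.QC
    refine ⟨isExtraspecial_congr (Subgroup.subgroupOfEquivOfLe hQ0).symm H.st.ex, ?_, ?_, ?_, ?_⟩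
    · ext x
      rw [hm]
      constructor
      · rintro ⟨w, hw, rfl⟩
        rcases H.st.eq_of_forall (x := ((w : G0) : G)) w.2 (fun q hq =>
          congrArg (fun y : Q.subgroupOf G0 => ((y : G0) : G))
            (Subgroup.mem_center_iff.1 hw ⟨⟨q, hQ0 hq⟩, hq⟩)) with e | e
        · exact e.symm ▸ Subgroup.one_mem (Subgroup.zpowers z)
        · exact e.symm ▸ Subgroup.mem_zpowers z
      · intro hx
        have hxQ : (x : G) ∈ Q := by
          rcases H.st.mem_zpowers hx with e | e <;> rw [e]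
          exacts [Q.one_mem, H.st.z_mem]
        refine ⟨⟨x, hxQ⟩, Subgroup.mem_center_iff.2 fun q => Subtype.ext (Subtype.ext ?_), rfl⟩
        show ((q : G0) : G) * x = x * ((q : G0) : G)
        rcases H.st.mem_zpowers hx with e | e <;> rw [e]
        · simp
        · exact H.st.z_comm q.2
    · rw [← Subgroup.orderOf_coe]; exact H.st.ordz
    · ext x
      rw [hm, Subgroup.mem_centralizer_iff]
      constructor
      · intro h
        rw [← H.st.cQ, Subgroup.mem_centralizer_iff]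
        exact fun q hq => congrArg Subtype.val (h ⟨q, hQ0 hq⟩ hq)
      · intro hx q hq
        refine Subtype.ext ?_
        show (q : G) * x = x * q
        rcases H.st.mem_zpowers hx with e | e <;> rw [e]
        · simp
        · exact H.st.z_comm hq
    · intro x hx
      rw [Subgroup.mem_normalizer_iff]
      intro q
      exact Subgroup.mem_normalizer_iff.1 (H.st.cz ((hmem x).1 hx)) q
  · rw [Nat.card_congr (Subgroup.subgroupOfEquivOfLe hQ0).toEquiv, H.card]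
  · ext x
    rw [MonoidHom.mem_ker, Subgroup.mem_subgroupOf, Subgroup.mem_subgroupOf, ← H.aut_eq_one (hC x), hf]
    show f x = 1 ↔ _
    rw [← (MulAut.conj : G4 →* MulAut G4).map_one, conj_inj.eq_iff]
  · obtain ⟨c, hc, e⟩ := H.lift (MulAut.conj g)
    have hc0 : c ∈ G0 := (hinn c hc).2 (H.mem_inn.2 ⟨hc, g, e⟩)
    refine ⟨⟨⟨c, hc0⟩, (hmem _).2 hc⟩, conj_inj ?_⟩
    show MulAut.conj (f _) = _
    rw [← hf]; exact e

/-- The dichotomy. -/
theorem index_two_or_isolated (H : Two z Q π) :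
    (∀ g : G, g * z * g⁻¹ ∈ Cz z → g * z * g⁻¹ = z) ∨
      ∃ G0 : Subgroup G, G0.index = 2 ∧ Nonempty (G0 ≃* Cfsg.PSU 6 K4 2) ∧
        Subgroup.centralizer (G0 : Set G) = ⊥ := by
  obtain ⟨β, S, σ, hK, ⟨F⟩⟩ := H.exists_fr
  by_cases hS : S = wL
  · exact Or.inl (F.isolatedB H hK hS)
  obtain ⟨rfl, rfl, rfl⟩ : β = bA ∧ S = gL ∧ σ = sgA := by
    rcases hK with h | ⟨-, h, -⟩ | ⟨-, h, -⟩ | ⟨-, h, -⟩ | ⟨-, h, -⟩
    · exact h
    all_goals exact absurd h hS
  obtain ⟨a1, h1⟩ := F.exists_lf H (gen 1)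
  obtain ⟨a3, h3⟩ := F.exists_lf H (gen 3)
  have h13 : gen 3 * gen 1 = gen 1 * gen 3 := natL_inj (by
    rw [natL_mul, natL_mul, natL_gen, natL_gen]; decide +kernel)
  have hm := Fr.Lf.mul F H h3 h1
  rw [h13] at hm
  rcases Fr.Lf.unique F H hm (Fr.Lf.mul F H h1 h3) with hcom | hanti
  swap
  · exact Or.inl (F.isolated_anti H h1 h3 hanti)
  obtain ⟨T⟩ := F.exists_split H h1 h3 hcom
  obtain ⟨V, hVi, hVt⟩ := T.exists_sign H
  set G0 := V.ker with hG0
  have hne : (-1 : ℤˣ) ≠ 1 := by decide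
  have htC := T.tC H
  have hinn : ∀ x ∈ Cz z, x ∈ G0 ↔ x ∈ inn π := by
    refine fun x hx => ⟨fun h => ?_, fun h => hVi x h⟩
    by_contra ho
    have hi : x * T.t ∈ inn π := (H.outer_mul hx htC).2 ⟨fun h' => absurd h' ho, fun h' => absurd h' (T.t_out H)⟩
    have := hVi _ hi
    rw [map_mul, show V x = 1 from h, hVt, one_mul] at this
    exact hne this
  have hsurj : Function.Surjective V := fun u => by
    rcases Int.units_eq_one_or u with rfl | rfl
    exacts [⟨1, map_one V⟩, ⟨_, hVt⟩]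
  have hidx : G0.index = 2 := by
    rw [hG0, Subgroup.index_ker, MonoidHom.range_eq_top.2 hsurj, Subgroup.card_top, Nat.card_eq_fintype_card,
      Fintype.card_units_int]
  have hz0 : z ∈ G0 := hVi z H.z_inn
  obtain ⟨π0, P⟩ := H.exists_pre hz0 hinn
  -- isolation passes to the group
  have up : (∀ g : G0, g * ⟨z, hz0⟩ * g⁻¹ ∈ Cz (⟨z, hz0⟩ : G0) → g * ⟨z, hz0⟩ * g⁻¹ = ⟨z, hz0⟩) →
      ∀ g : G, g * z * g⁻¹ ∈ Cz z → g * z * g⁻¹ = z := by
    intro h g hg
    obtain ⟨g0, hg0, e⟩ : ∃ g0 ∈ G0, g * z * g⁻¹ = g0 * z * g0⁻¹ := by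
      rcases Int.units_eq_one_or (V g) with e | e
      · exact ⟨g, e, rfl⟩
      · refine ⟨g * T.t, ?_, ?_⟩
        · rw [hG0, MonoidHom.mem_ker, map_mul, e, hVt]; rfl
        · calc g * z * g⁻¹ = g * (z * T.t) * T.t⁻¹ * g⁻¹ := by group
            _ = g * (T.t * z) * T.t⁻¹ * g⁻¹ := by rw [mem_Cz.1 htC]
            _ = _ := by group
    rw [e] at hg ⊢
    exact congrArg Subtype.val (h ⟨g0, hg0⟩ (mem_Cz.2 (Subtype.ext (mem_Cz.1 hg))))
  rcases psu_or_isolated P with h | hpsu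
  · exact Or.inl (up h)
  by_cases hcen : ∀ g ∈ G0, g * z = z * g
  · refine Or.inl (up fun g _ => Subtype.ext ?_)
    show (g : G) * z * (g : G)⁻¹ = z
    rw [hcen g g.2, mul_inv_cancel_right]
  refine Or.inr ⟨G0, hidx, hpsu, (Subgroup.eq_bot_iff_forall _).2 fun x hx => ?_⟩
  rw [Subgroup.mem_centralizer_iff] at hx
  have hQx : x ∈ Subgroup.centralizer (Q : Set G) :=
    Subgroup.mem_centralizer_iff.2 fun q hq => hx q ((hinn q (H.QC hq)).2 (H.Q_inn hq))
  rw [H.st.cQ] at hQx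
  rcases H.st.mem_zpowers hQx with rfl | rfl
  · rfl
  · exact absurd hx hcen

/-- The statement in terms of a quotient isomorphic to `Aut(PSp₄(3))`. -/
theorem classify (hz : orderOf z = 2) {F : Type*} [Field F] [Fintype F] (hF : Fintype.card F = 3)
    {K : Type*} [Field K] [Fintype K] (hK : Fintype.card K = 4)
    (hJ : IsExtraspecial 2 ↥(pCore 2 ↥(Cz z))) (hJc : Nat.card ↥(pCore 2 ↥(Cz z)) = 2 ^ 9)
    (hCJ : Subgroup.centralizer ((pCore 2 ↥(Cz z)) : Set ↥(Cz z)) ≤ pCore 2 ↥(Cz z))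
    [hJn : (pCore 2 ↥(Cz z)).Normal] (e : (↥(Cz z) ⧸ pCore 2 ↥(Cz z)) ≃* MulAut (PSp 2 F)) :
    (∃ G0 : Subgroup G, G0.index = 2 ∧ Nonempty (↥G0 ≃* PSU 6 K 2) ∧
      Subgroup.centralizer (G0 : Set G) = ⊥) ∨ Cz z ⊔ oddCore G = ⊤ := by
  haveI := Fact.mk Nat.prime_two
  obtain ⟨e0⟩ := exists_psp hF
  let e1 : (↥(Cz z) ⧸ pCore 2 ↥(Cz z)) ≃* MulAut G4 := e.trans (MulAut.congr e0)
  set O := pCore 2 ↥(Cz z) with hO
  set π : ↥(Cz z) →* MulAut G4 := e1.toMonoidHom.comp (QuotientGroup.mk' O) with hπ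
  have H : Two z (O.map (Cz z).subtype) π := by
    refine ⟨setting_of hz O hJ hCJ, ?_, ?_, ?_⟩
    · rw [Subgroup.card_map_of_injective (Subgroup.subtype_injective _), hJc]; norm_num
    · ext c
      rw [MonoidHom.mem_ker, Subgroup.mem_subgroupOf, hπ]
      show e1 (QuotientGroup.mk' O c) = 1 ↔ _
      rw [map_eq_one_iff _ e1.injective, QuotientGroup.mk'_apply, QuotientGroup.eq_one_iff]
      exact ⟨fun h => ⟨c, h, rfl⟩, fun ⟨d, hd, he⟩ => by rwa [← Subtype.ext (a1 := d) (a2 := c) he]⟩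
    · exact e1.surjective.comp (QuotientGroup.mk'_surjective O)
  rcases index_two_or_isolated H with h | ⟨G0, hi, hφ, hc⟩
  · exact Or.inr (sup_oddCore_of_isolated hz h)
  · obtain ⟨φ⟩ := hφ
    obtain ⟨φ6⟩ := GTwoTwo.psu_equiv (FiniteField.ringEquivOfCardEq (K := K4) (K' := K)
      (by rw [K4.card_eq, hK])) 6 2
    exact Or.inl ⟨G0, hi, ⟨φ.trans φ6⟩, hc⟩

end CfsgLib.USixTwo
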