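import Cfsg.Agent.Lib.USixTwo.Weak
import Cfsg.Agent.Lib.USixType.Action

/-!
Mirrors of conjugates of the central involution, and reduction to a Sylow `2`-subgroup.
-/

set_option autoImplicit false
set_option linter.unusedSectionVars false
set_option linter.style.haveILetI false
set_option maxRecDepth 100000

open Cfsg CfsgLib.Extraspecial CfsgLib.USixType

namespace CfsgLib.USixTwo

theorem syl_norm : (∀ L ∈ plist gL (sylPg gL), comp sgA (comp L sgA) ∈ plist gL (sylPg gL)) ∧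
    ∀ s ∈ [sgB0, sgB1], ∀ L ∈ plist wL (sylPg wL), comp s (comp L s) ∈ plist wL (sylPg wL) := by
  have h : (plist gL (sylPg gL)).all (fun L => (plist gL (sylPg gL)).contains (comp sgA (comp L sgA))) = true ∧
      [sgB0, sgB1].all (fun s => (plist wL (sylPg wL)).all fun L =>
        (plist wL (sylPg wL)).contains (comp s (comp L s))) = true := by decide +kernel
  simp only [List.all_eq_true, List.contains_iff_mem] at h
  exact h

/-- The matrices of a Sylow `2`-subgroup. -/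
def sylL (S : Fin 5 → Lin) (σ : Lin) : List Lin :=
  plist S (sylPg S) ++ (plist S (sylPg S)).map fun L => comp L σ

/-- The conjugates by inner elements of a translation. -/
def cjU (β : V8 → V8 → Bool) (u : V8) (p : PR) : PR := pmul β (pinn β u) (pmul β p (pinn β u))

theorem exists_syl_group {S : Fin 5 → Lin} (M : Mdl S) (hS : S = gL ∨ S = wL) :
    ∃ P : Subgroup G4, Nat.card P = 64 ∧ ∀ g, g ∈ P ↔ M.L g ∈ plist S (sylPg S) := by
  obtain ⟨hl, hok⟩ : (sylPg S).length = 6 ∧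
      (decide (plist S (sylPg S)).Nodup && (sylPg S).all fun w => (plist S (sylPg S)).all fun L =>
        (plist S (sylPg S)).contains (comp (linW S w) L)) = true := by
    rcases hS with rfl | rfl
    exacts [⟨sylPg_len.1, sylPg_ok.1⟩, ⟨sylPg_len.2, sylPg_ok.2⟩]
  simp only [Bool.and_eq_true, decide_eq_true_eq, List.all_eq_true, List.contains_iff_mem] at hok
  obtain ⟨P, hcard, hlist, -⟩ := M.exists_pgrp hok.1 hok.2
  rw [hl] at hcard
  refine ⟨P, hcard, fun g => ⟨hlist g, fun hg => ?_⟩⟩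
  classical
  have hsurj : (Finset.univ.image fun x : P => M.L x) = (plist S (sylPg S)).toFinset := by
    refine Finset.eq_of_subset_of_card_le (fun L hL => ?_) ?_
    · obtain ⟨x, -, rfl⟩ := Finset.mem_image.1 hL
      exact List.mem_toFinset.2 (hlist x x.2)
    · rw [Finset.card_image_of_injective _ (fun a b e => Subtype.ext (M.inj e)), Finset.card_univ,
        ← Nat.card_eq_fintype_card, hcard, List.toFinset_card_of_nodup hok.1]
      have : ∀ l : List (List (Fin 5)), (plist S l).length = 2 ^ l.length := fun l => by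
        induction l with
        | nil => rfl
        | cons w l ih => simp [plist, ih, pow_succ, mul_two]
      rw [this, hl]
  obtain ⟨x, -, hx⟩ := Finset.mem_image.1 (hsurj.ge (List.mem_toFinset.2 hg))
  exact M.inj hx ▸ x.2

namespace Fr

variable {G : Type*} [Group G] [Finite G] {z : G} {Q : Subgroup G} {π : ↥(Cz z) →* MulAut G4}
  {β : V8 → V8 → Bool} {S : Fin 5 → Lin} {σ : Lin} (F : Fr z Q π β S σ) (H : Two z Q π)
include F H

theorem al_L (hK : Kind β S σ) (g : G4) : comp σ (comp (F.M.L (al g)) σ) = F.M.L g :=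
  Mdl.al_conj F.M hK.model.2.1 hK.model.2.2.1 g

theorem aut_ee : aut z π F.e * aut z π F.e = 1 := by
  rw [F.eAut]; exact MulEquiv.ext fun y => alF_alF y

/-- An outer element acts by a matrix times the field automorphism. -/
theorem outer_act {x : G} (hx : x ∈ Cz z) {g : G4} (hg : aut z π x = MulAut.conj g * al) :
    ∃ d, F.C.Act x ⟨comp (F.M.L g) σ, d⟩ := by
  have hc : x * F.e⁻¹ ∈ Cz z := (Cz z).mul_mem hx ((Cz z).inv_mem F.eC)
  obtain ⟨d, hd⟩ := F.inner _ hc g (by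
    rw [H.aut_mul hx ((Cz z).inv_mem F.eC), H.aut_inv F.eC, hg, F.eAut]; group)
  have h := F.C.act_mul hd F.eAct
  rw [inv_mul_cancel_right] at h
  exact ⟨_, h⟩

/-- Inner or outer with a matrix. -/
theorem act_cases {x : G} (hx : x ∈ Cz z) :
    ∃ g, (aut z π x = MulAut.conj g ∧ x ∈ inn π) ∨ (aut z π x = MulAut.conj g * al ∧ x ∉ inn π) := by
  by_cases h : x ∈ inn π
  · obtain ⟨-, g, hg⟩ := H.mem_inn.1 h
    exact ⟨g, Or.inl ⟨hg, h⟩⟩
  · have h1 : x * F.e⁻¹ ∈ inn π := (H.outer_mul hx ((Cz z).inv_mem F.eC)).2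
      ⟨fun h' => absurd h' h, fun h' => absurd (inv_mem_iff.1 h') (H.al_not_inn F.eAut)⟩
    obtain ⟨-, g, hg⟩ := H.mem_inn.1 h1
    refine ⟨g, Or.inr ⟨?_, h⟩⟩
    rw [← hg, H.aut_mul hx ((Cz z).inv_mem F.eC), H.aut_inv F.eC, F.eAut]; group

/-- An element of two power order is conjugate into the Sylow list. -/
theorem conj_syl (hK : Kind β S σ) {a : G} (ha : a ∈ Cz z) {n : ℕ} (hn : (aut z π a) ^ 2 ^ n = 1) :
    ∃ h ∈ Cz z, ∃ g, F.M.L g ∈ plist S (sylPg S) ∧
      ((aut z π (h * a * h⁻¹) = MulAut.conj g ∧ a ∈ inn π) ∨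
        (aut z π (h * a * h⁻¹) = MulAut.conj g * al ∧ a ∉ inn π)) := by
  classical
  have hS : S = gL ∨ S = wL := by
    rcases hK.model.1 with ⟨-, h⟩ | ⟨-, h⟩ | ⟨-, h⟩ <;> simp [h]
  obtain ⟨P, hPc, hP⟩ := exists_syl_group F.M hS
  have halP : ∀ g ∈ P, al g ∈ P := by
    intro g hg
    rw [hP] at hg ⊢
    have hσ := hK.model.2.1
    have e : F.M.L (al g) = comp σ (comp (F.M.L g) σ) := by
      rw [← F.al_L H hK g]
      simp only [comp_assoc, hσ, comp_id]
      rw [← comp_assoc, hσ, id_comp]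
    rw [e]
    rcases hK with ⟨rfl, rfl, rfl⟩ | ⟨rfl, rfl, rfl⟩ | ⟨rfl, rfl, rfl⟩ | ⟨rfl, rfl, rfl⟩ | ⟨rfl, rfl, rfl⟩
    exacts [syl_norm.1 _ hg, syl_norm.2 _ (by simp) _ hg, syl_norm.2 _ (by simp) _ hg,
      syl_norm.2 _ (by simp) _ hg, syl_norm.2 _ (by simp) _ hg]
  let P1 : Subgroup (MulAut G4) := P.map MulAut.conj
  let ψ : MulAut G4 := al
  have hψ : ψ * ψ = 1 := MulEquiv.ext fun y => alF_alF y
  have hconj : ∀ g, al * MulAut.conj g = MulAut.conj (al g) * al := fun g => MulEquiv.ext fun y => by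
    simp [MulAut.mul_apply, map_mul]
  let P2 : Subgroup (MulAut G4) :=
    { carrier := {x | ∃ g ∈ P, x = MulAut.conj g ∨ x = MulAut.conj g * al}
      one_mem' := ⟨1, P.one_mem, Or.inl (map_one _).symm⟩
      mul_mem' := by
        rintro a b ⟨g, hg, rfl | rfl⟩ ⟨k, hk, rfl | rfl⟩
        · exact ⟨g * k, P.mul_mem hg hk, Or.inl (map_mul _ _ _).symm⟩
        · exact ⟨g * k, P.mul_mem hg hk, Or.inr (by rw [map_mul, mul_assoc])⟩
        · exact ⟨g * al k, P.mul_mem hg (halP k hk), Or.inr (by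
            rw [map_mul, mul_assoc, hconj, ← mul_assoc])⟩
        · refine ⟨g * al k, P.mul_mem hg (halP k hk), Or.inl ?_⟩
          rw [map_mul, show MulAut.conj g * al * (MulAut.conj k * al) = MulAut.conj g * (al * MulAut.conj k) * al by group,
            hconj, mul_assoc, mul_assoc, hψ, mul_one]
      inv_mem' := by
        rintro a ⟨g, hg, rfl | rfl⟩
        · exact ⟨g⁻¹, P.inv_mem hg, Or.inl (map_inv _ _).symm⟩
        · refine ⟨al g⁻¹, halP _ (P.inv_mem hg), Or.inr ?_⟩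
          rw [mul_inv_rev, ← map_inv, inv_eq_of_mul_eq_one_right hψ, hconj] }
  have hP2 : Nat.card P2 = 2 ^ 7 := by
    have hcc : Nat.card (↥P × Bool) = 2 ^ 7 := by
      rw [Nat.card_prod, hPc, Nat.card_eq_fintype_card, Fintype.card_bool]; norm_num
    rw [← hcc]
    symm
    have hmem : ∀ p : ↥P × Bool, cond p.2 (MulAut.conj (p.1 : G4) * al) (MulAut.conj (p.1 : G4)) ∈ P2 := by
      rintro ⟨g, b⟩
      cases b
      exacts [⟨g, g.2, Or.inl rfl⟩, ⟨g, g.2, Or.inr rfl⟩]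
    refine Nat.card_congr (Equiv.ofBijective (fun p => (⟨_, hmem p⟩ : P2)) ⟨?_, ?_⟩)
    · rintro ⟨g, b⟩ ⟨k, c⟩ e
      have e' := congrArg Subtype.val e
      cases b <;> cases c <;> simp only [cond_true, cond_false] at e'
      · exact Prod.ext (Subtype.ext (conj_inj e')) rfl
      · refine absurd ⟨(k : G4)⁻¹ * g, ?_⟩ al_outer
        rw [map_mul, map_inv, e']; group
      · refine absurd ⟨(g : G4)⁻¹ * k, ?_⟩ al_outer
        rw [map_mul, map_inv, ← e']; group
      · exact Prod.ext (Subtype.ext (conj_inj (mul_right_cancel e'))) rfl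
    · rintro ⟨x, g, hg, rfl | rfl⟩
      exacts [⟨(⟨g, hg⟩, false), rfl⟩, ⟨(⟨g, hg⟩, true), rfl⟩]
  haveI : Fact (Nat.Prime 2) := ⟨Nat.prime_two⟩
  haveI : Finite (MulAut G4) := Nat.finite_of_card_ne_zero (by rw [card_mulAut_G4]; norm_num)
  let SP : Sylow 2 (MulAut G4) := Sylow.ofCard P2 (by
    rw [hP2, card_mulAut_G4, show (51840 : ℕ) = 2 ^ 7 * 405 from rfl,
      Nat.factorization_mul (by norm_num) (by norm_num), Finsupp.add_apply,
      Nat.Prime.factorization_pow Nat.prime_two, Finsupp.single_eq_same,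
      Nat.factorization_eq_zero_of_not_dvd (by norm_num : ¬(2 ∣ 405))])
  have hC : IsPGroup 2 ↥(Subgroup.zpowers (aut z π a)) := by
    obtain ⟨k, -, hk⟩ := (Nat.dvd_prime_pow Nat.prime_two).1 (orderOf_dvd_of_pow_eq_one hn)
    exact IsPGroup.of_card (by rw [Nat.card_zpowers, hk])
  obtain ⟨T, hT⟩ := hC.exists_le_sylow
  obtain ⟨m, hm⟩ := MulAction.exists_smul_eq (MulAut G4) T SP
  obtain ⟨h, hh, hhm⟩ := H.lift m
  have hmem : m * aut z π a * m⁻¹ ∈ (m • T : Sylow 2 (MulAut G4)) :=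
    ⟨aut z π a, hT (Subgroup.mem_zpowers _), rfl⟩
  rw [hm] at hmem
  obtain ⟨g, hg, hga⟩ := hmem
  rw [← hhm, ← H.aut_conj hh ha] at hga
  have hinn : h * a * h⁻¹ ∈ inn π ↔ a ∈ inn π := ⟨fun e => by
    have := H.inn_conj ((Cz z).inv_mem hh) e
    rwa [inv_inv, show h⁻¹ * (h * a * h⁻¹) * h = a by group] at this, H.inn_conj hh⟩
  refine ⟨h, hh, g, (hP g).1 hg, ?_⟩
  rcases hga with e | e
  · exact Or.inl ⟨e, hinn.1 (H.mem_inn.2 ⟨(Cz z).mul_mem ((Cz z).mul_mem hh ha) ((Cz z).inv_mem hh), g, e⟩)⟩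
  · refine Or.inr ⟨e, fun hi => ?_⟩
    obtain ⟨-, k, hk⟩ := H.mem_inn.1 (hinn.2 hi)
    exact al_outer ⟨g⁻¹ * k, by rw [map_mul, map_inv, ← hk, e]; group⟩

/-- The matrix and signs of an element of two power order, up to conjugation. -/
theorem conj_syl_act (hK : Kind β S σ) {a : G} (ha : a ∈ Cz z) {n : ℕ} (hn : (aut z π a) ^ 2 ^ n = 1) :
    ∃ h ∈ Cz z, ∃ p, F.C.Act (h * a * h⁻¹) p ∧
      ((p.M ∈ plist S (sylPg S) ∧ a ∈ inn π) ∨
        (p.M ∈ (plist S (sylPg S)).map (fun L => comp L σ) ∧ a ∉ inn π)) := by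
  obtain ⟨h, hh, g, hg, hcase⟩ := F.conj_syl H hK ha hn
  have hb : h * a * h⁻¹ ∈ Cz z := (Cz z).mul_mem ((Cz z).mul_mem hh ha) ((Cz z).inv_mem hh)
  rcases hcase with ⟨e, hi⟩ | ⟨e, ho⟩
  · obtain ⟨d, hd⟩ := F.inner _ hb g e
    exact ⟨h, hh, _, hd, Or.inl ⟨hg, hi⟩⟩
  · obtain ⟨d, hd⟩ := F.outer_act H hb e
    exact ⟨h, hh, _, hd, Or.inr ⟨List.mem_map.2 ⟨_, hg, rfl⟩, ho⟩⟩

/-- Squares and commutators. -/
theorem comm_inn {x y : G} (hx : x ∈ Cz z) (hy : y ∈ Cz z) : x * y * x⁻¹ * y⁻¹ ∈ inn π := by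
  by_cases hxi : x ∈ inn π
  · rw [show x * y * x⁻¹ * y⁻¹ = x * (y * x⁻¹ * y⁻¹) by group]
    exact (inn π).mul_mem hxi (H.inn_conj hy ((inn π).inv_mem hxi))
  · refine (H.outer_mul ((Cz z).mul_mem ((Cz z).mul_mem hx hy) ((Cz z).inv_mem hx)) ((Cz z).inv_mem hy)).2 ?_
    rw [inv_mem_iff]
    exact ⟨fun h => by
      have := H.inn_conj ((Cz z).inv_mem hx) h
      rwa [inv_inv, show x⁻¹ * (x * y * x⁻¹) * x = y by group] at this, fun h => H.inn_conj hx h⟩

/-- Conjugation into the centraliser. -/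
theorem pull {g x : G} (hx : x * (g * z * g⁻¹) = g * z * g⁻¹ * x) : g⁻¹ * x * g ∈ Cz z := by
  refine mem_Cz.2 ?_
  calc g⁻¹ * x * g * z = g⁻¹ * (x * (g * z * g⁻¹)) * g := by group
    _ = g⁻¹ * (g * z * g⁻¹ * x) * g := by rw [hx]
    _ = z * (g⁻¹ * x * g) := by group

/-- A square root of `z` makes the mirror a square. -/
theorem mirror_sq {g x : G} (hxa : x * (g * z * g⁻¹) = g * z * g⁻¹ * x) (hxx : x * x = z) :
    g⁻¹ * z * g ∈ inn π ∧ ∃ y ∈ Cz z, y * y = g⁻¹ * z * g := by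
  have e : g⁻¹ * x * g * (g⁻¹ * x * g) = g⁻¹ * z * g := by rw [← hxx]; group
  exact ⟨e ▸ H.sq_inn (F.pull H hxa), _, F.pull H hxa, e⟩

/-- A commutator equal to `z` makes the mirror inner. -/
theorem mirror_comm {g c x : G} (hca : c * (g * z * g⁻¹) = g * z * g⁻¹ * c)
    (hxa : x * (g * z * g⁻¹) = g * z * g⁻¹ * x) (hcx : c * x * c⁻¹ * x⁻¹ = z) : g⁻¹ * z * g ∈ inn π := by
  have := F.comm_inn H (F.pull H hca) (F.pull H hxa)
  rwa [show g⁻¹ * c * g * (g⁻¹ * x * g) * (g⁻¹ * c * g)⁻¹ * (g⁻¹ * x * g)⁻¹ =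
    g⁻¹ * (c * x * c⁻¹ * x⁻¹) * g by group, hcx] at this

theorem f_fix {x : G} {p : PR} (hx : F.C.Act x p) {v w : V8} (hv : app p.M v = v) (hw : app p.M w = w) :
    p.f β (xr v w) = (p.f β v ^^ p.f β w) := by
  have e : x * (F.C.j v false * F.C.j w false) * x⁻¹ =
      x * F.C.j v false * x⁻¹ * (x * F.C.j w false * x⁻¹) := by group
  rw [F.C.mul, hx, hx, hx, F.C.mul, app_xr, hv, hw] at e
  have e2 := (F.C.inj _ _ _ _ e).2
  revert e2
  cases p.f β (xr v w) <;> cases p.f β v <;> cases p.f β w <;> cases β v w <;> decide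

/-- A fixed anisotropic line gives a square root of `z` centralising the element. -/
theorem sq_line {x : G} {p : PR} (hx : F.C.Act x p) {u v : V8} (hu : app p.M u = u) (hv : app p.M v = v)
    (qu : qq β u = true) (qv : qq β v = true) (quv : qq β (xr u v) = true) :
    ∃ y ∈ Q, y * x = x * y ∧ y * y = z := by
  obtain ⟨w, hw, hq, hf⟩ : ∃ w, app p.M w = w ∧ qq β w = true ∧ p.f β w = false := by
    have h := F.f_fix H hx hu hv
    cases e1 : p.f β u
    · exact ⟨u, hu, qu, e1⟩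
    cases e2 : p.f β v
    · exact ⟨v, hv, qv, e2⟩
    rw [e1, e2] at h
    exact ⟨xr u v, by rw [app_xr, hu, hv], quv, h⟩
  exact ⟨F.C.j w false, F.C.mem _ _, ((F.C.act_comm hx w false).2 ⟨hw, hf⟩).symm, by
    rw [F.C.sq, hq, F.C.j_z]⟩

/-- The form is invariant. -/
theorem bb_act {x : G} {p : PR} (hx : F.C.Act x p) (v w : V8) :
    bb β (app p.M v) (app p.M w) = bb β v w := by
  have h : ∀ a b : Bool, (a = false ↔ b = false) → a = b := by decide
  apply h
  rw [← F.C.comm_iff (app p.M v) (app p.M w) (false ^^ p.f β v) (false ^^ p.f β w), ← hx, ← hx,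
    ← F.C.comm_iff v w false false]
  exact Commute.conj_iff x

/-- Every pair over a group element occurs. -/
theorem exists_act (hK : Kind β S σ) (g : G4) (d : V8) :
    ∃ x ∈ inn π, aut z π x = MulAut.conj g ∧ F.C.Act x ⟨F.M.L g, d⟩ := by
  classical
  obtain ⟨c, hc, hcg⟩ := H.lift (MulAut.conj g)
  obtain ⟨d0, hd0⟩ := F.inner c hc g hcg
  have hβ : β = bA ∨ β = bD := by rcases hK.model.1 with ⟨h, -⟩ | ⟨h, -⟩ | ⟨h, -⟩ <;> simp [h]
  obtain ⟨w0, hw0⟩ := dual_of hβ fun i => af β (F.M.L g) d0 (un i) ^^ af β (F.M.L g) d (un i)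
  set w := app (F.M.L g) w0
  have hx : F.C.j w false * c ∈ Cz z := (Cz z).mul_mem (H.QC (F.C.mem _ _)) hc
  have haut : aut z π (F.C.j w false * c) = MulAut.conj g := by
    rw [H.aut_mul (H.QC (F.C.mem _ _)) hc, H.aut_Q (F.C.mem _ _), hcg, one_mul]
  refine ⟨_, H.mem_inn.2 ⟨hx, g, haut⟩, haut, ?_⟩
  have h := F.C.act_mul (F.C.act_inn w false) hd0
  have hb : ∀ d : V8, bitsV (fun i => linD d (un i)) = d := by decide +kernel
  have hd : (pmul β (pinn β w) ⟨F.M.L g, d0⟩).d = d := by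
    rw [← hb d]
    simp only [pmul]
    refine congrArg bitsV (funext fun i => ?_)
    have e : (pinn β w).f β (app (F.M.L g) (un i)) = bb β w (app (F.M.L g) (un i)) := by
      have h1 := F.C.act_inn w false (app (F.M.L g) (un i)) false
      have e : F.C.j w false * F.C.j (app (F.M.L g) (un i)) false * (F.C.j w false)⁻¹ =
          F.C.j (app (F.M.L g) (un i)) (bb β w (app (F.M.L g) (un i))) := by
        generalize app (F.M.L g) (un i) = u
        rw [F.C.j_inv, F.C.mul, F.C.mul, xr_comm w u, xr_assoc, xr_self, xr_zero, F.C.bil.left, qq, bb]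
        congr 1
        cases β w u <;> cases β u w <;> cases β w w <;> rfl
      rw [e] at h1
      simpa using (F.C.inj _ _ _ _ h1).2.symm
    show (af β (F.M.L g) d0 (un i) ^^ (pinn β w).f β (app (F.M.L g) (un i))) = _
    rw [e, F.bb_act H hd0, hw0]
    have e2 : af β (F.M.L g) d (un i) = linD d (un i) := by simp [af, lowG_units]
    rw [← e2]
    cases af β (F.M.L g) d0 (un i) <;> cases af β (F.M.L g) d (un i) <;> rfl
  have hM : (pmul β (pinn β w) ⟨F.M.L g, d0⟩).M = F.M.L g := id_comp _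
  cases hp : pmul β (pinn β w) ⟨F.M.L g, d0⟩ with
  | mk M' d' =>
    rw [hp] at h hd hM
    obtain rfl : M' = F.M.L g := hM
    obtain rfl : d' = d := hd
    exact h

end Fr

end CfsgLib.USixTwo
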