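import Cfsg.Agent.Lib.USixTwo.Quot
import Cfsg.Agent.Lib.USixType.CoBasic

/-!
Automorphisms of `2^(1+8)` as pairs of a matrix and eight signs.
-/

set_option autoImplicit false
set_option linter.unusedSectionVars false
set_option linter.style.haveILetI false
set_option maxRecDepth 100000

open Cfsg CfsgLib.Extraspecial CfsgLib.USixType

namespace CfsgLib.USixTwo

/-- The parity of a list of signs. -/
def parL (l : List Bool) : Bool := l.foldr xor false

/-- The linear form with given values on the units. -/
def linD (d v : V8) : Bool := parL ((List.finRange 8).map fun i => cb v i.1 && cb d i.1)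

/-- The vector with given bits. -/
def bitsV (f : Fin 8 → Bool) : V8 := ((List.finRange 8).map fun i => sel (f i) (un i)).foldr xr 0

/-- The defect of a matrix on the cocycle. -/
def gam (β : V8 → V8 → Bool) (M : Lin) (v w : V8) : Bool := β v w ^^ β (app M v) (app M w)

/-- The pairs of units in increasing order. -/
def upP : List (Fin 8 × Fin 8) :=
  (List.finRange 8).flatMap fun i => ((List.finRange 8).filter fun k => decide (i.1 < k.1)).map fun k => (i, k)

/-- The triangular half of a form. -/
def lowG (g : V8 → V8 → Bool) (v w : V8) : Bool :=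
  parL (upP.map fun p => cb v p.1.1 && (cb w p.2.1 && g (un p.1) (un p.2)))

/-- The sign of an automorphism on a vector. -/
def af (β : V8 → V8 → Bool) (M : Lin) (d v : V8) : Bool := linD d v ^^ lowG (gam β M) v v

/-- An automorphism. -/
structure PR where
  M : Lin
  d : V8
deriving DecidableEq

/-- The sign function of a pair. -/
def PR.f (p : PR) (β : V8 → V8 → Bool) (v : V8) : Bool := af β p.M p.d v

/-- Composition. -/
def pmul (β : V8 → V8 → Bool) (p q : PR) : PR :=
  ⟨comp p.M q.M, bitsV fun i => q.f β (un i) ^^ p.f β (app q.M (un i))⟩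

/-- The identity pair. -/
def pone : PR := ⟨idL, 0⟩

/-- The pair of an inner automorphism. -/
def pinn (β : V8 → V8 → Bool) (w : V8) : PR := ⟨idL, bitsV fun i => bb β w (un i)⟩

/-- The product of a list. -/
def pprod (β : V8 → V8 → Bool) (l : List PR) : PR := l.foldr (pmul β) pone

theorem parL_xor {α : Type*} (l : List α) (f g : α → Bool) :
    parL (l.map fun a => f a ^^ g a) = (parL (l.map f) ^^ parL (l.map g)) := by
  induction l with
  | nil => rfl
  | cons a l ih =>
    simp only [parL, List.map_cons, List.foldr_cons] at ih ⊢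
    rw [ih]
    generalize List.foldr xor false (l.map f) = x
    generalize List.foldr xor false (l.map g) = y
    cases f a <;> cases g a <;> cases x <;> cases y <;> rfl

theorem linD_xr (d v w : V8) : linD d (xr v w) = (linD d v ^^ linD d w) := by
  rw [linD, linD, linD, ← parL_xor]
  congr 1
  refine List.map_congr_left fun i _ => ?_
  rw [cb_xr]
  cases cb v i.1 <;> cases cb w i.1 <;> cases cb d i.1 <;> rfl

theorem lowG_bil (g : V8 → V8 → Bool) : Bil (lowG g) := by
  constructor <;>
  · intro a b c
    simp only [lowG]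
    rw [← parL_xor]
    congr 1
    refine List.map_congr_left fun p _ => ?_
    simp only [cb_xr]
    cases cb a p.1.1 <;> cases cb b p.1.1 <;> cases cb a p.2.1 <;> cases cb b p.2.1 <;>
      cases cb c p.1.1 <;> cases cb c p.2.1 <;> cases g (un p.1) (un p.2) <;> rfl

theorem cb_unit : ∀ i j : Fin 8, cb (un i) j.1 = decide (i = j) := CfsgLib.USixType.Act.cb_un

theorem lowG_units (g : V8 → V8 → Bool) (i k : Fin 8) :
    lowG g (un i) (un k) = (decide (i.1 < k.1) && g (un i) (un k)) := by
  have h : ∀ (i k : Fin 8), (upP.map fun p => (cb (un i) p.1.1 && cb (un k) p.2.1)) =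
      upP.map fun p => decide (p = (i, k)) := by decide +kernel
  have e : (upP.map fun p => cb (un i) p.1.1 && (cb (un k) p.2.1 && g (un p.1) (un p.2))) =
      upP.map fun p => decide (p = (i, k)) && g (un i) (un k) := by
    refine List.map_congr_left fun p hp => ?_
    have h1 := List.map_inj_left.1 (h i k) p hp
    rw [← Bool.and_assoc, h1]
    by_cases hpk : p = (i, k)
    · subst hpk; simp
    · simp [hpk]
  rw [lowG, e]
  cases g (un i) (un k)
  · simp only [Bool.and_false]
    have : ∀ n, parL (List.replicate n false) = false := fun n => by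
      induction n with
      | zero => rfl
      | succ n ih =>
        simp only [parL] at ih ⊢
        rw [List.replicate_succ, List.foldr_cons, ih]
        rfl
    rw [List.map_const']
    exact this _
  · simp only [Bool.and_true]
    have h2 : ∀ i k : Fin 8, parL (upP.map fun p => decide (p = (i, k))) = decide (i.1 < k.1) := by
      decide +kernel
    exact h2 i k

theorem linD_bits (f : Fin 8 → Bool) (i : Fin 8) : linD (bitsV f) (un i) = f i := by
  have key : ∀ b0 b1 b2 b3 b4 b5 b6 b7 : Bool, ∀ i : Fin 8,
      linD (bitsV ![b0, b1, b2, b3, b4, b5, b6, b7]) (un i) = ![b0, b1, b2, b3, b4, b5, b6, b7] i := by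
    decide +kernel
  have e : f = ![f 0, f 1, f 2, f 3, f 4, f 5, f 6, f 7] := by funext i; fin_cases i <;> rfl
  rw [e]
  exact key _ _ _ _ _ _ _ _ i

theorem lowG_sum {g : V8 → V8 → Bool} (hg : Bil g) (hself : ∀ i, g (un i) (un i) = false)
    (hsymm : ∀ i k, g (un i) (un k) = g (un k) (un i)) (a b : V8) : (lowG g a b ^^ lowG g b a) = g a b := by
  have hb : Bil fun a b => lowG g a b ^^ lowG g b a := ⟨fun a b c => by
      simp only [(lowG_bil _).left, (lowG_bil _).right]
      cases lowG g a c <;> cases lowG g b c <;> cases lowG g c a <;> cases lowG g c b <;> rfl,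
    fun a b c => by
      simp only [(lowG_bil _).left, (lowG_bil _).right]
      cases lowG g a b <;> cases lowG g b a <;> cases lowG g a c <;> cases lowG g c a <;> rfl⟩
  refine hb.ext hg (fun i k => ?_) a b
  show (lowG g (un i) (un k) ^^ lowG g (un k) (un i)) = _
  rw [lowG_units, lowG_units, hsymm k i]
  rcases lt_trichotomy i.1 k.1 with e | e | e
  · simp [e, show ¬ k.1 < i.1 by omega]
  · rw [Fin.ext e]; simp [hself]
  · simp [e, show ¬ i.1 < k.1 by omega]

theorem af_add {β : V8 → V8 → Bool} {M : Lin} {d : V8}
    (hsum : ∀ a b, (lowG (gam β M) a b ^^ lowG (gam β M) b a) = gam β M a b) (a b : V8) :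
    af β M d (xr a b) = ((af β M d a ^^ af β M d b) ^^ gam β M a b) := by
  simp only [af, linD_xr, (lowG_bil _).left, (lowG_bil _).right, ← hsum a b]
  cases linD d a <;> cases linD d b <;> cases lowG (gam β M) a a <;> cases lowG (gam β M) b b <;>
    cases lowG (gam β M) a b <;> cases lowG (gam β M) b a <;> rfl

theorem gam_bil {β : V8 → V8 → Bool} (hβ : Bil β) (M : Lin) : Bil (gam β M) :=
  ⟨fun a b c => by
    simp only [gam, app_xr, hβ.left]
    cases β a c <;> cases β b c <;> cases β (app M a) (app M c) <;> cases β (app M b) (app M c) <;> rfl,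
  fun a b c => by
    simp only [gam, app_xr, hβ.right]
    cases β a b <;> cases β a c <;> cases β (app M a) (app M b) <;> cases β (app M a) (app M c) <;> rfl⟩

/-- The identity satisfied by the sign function of a matrix preserving the quadratic form. -/
theorem af_quad {β : V8 → V8 → Bool} {M : Lin} (hβ : Bil β) (hself : ∀ i, gam β M (un i) (un i) = false)
    (hsymm : ∀ i k, gam β M (un i) (un k) = gam β M (un k) (un i)) (d a b : V8) :
    af β M d (xr a b) = ((af β M d a ^^ af β M d b) ^^ gam β M a b) :=
  af_add (lowG_sum (gam_bil hβ M) hself hsymm) a b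

/-- A sign function is determined by its values on the units. -/
theorem af_eq {β : V8 → V8 → Bool} {M : Lin} (hβ : Bil β) {δ : V8 → Bool}
    (h : ∀ v w, δ (xr v w) = ((δ v ^^ δ w) ^^ gam β M v w)) (v : V8) :
    δ v = af β M (bitsV fun i => δ (un i)) v := by
  have gbil := gam_bil hβ M
  have gsymm : ∀ a b, gam β M a b = gam β M b a := fun a b => by
    have h1 := h a b
    have h2 := h b a
    rw [xr_comm, h2] at h1
    revert h1
    cases δ a <;> cases δ b <;> cases gam β M a b <;> cases gam β M b a <;> simp
  have d0 : δ 0 = false := by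
    have := h 0 0
    rw [xr_self, gbil.zero_left] at this
    revert this; cases δ 0 <;> simp
  have gself : ∀ a, gam β M a a = false := fun a => by
    have := h a a
    rw [xr_self, d0] at this
    revert this; cases δ a <;> cases gam β M a a <;> simp
  have hsum := lowG_sum gbil (fun i => gself _) fun i k => gsymm _ _
  set d := bitsV fun i => δ (un i) with hd
  let D : V8 → Bool := fun a => δ a ^^ af β M d a
  have hD : ∀ a b, D (xr a b) = (D a ^^ D b) := fun a b => by
    have e := af_add (d := d) hsum a b
    simp only [D, h, e]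
    cases δ a <;> cases δ b <;> cases af β M d a <;> cases af β M d b <;> cases gam β M a b <;> rfl
  let d1 : V8 → V8 → Bool := fun a x => cb a 0 && D x
  let d2 : V8 → V8 → Bool := fun _ _ => false
  have h1 : Bil d1 := ⟨fun a x y => by simp only [d1, cb_xr, Bool.and_xor_distrib_right],
    fun a x y => by simp only [d1, hD]; cases cb a 0 <;> simp⟩
  have key := h1.ext (γ := d2) ⟨fun _ _ _ => rfl, fun _ _ _ => rfl⟩ (fun i j => by
    have e : D (un j) = false := by
      simp only [D, af, hd, linD_bits, lowG_units, lt_irrefl, decide_false, Bool.false_and,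
        Bool.xor_false, Bool.xor_self]
    simp only [d1, d2, e, Bool.and_false]) 1 v
  have c1 : cb 1 0 = true := rfl
  simp only [d1, d2, c1, Bool.true_and, D] at key
  revert key
  cases δ v <;> cases af β M d v <;> simp

variable {G : Type*} [Group G]

/-- Coordinates of `Q`. -/
structure Cn (z : G) (Q : Subgroup G) (β : V8 → V8 → Bool) where
  j : V8 → Bool → G
  bil : Bil β
  mem : ∀ v b, j v b ∈ Q
  surj : ∀ q ∈ Q, ∃ v b, j v b = q
  inj : ∀ v b w d, j v b = j w d → v = w ∧ b = d
  mul : ∀ v b w d, j v b * j w d = j (xr v w) ((b ^^ d) ^^ β v w)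
  j_z : j 0 true = z

namespace Cn

variable {z : G} {Q : Subgroup G} {β : V8 → V8 → Bool} (C : Cn z Q β)
include C

theorem j_one : C.j 0 false = 1 := by
  have h := C.mul 0 false 0 false
  rw [xr_self, C.bil.zero_left] at h
  exact mul_eq_left.mp h

theorem z_mul (v : V8) (b : Bool) : z * C.j v b = C.j v (!b) := by
  refine ((congrArg (fun x => x * C.j v b) C.j_z).symm.trans (C.mul 0 true v b)).trans ?_
  rw [zero_xr, C.bil.zero_left]
  cases b <;> rfl

theorem mul_z (v : V8) (b : Bool) : C.j v b * z = C.j v (!b) := by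
  refine ((congrArg (fun x => C.j v b * x) C.j_z).symm.trans (C.mul v b 0 true)).trans ?_
  rw [xr_zero, C.bil.zero_right]
  cases b <;> rfl

theorem sq (v : V8) (b : Bool) : C.j v b * C.j v b = C.j 0 (qq β v) := by
  rw [C.mul, xr_self, qq]
  cases b <;> cases β v v <;> rfl

theorem j_inv (v : V8) (b : Bool) : (C.j v b)⁻¹ = C.j v (b ^^ qq β v) := by
  refine inv_eq_of_mul_eq_one_right ?_
  rw [C.mul, xr_self, ← C.j_one, qq]
  congr 1
  cases b <;> cases β v v <;> rfl

theorem comm_iff (v w : V8) (b d : Bool) :
    C.j v b * C.j w d = C.j w d * C.j v b ↔ bb β v w = false := by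
  rw [C.mul, C.mul, xr_comm w v]
  constructor
  · intro h
    have h' := (C.inj _ _ _ _ h).2
    rw [bb]
    revert h'
    cases b <;> cases d <;> cases β v w <;> cases β w v <;> simp
  · intro h
    congr 1
    revert h
    rw [bb]
    cases b <;> cases d <;> cases β v w <;> cases β w v <;> simp

theorem eq_one_or_z (b : Bool) : C.j 0 b = 1 ∨ C.j 0 b = z := by
  cases b
  · exact Or.inl C.j_one
  · exact Or.inr C.j_z

/-- The automorphism induced by an element. -/
def Act (x : G) (p : PR) : Prop := ∀ v b, x * C.j v b * x⁻¹ = C.j (app p.M v) (b ^^ p.f β v)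

/-- An element acting by a matrix acts by a pair. -/
theorem act_of {x : G} {M : Lin} {δ : V8 → Bool}
    (h : ∀ v b, x * C.j v b * x⁻¹ = C.j (app M v) (b ^^ δ v)) : C.Act x ⟨M, bitsV fun i => δ (un i)⟩ := by
  have hδ : ∀ v w, δ (xr v w) = ((δ v ^^ δ w) ^^ gam β M v w) := fun v w => by
    have e : x * (C.j v false * C.j w false) * x⁻¹ = x * C.j v false * x⁻¹ * (x * C.j w false * x⁻¹) := by
      group
    rw [C.mul, h, h, h, C.mul, app_xr] at e
    have e2 := (C.inj _ _ _ _ e).2
    revert e2
    rw [gam]
    cases δ (xr v w) <;> cases δ v <;> cases δ w <;> cases β v w <;> cases β (app M v) (app M w) <;> decide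
  intro v b
  rw [h, af_eq C.bil hδ v]
  rfl

theorem act_mul {x y : G} {p q : PR} (hx : C.Act x p) (hy : C.Act y q) : C.Act (x * y) (pmul β p q) := by
  refine C.act_of (M := comp p.M q.M) (δ := fun v => q.f β v ^^ p.f β (app q.M v)) fun v b => ?_
  calc x * y * C.j v b * (x * y)⁻¹ = x * (y * C.j v b * y⁻¹) * x⁻¹ := by group
    _ = _ := by
      rw [hy, hx, app_comp]
      congr 1
      cases b <;> cases q.f β v <;> cases p.f β (app q.M v) <;> rfl

theorem act_inn (w : V8) (c : Bool) : C.Act (C.j w c) (pinn β w) := by
  refine C.act_of (M := idL) (δ := fun v => bb β w v) fun v b => ?_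
  rw [C.j_inv, C.mul, C.mul, xr_comm w v, xr_assoc, xr_self, xr_zero, C.bil.left, id_app, qq, bb]
  congr 1
  cases b <;> cases c <;> cases β w v <;> cases β v w <;> cases β w w <;> rfl

theorem act_one : C.Act 1 pone := by
  have h : bitsV (fun _ => false) = (0 : V8) := by decide +kernel
  have := C.act_of (x := 1) (M := idL) (δ := fun _ => false) fun v b => by
    rw [id_app, Bool.xor_false]; group
  rwa [h] at this

theorem act_prod : ∀ {l : List G} {m : List PR}, List.Forall₂ C.Act l m → C.Act l.prod (pprod β m) := by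
  intro l m h
  induction h with
  | nil => exact C.act_one
  | cons hx _ ih => rw [List.prod_cons]; exact C.act_mul hx ih

theorem act_unique {x : G} {p q : PR} (hp : C.Act x p) (hq : C.Act x q) :
    p.M = q.M ∧ ∀ v, p.f β v = q.f β v := by
  refine ⟨lin_ext_un fun i => (C.inj _ _ _ _ ((hp _ false).symm.trans (hq _ false))).1, fun v => ?_⟩
  have := (C.inj _ _ _ _ ((hp v false).symm.trans (hq v false))).2
  simpa using this

theorem act_comm {x : G} {p : PR} (hx : C.Act x p) (v : V8) (b : Bool) :
    x * C.j v b = C.j v b * x ↔ app p.M v = v ∧ p.f β v = false := by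
  rw [← mul_inv_eq_iff_eq_mul, hx]
  constructor
  · intro h
    obtain ⟨h1, h2⟩ := C.inj _ _ _ _ h
    refine ⟨h1, ?_⟩
    revert h2; cases b <;> cases p.f β v <;> simp
  · rintro ⟨h1, h2⟩
    rw [h1, h2, Bool.xor_false]

/-- Elements of the centraliser with the same automorphism differ by `z` at most. -/
theorem act_eq [Finite G] (hs : Setting Q z) {x y : G} {p : PR} (hx : C.Act x p) (hy : C.Act y p) :
    x = y ∨ x = z * y := by
  have hc : y⁻¹ * x ∈ Subgroup.centralizer (Q : Set G) := by
    refine Subgroup.mem_centralizer_iff.2 fun q hq => ?_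
    obtain ⟨v, b, rfl⟩ := C.surj q hq
    have e := (hx v b).trans (hy v b).symm
    refine (mul_inv_eq_iff_eq_mul.1 ?_).symm
    calc y⁻¹ * x * C.j v b * (y⁻¹ * x)⁻¹ = y⁻¹ * (x * C.j v b * x⁻¹) * y := by group
      _ = C.j v b := by rw [e]; group
  rw [hs.cQ] at hc
  have hzy : y * z = z * y := by
    have := hy 0 true
    rw [app_zero, C.j_z] at this
    rcases C.eq_one_or_z (true ^^ p.f β 0) with e | e <;> rw [e] at this
    · exact absurd (by calc z = y⁻¹ * (y * z * y⁻¹) * y := by group
                         _ = 1 := by rw [this]; group) hs.ne_one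
    · exact mul_inv_eq_iff_eq_mul.1 this
  rcases hs.mem_zpowers hc with e | e
  · exact Or.inl (inv_mul_eq_one.1 e).symm
  · refine Or.inr ?_
    rw [← hzy, ← e]; group

end Cn

end CfsgLib.USixTwo
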