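import Cfsg.Agent.Lib.USixType.Lift
import Cfsg.Agent.Lib.Classical.LatticeSix
import Cfsg.Agent.S0814

/-!
`SU₄(2)`, its field automorphism and the index of the inner automorphisms; the matrices commuting with
the two representations.
-/

set_option autoImplicit false
set_option linter.unusedSectionVars false
set_option linter.style.haveILetI false
set_option maxRecDepth 100000

open Cfsg CfsgLib.USixType
open CfsgLib.HePres (K4)

namespace CfsgLib.USixTwo

/-- `SU₄(2)` has no centre. -/
theorem center_G4 : Subgroup.center G4 = ⊥ := by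
  obtain ⟨C⟩ := Classical.Herm.exists_conj_of_card (F := K4) (q := 2) (by rw [K4.card_eq]; norm_num)
  refine Subgroup.eq_bot_of_card_eq _ ?_
  rw [Classical.Herm.card_center C (by norm_num : 2 ≤ 4)]
  decide

/-- `PSp₄(3)` is `SU₄(2)`. -/
theorem exists_psp {F : Type*} [Field F] [Fintype F] (hF : Fintype.card F = 3) :
    Nonempty (Cfsg.PSp 2 F ≃* G4) := by
  obtain ⟨e0⟩ := Classical.LatticeSix.psu_four_two (F := K4) K4.card_eq hF
  exact ⟨e0.symm.trans ((QuotientGroup.quotientMulEquivOfEq center_G4).trans QuotientGroup.quotientBot)⟩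

theorem card_mulAut_G4 : Nat.card (MulAut G4) = 51840 := by
  haveI : Fact (Nat.Prime 3) := ⟨by norm_num⟩
  obtain ⟨e⟩ := exists_psp (F := ZMod 3) (ZMod.card 3)
  rw [Nat.card_congr (MulAut.congr e.symm).toEquiv,
    Cfsg.Agent.S0814.result 3 1 le_rfl (by rw [ZMod.card, pow_one]) 2 le_rfl (fun _ => by norm_num),
    Nat.card_congr e.toEquiv, card_G4]
  norm_num

theorem conj_inj : Function.Injective (MulAut.conj : G4 →* MulAut G4) := by
  rw [← MonoidHom.ker_eq_bot_iff, eq_bot_iff, ← center_G4]
  intro g hg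
  rw [MonoidHom.mem_ker] at hg
  refine Subgroup.mem_center_iff.2 fun x => ?_
  have := congrArg (fun a : MulAut G4 => a x) hg
  simp only [MulAut.conj_apply, MulAut.one_apply] at this
  exact (mul_inv_eq_iff_eq_mul.1 this).symm

theorem conj_index : (MulAut.conj : G4 →* MulAut G4).range.index = 2 := by
  have h := (MulAut.conj : G4 →* MulAut G4).range.card_mul_index
  rw [card_mulAut_G4, ← Nat.card_congr (MonoidHom.ofInjective conj_inj).toEquiv, card_G4] at h
  omega

/-- The field automorphism on vectors. -/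
def sgA : Lin := ⟨1, 3, 4, 12, 16, 48, 64, 192⟩

/-- Its action on words. -/
def alW : Fin 5 → List (Fin 5) := ![[0, 0], [1], [2], [3], [4]]

theorem sgA_facts : comp sgA sgA = idL ∧ ∀ k, comp sgA (comp (gL k) sgA) = linW gL (alW k) := by
  decide +kernel

theorem conjA_mem (g : G4) : ∃ h : G4, natL h = comp sgA (comp (natL g) sgA) := by
  have hg : g ∈ Subgroup.closure (Set.range gen) := by rw [gen_top]; exact Subgroup.mem_top g
  rw [← Subgroup.mem_toSubmonoid, Subgroup.closure_toSubmonoid_of_finite] at hg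
  induction hg using Submonoid.closure_induction with
  | mem x hx =>
    obtain ⟨k, rfl⟩ := hx
    exact ⟨evalW (alW k), by rw [natL_evalW, natL_gen, sgA_facts.2]⟩
  | one => exact ⟨1, by rw [natL_one, id_comp, sgA_facts.1]⟩
  | mul x y _ _ hx hy =>
    obtain ⟨a, ha⟩ := hx
    obtain ⟨b, hb⟩ := hy
    refine ⟨a * b, ?_⟩
    rw [natL_mul, natL_mul, ha, hb]
    simp only [comp_assoc]
    rw [← comp_assoc sgA sgA, sgA_facts.1, id_comp]

/-- The image under the field automorphism. -/
noncomputable def alF (g : G4) : G4 := Classical.choose (conjA_mem g)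

theorem natL_alF (g : G4) : natL (alF g) = comp sgA (comp (natL g) sgA) :=
  Classical.choose_spec (conjA_mem g)

theorem alF_alF (g : G4) : alF (alF g) = g := by
  refine natL_inj ?_
  rw [natL_alF, natL_alF]
  simp only [comp_assoc, sgA_facts.1, comp_id]
  rw [← comp_assoc, sgA_facts.1, id_comp]

theorem alF_mul (g h : G4) : alF (g * h) = alF g * alF h := by
  refine natL_inj ?_
  rw [natL_alF, natL_mul, natL_mul, natL_alF, natL_alF]
  simp only [comp_assoc]
  rw [← comp_assoc sgA sgA, sgA_facts.1, id_comp]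

/-- The field automorphism. -/
noncomputable def al : MulAut G4 where
  toFun := alF
  invFun := alF
  left_inv := alF_alF
  right_inv := alF_alF
  map_mul' := alF_mul

theorem al_gen (k : Fin 5) : al (gen k) = evalW (alW k) := natL_inj (by
  show natL (alF (gen k)) = _
  rw [natL_alF, natL_gen, natL_evalW, sgA_facts.2])

/-- The scalar `ω`. -/
def omL : Lin := ⟨2, 3, 8, 12, 32, 48, 128, 192⟩

theorem omL_facts : (∀ k, comp omL (gL k) = comp (gL k) omL) ∧ comp omL sgA ≠ comp sgA omL := by
  decide +kernel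

theorem omL_natL (g : G4) : comp omL (natL g) = comp (natL g) omL := by
  have hg : g ∈ Subgroup.closure (Set.range gen) := by rw [gen_top]; exact Subgroup.mem_top g
  rw [← Subgroup.mem_toSubmonoid, Subgroup.closure_toSubmonoid_of_finite] at hg
  induction hg using Submonoid.closure_induction with
  | mem x hx => obtain ⟨k, rfl⟩ := hx; rw [natL_gen]; exact omL_facts.1 k
  | one => rw [natL_one, comp_id, id_comp]
  | mul x y _ _ hx hy => rw [natL_mul, ← comp_assoc, hx, comp_assoc, hy, ← comp_assoc]

/-! ### Matrices commuting with a representation -/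

/-- The words carrying the first unit vector to the others, natural case. -/
def cwA : Fin 8 → List (Fin 5) := ![[], [0], [1], [1, 0], [2, 1], [2, 1, 0], [3, 2, 1], [3, 2, 1, 0]]

/-- The same on the six dimensional part. -/
def cwW : Fin 6 → List (Fin 5) := ![[], [2, 0, 2], [2], [0, 2], [1, 2], [3, 0, 2]]

theorem cwA_ok : ∀ i, app (linW gL (cwA i)) (un 0) = un i := by decide +kernel

theorem cwW_ok : ∀ i : Fin 6, app (linW wL (cwW i)) (un 0) = un ⟨i.1, by omega⟩ := by decide +kernel

/-- The candidate with the given first image. -/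
def ctA (y : V8) : Lin :=
  ⟨y, app (linW gL (cwA 1)) y, app (linW gL (cwA 2)) y, app (linW gL (cwA 3)) y, app (linW gL (cwA 4)) y,
    app (linW gL (cwA 5)) y, app (linW gL (cwA 6)) y, app (linW gL (cwA 7)) y⟩

/-- The same on the six dimensional part. -/
def ctW (y p q : V8) : Lin :=
  ⟨y, app (linW wL (cwW 1)) y, app (linW wL (cwW 2)) y, app (linW wL (cwW 3)) y, app (linW wL (cwW 4)) y,
    app (linW wL (cwW 5)) y, p, q⟩

/-- The fixed plane. -/
def planeF : List V8 := [0, 64, 128, 192]

theorem ctA_check : ∀ y : V8, (∀ k i, app (ctA y) (app (gL k) (un i)) = app (gL k) (app (ctA y) (un i))) →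
    y = 0 ∨ ctA y = idL ∨ ctA y = omL ∨ ctA y = comp omL omL := by
  decide +kernel

theorem ctW_check : ∀ y : V8, (∀ k (i : Fin 6), app (ctW y 64 128) (app (wL k) (un ⟨i.1, by omega⟩)) =
    app (wL k) (app (ctW y 64 128) (un ⟨i.1, by omega⟩))) → y = 0 ∨ y = 1 := by
  decide +kernel

theorem plane_check : ∀ v : V8, (∀ k, app (wL k) v = v) → v ∈ planeF := by decide +kernel

theorem comp_linW {S : Fin 5 → Lin} {X : Lin} (h : ∀ k, comp X (S k) = comp (S k) X) :
    ∀ w, comp X (linW S w) = comp (linW S w) X
  | [] => by rw [linW, comp_id, id_comp]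
  | k :: w => by rw [linW, ← comp_assoc, h, comp_assoc, comp_linW h w, ← comp_assoc]

theorem un_zero : un 0 = (1 : V8) := rfl

/-- A column. -/
def col (L : Lin) : Fin 8 → V8 := ![L.c0, L.c1, L.c2, L.c3, L.c4, L.c5, L.c6, L.c7]

theorem app_un (L : Lin) (i : Fin 8) : app L (un i) = col L i := by
  have h : ∀ j : Fin 8, cb (un i) j.1 = decide (i = j) := CfsgLib.USixType.Act.cb_un i
  have h0 := h 0; have h1 := h 1; have h2 := h 2; have h3 := h 3
  have h4 := h 4; have h5 := h 5; have h6 := h 6; have h7 := h 7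
  simp only [Fin.val_zero, Fin.val_one] at h0 h1
  change cb (un i) 2 = _ at h2; change cb (un i) 3 = _ at h3; change cb (un i) 4 = _ at h4
  change cb (un i) 5 = _ at h5; change cb (un i) 6 = _ at h6; change cb (un i) 7 = _ at h7
  rw [app, h0, h1, h2, h3, h4, h5, h6, h7]
  fin_cases i <;> simp [sel, col, xr_zero, zero_xr]

theorem lin_ext_un {A B : Lin} (h : ∀ i, app A (un i) = app B (un i)) : A = B := by
  have h0 := h 0; have h1 := h 1; have h2 := h 2; have h3 := h 3
  have h4 := h 4; have h5 := h 5; have h6 := h 6; have h7 := h 7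
  simp only [app_un] at h0 h1 h2 h3 h4 h5 h6 h7
  cases A; cases B
  simp [col] at h0 h1 h2 h3 h4 h5 h6 h7 ⊢
  exact ⟨h0, h1, h2, h3, h4, h5, h6, h7⟩

theorem low_span (v : V8) (hv : v.1 < 64) (L : Lin) : app L v =
    xr (xr (xr (sel (cb v 0) (col L 0)) (sel (cb v 1) (col L 1)))
      (xr (sel (cb v 2) (col L 2)) (sel (cb v 3) (col L 3))))
      (xr (sel (cb v 4) (col L 4)) (sel (cb v 5) (col L 5))) := by
  have e6 : cb v 6 = false := Nat.testBit_lt_two_pow (by omega)
  have e7 : cb v 7 = false := Nat.testBit_lt_two_pow (by omega)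
  rw [app, e6, e7]
  simp [sel, col, xr_zero]

/-- The centraliser of the natural representation. -/
theorem cent_A {X : Lin} (hc : ∀ k, comp X (gL k) = comp (gL k) X) (hn : app X 1 ≠ 0) :
    X = idL ∨ X = omL ∨ X = comp omL omL := by
  have hX : X = ctA (app X (un 0)) := lin_ext_un fun i => by
    conv_lhs => rw [← cwA_ok i, ← app_comp, comp_linW hc, app_comp]
    rw [app_un (ctA _)]
    fin_cases i <;> simp [ctA, col, cwA, linW, id_app]
  rcases ctA_check (app X (un 0)) (fun k i => by rw [← hX, ← app_comp, hc, app_comp]) with h | h | h | h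
  · exact absurd h hn
  all_goals rw [hX, h]; simp

/-- The centraliser of the wedge representation. -/
theorem cent_W {X : Lin} (hc : ∀ k, comp X (wL k) = comp (wL k) X) (hn : app X 1 ≠ 0) :
    (∀ i : Fin 6, app X (un ⟨i.1, by omega⟩) = un ⟨i.1, by omega⟩) ∧ app X 64 ∈ planeF ∧ app X 128 ∈ planeF := by
  have hu : ∀ i : Fin 6, app X (un ⟨i.1, by omega⟩) = app (ctW (app X (un 0)) 64 128) (un ⟨i.1, by omega⟩) := by
    intro i
    conv_lhs => rw [← cwW_ok i, ← app_comp, comp_linW hc, app_comp]
    rw [app_un (ctW _ _ _)]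
    fin_cases i <;> simp [ctW, col, cwW, linW, id_app]
  have hfix : ∀ v : V8, (∀ k, app (wL k) v = v) → app X v ∈ planeF := fun v hv =>
    plane_check _ fun k => by rw [← app_comp, ← hc, app_comp, hv]
  have key : ∀ (k : Fin 5) (i : Fin 6), ∀ v : V8, v = app (wL k) (un ⟨i.1, by omega⟩) →
      app X v = app (ctW (app X (un 0)) 64 128) v := by
    intro k i v hv
    have h6 : ∀ (k : Fin 5) (i : Fin 6), (app (wL k) (un ⟨i.1, by omega⟩)).1 < 64 := by decide +kernel
    have hlt : v.1 < 64 := hv ▸ h6 k i
    rw [low_span v hlt, low_span v hlt]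
    simp only [← app_un]
    have g0 := hu 0; have g1 := hu 1; have g2 := hu 2; have g3 := hu 3; have g4 := hu 4; have g5 := hu 5
    exact congrArg₂ xr (congrArg₂ xr (congrArg₂ xr (congrArg _ g0) (congrArg _ g1))
      (congrArg₂ xr (congrArg _ g2) (congrArg _ g3))) (congrArg₂ xr (congrArg _ g4) (congrArg _ g5))
  rcases ctW_check (app X (un 0)) (fun k i => by rw [← key k i _ rfl, ← app_comp, hc, app_comp, hu i]) with h | h
  · exact absurd h hn
  refine ⟨fun i => ?_, hfix 64 ?_, hfix 128 ?_⟩
  · rw [hu i, h]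
    revert i; decide +kernel
  all_goals decide +kernel

/-- The field automorphism is not inner. -/
theorem al_outer : al ∉ (MulAut.conj : G4 →* MulAut G4).range := by
  rintro ⟨h, hh⟩
  have hh' : ∀ g, natL (h * g * h⁻¹) = comp sgA (comp (natL g) sgA) := fun g => by
    rw [← natL_alF]
    exact congrArg natL (congrArg (fun a : MulAut G4 => a g) hh : MulAut.conj h g = al g)
  set X := comp sgA (natL h) with hX
  have hcX : ∀ k, comp X (gL k) = comp (gL k) X := by
    intro k
    have h1 := hh' (gen k)
    rw [natL_mul, natL_mul, natL_gen] at h1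
    have h2 : comp (natL h) (gL k) = comp (comp sgA (comp (gL k) sgA)) (natL h) := by
      rw [← h1]
      simp only [comp_assoc]
      rw [← natL_mul, inv_mul_cancel, natL_one, comp_id]
    rw [hX, comp_assoc, h2]
    simp only [← comp_assoc]
    rw [sgA_facts.1, id_comp]
  have hn : app X 1 ≠ 0 := by
    intro e
    have h1 : app (natL h⁻¹) (app sgA (app X 1)) = 1 := by
      rw [hX, app_comp, ← app_comp sgA sgA, sgA_facts.1, id_app, ← app_comp, ← natL_mul, inv_mul_cancel,
        natL_one, id_app]
    rw [e, app_zero, app_zero] at h1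
    exact absurd h1 (by decide)
  have hom : comp omL X = comp X omL := by
    rcases cent_A hcX hn with e | e | e <;> rw [e]
    · rw [comp_id, id_comp]
    · rw [comp_assoc]
  apply omL_facts.2
  have h3 : comp omL (comp sgA (natL h)) = comp (comp sgA omL) (natL h) := by
    rw [← hX, hom, hX, comp_assoc, ← omL_natL, ← comp_assoc]
  have h4 := congrArg (fun L => comp L (natL h⁻¹)) h3
  simp only [comp_assoc] at h4
  rwa [← natL_mul, mul_inv_cancel, natL_one, comp_id, comp_id] at h4

end CfsgLib.USixTwo
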