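import Cfsg.Agent.Lib.USixTwo.Pairs
import Cfsg.Agent.Lib.USixType.Coords
import Cfsg.Agent.Lib.USixType.Weak

/-!
An involution centraliser `2^(1+8).Aut(SU₄(2))`: coordinates and the five models.
-/

set_option autoImplicit false
set_option linter.unusedSectionVars false
set_option linter.style.haveILetI false
set_option maxRecDepth 100000

open Cfsg CfsgLib.Extraspecial CfsgLib.USixType

namespace CfsgLib.USixTwo

/-- The field automorphism on the wedge model, plane fixed. -/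
def sgB0 : Lin := ⟨1, 3, 4, 12, 16, 48, 64, 128⟩

/-- The field automorphism on the wedge model, plane moved. -/
def sgB1 : Lin := ⟨1, 3, 4, 12, 16, 48, 128, 64⟩

/-- The five models. -/
def Kind (β : V8 → V8 → Bool) (S : Fin 5 → Lin) (σ : Lin) : Prop :=
  (β = bA ∧ S = gL ∧ σ = sgA) ∨ (β = bA ∧ S = wL ∧ σ = sgB0) ∨ (β = bA ∧ S = wL ∧ σ = sgB1) ∨
    (β = bD ∧ S = wL ∧ σ = sgB0) ∨ (β = bD ∧ S = wL ∧ σ = sgB1)

open scoped _root_.Classical in
/-- The automorphism of the quotient induced by an element. -/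
noncomputable def aut {G : Type*} [Group G] (z : G) (π : ↥(Cz z) →* MulAut G4) (x : G) : MulAut G4 :=
  if h : x ∈ Cz z then π ⟨x, h⟩ else 1

/-- The hypotheses. -/
structure Two {G : Type*} [Group G] [Finite G] (z : G) (Q : Subgroup G) (π : ↥(Cz z) →* MulAut G4) :
    Prop where
  st : Setting Q z
  card : Nat.card Q = 512
  ker : π.ker = Q.subgroupOf (Cz z)
  surj : Function.Surjective π

/-- The elements inducing inner automorphisms. -/
def inn {G : Type*} [Group G] {z : G} (π : ↥(Cz z) →* MulAut G4) : Subgroup G :=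
  ((MulAut.conj : G4 →* MulAut G4).range.comap π).map (Cz z).subtype

/-- Coordinates with the automorphisms of a model. -/
structure Fr {G : Type*} [Group G] (z : G) (Q : Subgroup G) (π : ↥(Cz z) →* MulAut G4)
    (β : V8 → V8 → Bool) (S : Fin 5 → Lin) (σ : Lin) where
  C : Cn z Q β
  M : Mdl S
  inner : ∀ x ∈ Cz z, ∀ g, aut z π x = MulAut.conj g → ∃ d, C.Act x ⟨M.L g, d⟩
  e : G
  eC : e ∈ Cz z
  eAut : aut z π e = al
  eAct : C.Act e ⟨σ, 0⟩

theorem setting_sub {G : Type*} [Group G] [Finite G] {z : G} {Q K : Subgroup G} (s : Setting Q z)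
    (hQK : Q ≤ K) (hKC : K ≤ Cz z) (hzK : z ∈ K) : Setting (Q.subgroupOf K) (⟨z, hzK⟩ : K) := by
  haveI := Fact.mk Nat.prime_two
  have hmem : ∀ x : K, x ∈ Subgroup.zpowers (⟨z, hzK⟩ : K) ↔ (x : G) ∈ Subgroup.zpowers z := fun x => by
    simp only [Subgroup.mem_zpowers_iff]
    exact exists_congr fun n => by rw [← Subtype.coe_inj, SubgroupClass.coe_zpow]
  have hcen : ∀ x : K, (x : G) ∈ Subgroup.zpowers z → ∀ q : K, (q : G) ∈ Q → q * x = x * q := fun x hx q hq =>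
    Subtype.ext (show (q : G) * x = x * q by
      rcases s.mem_zpowers hx with e | e <;> rw [e]
      · simp
      · exact s.z_comm hq)
  refine ⟨isExtraspecial_congr (Subgroup.subgroupOfEquivOfLe hQK).symm s.ex, ?_, ?_, ?_, ?_⟩
  · ext x
    rw [hmem]
    constructor
    · rintro ⟨w, hw, rfl⟩
      rcases s.eq_of_forall (x := ((w : K) : G)) w.2 (fun q hq => congrArg (fun y : Q.subgroupOf K => ((y : K) : G))
        (Subgroup.mem_center_iff.1 hw ⟨⟨q, hQK hq⟩, hq⟩)) with e | e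
      · exact e.symm ▸ Subgroup.one_mem (Subgroup.zpowers z)
      · exact e.symm ▸ Subgroup.mem_zpowers z
    · intro hx
      have hxQ : (x : G) ∈ Q := by
        rcases s.mem_zpowers hx with e | e <;> rw [e]
        exacts [Q.one_mem, s.z_mem]
      exact ⟨⟨x, hxQ⟩, Subgroup.mem_center_iff.2 fun q => Subtype.ext (hcen x hx q q.2), rfl⟩
  · rw [← Subgroup.orderOf_coe]; exact s.ordz
  · ext x
    rw [hmem, Subgroup.mem_centralizer_iff]
    constructor
    · intro h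
      rw [← s.cQ, Subgroup.mem_centralizer_iff]
      exact fun q hq => congrArg Subtype.val (h ⟨q, hQK hq⟩ hq)
    · exact fun hx q hq => hcen x hx q hq
  · intro x _
    rw [Subgroup.mem_normalizer_iff]
    intro q
    exact Subgroup.mem_normalizer_iff.1 (s.cz (hKC x.2)) q

namespace Two

variable {G : Type*} [Group G] [Finite G] {z : G} {Q : Subgroup G} {π : ↥(Cz z) →* MulAut G4}
  (H : Two z Q π)
include H

theorem QC : Q ≤ Cz z := H.st.le_centralizer_z

theorem zC : z ∈ Cz z := mem_Cz.2 rfl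

theorem conjQ {c q : G} (hc : c ∈ Cz z) (hq : q ∈ Q) : c * q * c⁻¹ ∈ Q :=
  (Subgroup.mem_normalizer_iff.mp (H.st.cz hc) q).mp hq

theorem aut_mul {a b : G} (ha : a ∈ Cz z) (hb : b ∈ Cz z) : aut z π (a * b) = aut z π a * aut z π b := by
  rw [aut, aut, aut, dif_pos ((Cz z).mul_mem ha hb), dif_pos ha, dif_pos hb, ← map_mul]
  rfl

theorem aut_inv {a : G} (ha : a ∈ Cz z) : aut z π a⁻¹ = (aut z π a)⁻¹ := by
  rw [aut, aut, dif_pos ((Cz z).inv_mem ha), dif_pos ha, ← map_inv]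
  rfl

theorem aut_conj {a b : G} (ha : a ∈ Cz z) (hb : b ∈ Cz z) :
    aut z π (a * b * a⁻¹) = aut z π a * aut z π b * (aut z π a)⁻¹ := by
  rw [H.aut_mul ((Cz z).mul_mem ha hb) ((Cz z).inv_mem ha), H.aut_mul ha hb, H.aut_inv ha]

theorem aut_eq_one {a : G} (ha : a ∈ Cz z) : aut z π a = 1 ↔ a ∈ Q := by
  rw [aut, dif_pos ha, ← MonoidHom.mem_ker, H.ker, Subgroup.mem_subgroupOf]

theorem aut_Q {a : G} (ha : a ∈ Q) : aut z π a = 1 := (H.aut_eq_one (H.QC ha)).2 ha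

theorem lift (m : MulAut G4) : ∃ c ∈ Cz z, aut z π c = m := by
  obtain ⟨⟨c, hc⟩, rfl⟩ := H.surj m
  exact ⟨c, hc, by rw [aut, dif_pos hc]⟩

theorem mem_inn {x : G} : x ∈ inn π ↔ x ∈ Cz z ∧ ∃ g, aut z π x = MulAut.conj g := by
  constructor
  · rintro ⟨⟨c, hc⟩, ⟨g, hg⟩, rfl⟩
    exact ⟨hc, g, by show aut z π c = _; rw [aut, dif_pos hc]; exact hg.symm⟩
  · rintro ⟨hc, g, hg⟩
    rw [aut, dif_pos hc] at hg
    exact ⟨⟨x, hc⟩, ⟨g, hg.symm⟩, rfl⟩

theorem inn_le : inn π ≤ Cz z := Subgroup.map_subtype_le _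

theorem Q_inn : Q ≤ inn π := fun q hq =>
  H.mem_inn.2 ⟨H.QC hq, 1, by rw [H.aut_Q hq, map_one]⟩

theorem z_inn : z ∈ inn π := H.Q_inn H.st.z_mem

theorem inn_conj {c x : G} (hc : c ∈ Cz z) (hx : x ∈ inn π) : c * x * c⁻¹ ∈ inn π := by
  obtain ⟨hxC, g, hg⟩ := H.mem_inn.1 hx
  refine H.mem_inn.2 ⟨(Cz z).mul_mem ((Cz z).mul_mem hc hxC) ((Cz z).inv_mem hc), aut z π c g, ?_⟩
  rw [H.aut_conj hc hxC, hg]
  refine MulEquiv.ext fun y => ?_
  simp [MulAut.mul_apply, map_mul]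

theorem outer_mul {a b : G} (ha : a ∈ Cz z) (hb : b ∈ Cz z) :
    a * b ∈ inn π ↔ (a ∈ inn π ↔ b ∈ inn π) := by
  have hidx : ((MulAut.conj : G4 →* MulAut G4).range.comap π).index = 2 := by
    rw [Subgroup.index_comap_of_surjective _ H.surj, conj_index]
  have h := Subgroup.mul_mem_iff_of_index_two hidx (a := ⟨a, ha⟩) (b := ⟨b, hb⟩)
  have e : ∀ {x : G} (hx : x ∈ Cz z), (⟨x, hx⟩ : Cz z) ∈ (MulAut.conj : G4 →* MulAut G4).range.comap π ↔ x ∈ inn π :=
    fun {x} hx => ⟨fun h => ⟨_, h, rfl⟩, fun ⟨y, hy, hyx⟩ => by rwa [← Subtype.ext (a1 := y) (a2 := ⟨x, hx⟩) hyx]⟩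
  rw [← e ha, ← e hb, ← e ((Cz z).mul_mem ha hb)]
  exact h

theorem sq_inn {a : G} (ha : a ∈ Cz z) : a * a ∈ inn π := (H.outer_mul ha ha).2 Iff.rfl

theorem al_not_inn {x : G} (h : aut z π x = al) : x ∉ inn π := fun hx => by
  obtain ⟨-, g, hg⟩ := H.mem_inn.1 hx
  exact al_outer ⟨g, hg.symm.trans h⟩

/-- Coordinates over the elements inducing inner automorphisms. -/
theorem exists_cn : ∃ (β : V8 → V8 → Bool) (S : Fin 5 → Lin), Model β S ∧
    ∃ (C : Cn z Q β) (M : Mdl S), ∀ x ∈ Cz z, ∀ g, aut z π x = MulAut.conj g → ∃ d, C.Act x ⟨M.L g, d⟩ := by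
  classical
  set K := inn π with hK
  let z0 : K := ⟨z, H.z_inn⟩
  have hex : ∀ x : ↥(Cz z0), ∃ g, aut z π ((x : K) : G) = MulAut.conj g := fun x => (H.mem_inn.1 (x : K).2).2
  choose f hf using hex
  let π0 : ↥(Cz z0) →* G4 := MonoidHom.mk' f fun a b => conj_inj (by
    rw [← hf, map_mul, ← hf, ← hf]
    exact H.aut_mul (H.inn_le (a : K).2) (H.inn_le (b : K).2))
  have htop : ∀ x : K, x ∈ Cz z0 := fun x => mem_Cz.2 (Subtype.ext (mem_Cz.1 (H.inn_le x.2)))
  have P : Pre z0 (Q.subgroupOf K) π0 := by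
    refine ⟨setting_sub H.st H.Q_inn H.inn_le H.z_inn, ?_, ?_, fun g => ?_⟩
    · rw [Nat.card_congr (Subgroup.subgroupOfEquivOfLe H.Q_inn).toEquiv, H.card]
    · ext x
      rw [MonoidHom.mem_ker, Subgroup.mem_subgroupOf, Subgroup.mem_subgroupOf,
        ← H.aut_eq_one (H.inn_le (x : K).2), hf]
      show f x = 1 ↔ _
      rw [← (MulAut.conj : G4 →* MulAut G4).map_one, conj_inj.eq_iff]
    · obtain ⟨c, hc, e⟩ := H.lift (MulAut.conj g)
      refine ⟨⟨⟨c, H.mem_inn.2 ⟨hc, g, e⟩⟩, htop _⟩, conj_inj ?_⟩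
      show MulAut.conj (f _) = _
      rw [← hf]; exact e
  obtain ⟨β, S, hM, ⟨C0⟩⟩ := P.exists_co
  refine ⟨β, S, hM, ?_⟩
  let C : Cn z Q β :=
    { j := fun v b => (C0.j v b : G)
      bil := C0.bil
      mem := fun v b => C0.mem v b
      surj := fun q hq => by
        obtain ⟨v, b, h⟩ := C0.surj ⟨q, H.Q_inn hq⟩ hq
        exact ⟨v, b, congrArg Subtype.val h⟩
      inj := fun v b w d h => C0.inj v b w d (Subtype.ext h)
      mul := fun v b w d => congrArg Subtype.val (C0.mul v b w d)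
      j_z := congrArg Subtype.val C0.j_z }
  refine ⟨C, C0.M, fun x hx g hg => ?_⟩
  let x0 : K := ⟨x, H.mem_inn.2 ⟨hx, g, hg⟩⟩
  have himg : img z0 π0 x0 = g := by
    rw [img, dif_pos (htop x0)]
    exact conj_inj ((hf ⟨x0, htop x0⟩).symm.trans hg)
  choose δ hδ using C0.conj_bit (htop x0)
  refine ⟨_, C.act_of (M := C0.M.L g) (δ := δ) fun v b => ?_⟩
  have := congrArg Subtype.val (hδ v b)
  rw [himg] at this
  exact this

end Two

end CfsgLib.USixTwo
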