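import Cfsg.Agent.Lib.USixTwo.Frame
import Cfsg.Agent.Lib.USixType.Pair

/-!
The central involution is weakly closed in `O₂` of its centraliser, also with an outer automorphism present.
-/

set_option autoImplicit false
set_option linter.unusedSectionVars false
set_option linter.style.haveILetI false
set_option maxRecDepth 100000

open Cfsg CfsgLib.Extraspecial CfsgLib.USixType

namespace CfsgLib.USixTwo

/-- The closure of a matrix under some conjugations and products. -/
def clU (S : Fin 5 → Lin) (sg : List (List (Fin 5))) (m : Lin) : ℕ → List Lin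
  | 0 => [idL, m]
  | n + 1 =>
    let l := clU S sg m n
    (l ++ (sg.flatMap fun w => l.map fun L => comp (linW S w) (comp L (linW S (invW w)))) ++
      (l.flatMap fun A => l.map fun B => comp A B)).dedup

/-- The image of the second centraliser is small or full, or a fixed vector is at hand. -/
def okV (β : V8 → V8 → Bool) (S : Fin 5 → Lin) (σ : Lin) (d : Dat) : Bool :=
  d.ws.all fun W =>
    let U := (plist S d.pg).filter (inU β d.v W)
    decide (U.length * W.length < 64) ||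
      (W.any fun w => w != 0 && w != d.v && ((List.finRange 5).all fun k => app (S k) w == w && app (S k) (app σ w) == app σ w) &&
        (app σ w == w || !W.contains (app σ w))) ||
      (decide (U.length * W.length = 128) &&
        decide ((U.filter fun m => !(U.all (clU S d.sg m 4).contains)).length * W.length < 64) &&
        W.any fun w => w != 0 && w != d.v && U.all fun L => app L w == w)

theorem weak_V : datA.all (okV bA gL sgA) = true ∧
    (datQ.all (okV bA wL sgB0) = true ∧ datQ.all (okV bA wL sgB1) = true) ∧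
    (datD.all (okV bD wL sgB0) = true ∧ datD.all (okV bD wL sgB1) = true) := by
  decide +kernel

/-- The data of the models. -/
theorem weak_data2 {β : V8 → V8 → Bool} {S : Fin 5 → Lin} {σ : Lin} (h : Kind β S σ) :
    ∃ ds : List Dat, ds.all (okOrb S) = true ∧ ds.all (okGrp S) = true ∧ ds.all (okW β S) = true ∧
      ds.all (okV β S σ) = true ∧ okCover β ds = true := by
  rcases h with ⟨rfl, rfl, rfl⟩ | ⟨rfl, rfl, rfl⟩ | ⟨rfl, rfl, rfl⟩ | ⟨rfl, rfl, rfl⟩ | ⟨rfl, rfl, rfl⟩
  · exact ⟨datA, weak_orb.1, weak_grp.1, weak_W.1, weak_V.1, weak_cover.1⟩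
  · exact ⟨datQ, weak_orb.2.1, weak_grp.2.1, weak_W.2.1, weak_V.2.1.1, weak_cover.2.1⟩
  · exact ⟨datQ, weak_orb.2.1, weak_grp.2.1, weak_W.2.1, weak_V.2.1.2, weak_cover.2.1⟩
  · exact ⟨datD, weak_orb.2.2, weak_grp.2.2, weak_W.2.2, weak_V.2.2.1, weak_cover.2.2⟩
  · exact ⟨datD, weak_orb.2.2, weak_grp.2.2, weak_W.2.2, weak_V.2.2.2, weak_cover.2.2⟩

namespace Fr

variable {G : Type*} [Group G] [Finite G] {z : G} {Q : Subgroup G} {π : ↥(Cz z) →* MulAut G4}
  {β : V8 → V8 → Bool} {S : Fin 5 → Lin} {σ : Lin} (F : Fr z Q π β S σ) (H : Two z Q π)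
include F H

/-- An element inducing an inner automorphism acts by its matrix. -/
theorem inner_j {x : G} (hx : x ∈ Cz z) {g : G4} (hg : aut z π x = MulAut.conj g) (v : V8) (b : Bool) :
    ∃ d, x * F.C.j v b * x⁻¹ = F.C.j (app (F.M.L g) v) d := by
  obtain ⟨d, hd⟩ := F.inner x hx g hg
  exact ⟨_, hd v b⟩

/-- A stabiliser element lifts to an element fixing the lift. -/
theorem fix_lift {v : V8} (hv : v ≠ 0) {h : G4} (hh : app (F.M.L h) v = v) (b : Bool) :
    ∃ c ∈ Cz z, aut z π c = MulAut.conj h ∧ c * F.C.j v b * c⁻¹ = F.C.j v b := by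
  obtain ⟨c, hc, hca⟩ := H.lift (MulAut.conj h)
  obtain ⟨d, hd⟩ := F.inner_j H hc hca v b
  rw [hh] at hd
  by_cases hdb : d = b
  · exact ⟨c, hc, hca, hdb ▸ hd⟩
  · have hj1 : F.C.j v b ≠ 1 := fun e => hv (F.C.inj v b 0 false (e.trans F.C.j_one.symm)).1
    have hjz : F.C.j v b ≠ z := fun e => hv (F.C.inj v b 0 true (e.trans F.C.j_z.symm)).1
    obtain ⟨q, hq, hqv⟩ := H.st.exists_move (F.C.mem v b) hj1 hjz
    refine ⟨q * c, (Cz z).mul_mem (H.QC hq) hc, by rw [H.aut_mul (H.QC hq) hc, H.aut_Q hq, one_mul, hca], ?_⟩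
    have hd' : F.C.j v d = z * F.C.j v b := by
      rw [F.C.z_mul]
      cases b <;> cases d <;> first | rfl | exact absurd rfl hdb
    calc q * c * F.C.j v b * (q * c)⁻¹ = q * (c * F.C.j v b * c⁻¹) * q⁻¹ := by group
      _ = (q * z) * F.C.j v b * q⁻¹ := by rw [hd, hd']; group
      _ = z * (q * F.C.j v b * q⁻¹) := by rw [H.st.z_comm hq]; group
      _ = _ := by rw [hqv, ← mul_assoc, H.st.zz, one_mul]

/-- The case of a representative. -/
theorem weak_rep {d : Dat} (ho : okOrb S d = true) (hgr : okGrp S d = true) (hW : okW β S d = true)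
    (hU : okV β S σ d = true) {g : G} {b : Bool} (hja : F.C.j d.v b = g * z * g⁻¹)
    (hmem : g * z * g⁻¹ ∈ Q) (hne : g * z * g⁻¹ ≠ z) : False := by
  classical
  have hv0 : d.v ≠ 0 := by
    simp only [okOrb, Bool.and_eq_true, bne_iff_ne] at ho
    exact ho.1.1.1.1.1.1.1
  have s' := H.st.conj g
  have hzc : z ∈ Qc Q g := H.st.conj_center_mem hmem hne (by rw [H.card]; norm_num)
  set a := g * z * g⁻¹ with ha
  let E := Ep Q g
  have hzE : z ∈ E := ⟨H.st.z_mem, hzc⟩
  have hvE : a ∈ E := ⟨hmem, s'.z_mem⟩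
  have hEsq : ∀ {e}, e ∈ E → e * e = 1 := by
    intro e he
    rcases H.st.sq_cases he.1 with h | h
    · exact h
    · rcases s'.sq_cases he.2 with h' | h'
      · exact h'
      · exact absurd (h'.symm.trans h) hne
  have hEcomm : ∀ {x y}, x ∈ E → y ∈ E → x * y = y * x := by
    intro x y hx hy
    rcases H.st.comm_cases hx.1 hy.1 with h | h
    · exact mul_inv_eq_iff_eq_mul.mp h
    · rcases s'.comm_cases hx.2 hy.2 with h' | h'
      · exact mul_inv_eq_iff_eq_mul.mp h'
      · exact absurd (mul_right_cancel (h'.symm.trans h)) hne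
  have hconjQc : ∀ {c : G}, c * a * c⁻¹ = a → ∀ {x}, x ∈ Qc Q g → c * x * c⁻¹ ∈ Qc Q g := fun {c} hcv {x} hx =>
    (Subgroup.mem_normalizer_iff.1 (s'.cz
      (Subgroup.mem_centralizer_singleton_iff.2 (mul_inv_eq_iff_eq_mul.1 hcv))) x).1 hx
  -- the order of the part of the conjugate in the centraliser
  have hB : Nat.card ↥(Bp z Q g) = 256 := by
    obtain ⟨u, hu, huz⟩ := s'.exists_move hzc H.st.ne_one hne.symm
    have hsub : Nat.card ↥(Qc Q g) = 512 := by
      rw [Qc, Subgroup.card_map_of_injective (MulAut.conj g).injective, H.card]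
    have key : ∀ x : G, x ∈ Qc Q g → (x ∈ Bp z Q g ↔ x * z * x⁻¹ = z) := fun x hx => by
      rw [Subgroup.mem_inf, mem_Cz, mul_inv_eq_iff_eq_mul]
      exact and_iff_right hx
    have hi : ((Bp z Q g).subgroupOf (Qc Q g)).index = 2 := by
      rw [Subgroup.index_eq_two_iff]
      refine ⟨⟨u, hu⟩, fun c => ?_⟩
      have e2 : (c : G) * u * z * ((c : G) * u)⁻¹ = a * ((c : G) * z * (c : G)⁻¹) := by
        calc (c : G) * u * z * ((c : G) * u)⁻¹ = (c : G) * (u * z * u⁻¹) * (c : G)⁻¹ := by group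
          _ = ((c : G) * a) * z * (c : G)⁻¹ := by rw [huz]; group
          _ = _ := by rw [s'.z_comm c.2]; group
      rw [Subgroup.mem_subgroupOf, Subgroup.mem_subgroupOf, key _ c.2,
        key _ (c * ⟨u, hu⟩ : ↥(Qc Q g)).2]
      change Xor (((c : G) * u) * z * ((c : G) * u)⁻¹ = z) ((c : G) * z * (c : G)⁻¹ = z)
      rw [e2]
      rcases s'.comm_cases c.2 hzc with e | e <;> rw [e]
      · exact Or.inr ⟨rfl, fun e' => s'.ne_one (mul_eq_right.mp e')⟩
      · refine Or.inl ⟨by rw [← mul_assoc, s'.zz, one_mul], fun e' => s'.ne_one (mul_eq_right.mp e')⟩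
    have h := ((Bp z Q g).subgroupOf (Qc Q g)).card_mul_index
    rw [hi, Nat.card_congr (Subgroup.subgroupOfEquivOfLe (inf_le_left : Bp z Q g ≤ Qc Q g)).toEquiv, hsub] at h
    show Nat.card ↥(Qc Q g ⊓ Cz z) = 256
    omega
  -- the elements of it inducing inner automorphisms
  set B0 := Bp z Q g ⊓ inn π with hB0
  have hB0C : ∀ {x}, x ∈ B0 → x ∈ Cz z := fun hx => hx.1.2
  have hEB : ∀ {e}, e ∈ E → e ∈ B0 := fun {e} he => ⟨⟨he.2, H.QC he.1⟩, H.Q_inn he.1⟩
  have hin0 : ∀ x : B0, ∃ m, aut z π (x : G) = MulAut.conj m := fun x => (H.mem_inn.1 x.2.2).2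
  choose φ hφ using hin0
  let φh : B0 →* G4 := MonoidHom.mk' φ fun x y => conj_inj (by
    rw [← hφ, map_mul, ← hφ, ← hφ]; exact H.aut_mul (hB0C x.2) (hB0C y.2))
  set U := φh.range with hUdef
  have mem_U : ∀ {m}, m ∈ U ↔ ∃ c ∈ B0, aut z π c = MulAut.conj m := by
    intro m
    constructor
    · rintro ⟨x, rfl⟩; exact ⟨x, x.2, hφ x⟩
    · rintro ⟨c, hc, e⟩; exact ⟨⟨c, hc⟩, conj_inj ((hφ ⟨c, hc⟩).symm.trans e)⟩
  let W : V8 → Prop := fun x => ∃ e, F.C.j x e ∈ E
  have W0 : W 0 := ⟨true, F.C.j_z.symm ▸ hzE⟩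
  have Wv : W d.v := ⟨b, hja.symm ▸ hvE⟩
  have Wadd : ∀ x y, W x → W y → W (xr x y) := by
    rintro x y ⟨e, he⟩ ⟨f, hf⟩
    exact ⟨_, F.C.mul x e y f ▸ E.mul_mem he hf⟩
  have Wq : ∀ x, W x → qq β x = false := by
    rintro x ⟨e, he⟩
    exact (F.C.inj _ _ 0 false ((F.C.sq x e).symm.trans ((hEsq he).trans F.C.j_one.symm))).2
  have Wb : ∀ x y, W x → W y → bb β x y = false := by
    rintro x y ⟨e, he⟩ ⟨f, hf⟩
    exact (F.C.comm_iff x y e f).1 (hEcomm he hf)
  have stab_lift : ∀ h ∈ F.M.stab d.v, ∃ c ∈ Cz z, aut z π c = MulAut.conj h ∧ c * a * c⁻¹ = a := by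
    intro h hh
    obtain ⟨c, hc, hi, hca⟩ := F.fix_lift H hv0 hh b
    exact ⟨c, hc, hi, by rw [← hja]; exact hca⟩
  have conjE : ∀ {c e : G}, c ∈ Cz z → c * a * c⁻¹ = a → e ∈ E → c * e * c⁻¹ ∈ E := fun hc hca he =>
    ⟨H.conjQ hc he.1, hconjQc hca he.2⟩
  have Winv : ∀ w, appW S w d.v = d.v → ∀ x, W x → W (app (linW S w) x) := by
    rintro w hw x ⟨e, he⟩
    obtain ⟨c, hc, hi, hca⟩ := stab_lift (evalW w) ((F.M.appW_L d.v w).symm.trans hw)
    obtain ⟨f, hf⟩ := F.inner_j H hc hi x e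
    rw [F.M.evalW_L] at hf
    exact ⟨f, hf ▸ conjE hc hca he⟩
  obtain ⟨T, hT, hTn, hTW⟩ := list_complete hW W0 Wv Wadd Wq Wb Winv
  -- the order of the intersection
  have hE : Nat.card E = T.length * 2 := by
    have hc : Nat.card ({x // x ∈ T.toFinset} × Bool) = T.length * 2 := by
      rw [Nat.card_prod, Nat.card_eq_finsetCard, List.toFinset_card_of_nodup hTn,
        Nat.card_eq_fintype_card, Fintype.card_bool]
    rw [← hc]
    symm
    have hmem' : ∀ p : {x // x ∈ T.toFinset} × Bool, F.C.j p.1.1 p.2 ∈ E := fun p => by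
      obtain ⟨e, he⟩ := (hTW p.1.1).2 (List.mem_toFinset.1 p.1.2)
      by_cases hp : p.2 = e
      · exact hp ▸ he
      · have : F.C.j p.1.1 p.2 = z * F.C.j p.1.1 e := by
          rw [F.C.z_mul]
          revert hp
          cases p.2 <;> cases e <;> simp
        exact this ▸ E.mul_mem hzE he
    refine Nat.card_congr (Equiv.ofBijective (fun p => (⟨_, hmem' p⟩ : E)) ⟨?_, ?_⟩)
    · rintro ⟨⟨x, hx⟩, e⟩ ⟨⟨y, hy⟩, f⟩ h
      obtain ⟨rfl, rfl⟩ := F.C.inj _ _ _ _ (congrArg Subtype.val h)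
      rfl
    · rintro ⟨e, he⟩
      obtain ⟨x, f, rfl⟩ := F.C.surj e he.1
      exact ⟨(⟨x, List.mem_toFinset.2 ((hTW x).1 ⟨f, he⟩)⟩, f), rfl⟩
  have hUsq : ∀ m ∈ U, m * m = 1 := by
    intro m hm
    obtain ⟨c, hc, e⟩ := mem_U.1 hm
    refine conj_inj ?_
    rw [map_mul, ← e, ← H.aut_mul (hB0C hc) (hB0C hc), map_one]
    rcases s'.sq_cases hc.1.1 with h | h <;> rw [h]
    exacts [H.aut_Q Q.one_mem, H.aut_Q hmem]
  have hUfix : ∀ m ∈ U, app (F.M.L m) d.v = d.v := by
    intro m hm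
    obtain ⟨c, hc, e⟩ := mem_U.1 hm
    obtain ⟨f, hf⟩ := F.inner_j H (hB0C hc) e d.v b
    have : c * a * c⁻¹ = a := mul_inv_eq_iff_eq_mul.2 (s'.z_comm hc.1.1)
    rw [hja, this, ← hja] at hf
    exact (F.C.inj _ _ _ _ hf).1.symm
  have hUle : U ≤ F.M.stab d.v := hUfix
  have hUconj : ∀ h ∈ F.M.stab d.v, ∀ m ∈ U, h * m * h⁻¹ ∈ U := by
    intro h hh m hm
    obtain ⟨c, hc, hi, hca⟩ := stab_lift h hh
    obtain ⟨x, hx, e⟩ := mem_U.1 hm
    refine mem_U.2 ⟨c * x * c⁻¹, ⟨⟨hconjQc hca hx.1.1,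
      (Cz z).mul_mem ((Cz z).mul_mem hc (hB0C hx)) ((Cz z).inv_mem hc)⟩, H.inn_conj hc hx.2⟩, ?_⟩
    rw [H.aut_conj hc (hB0C hx), hi, e, map_mul, map_mul, map_inv]
  have hUn : F.M.stab d.v ≤ Subgroup.normalizer (U : Set G4) := by
    intro h hh
    rw [Subgroup.mem_normalizer_iff]
    refine fun x => ⟨hUconj h hh x, fun hx => ?_⟩
    have := hUconj h⁻¹ (inv_mem hh) _ hx
    simpa [mul_assoc] using this
  have hU2 : IsPGroup 2 U := fun m => ⟨1, Subtype.ext (by
    show (m : G4) ^ 2 = 1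
    rw [pow_two]; exact hUsq m m.2)⟩
  have hin : ∀ m ∈ U, F.M.L m ∈ (plist S d.pg).filter (inU β d.v T) := by
    intro m hm
    refine List.mem_filter.2 ⟨F.M.two_le_list ho hgr hUle hU2 hUn hm, ?_⟩
    obtain ⟨c, hc, hcm⟩ := mem_U.1 hm
    have hcC := hB0C hc
    simp only [inU, Bool.and_eq_true, List.all_eq_true, decide_eq_true_eq, Bool.or_eq_true, beq_iff_eq,
      List.contains_iff_mem]
    refine ⟨⟨?_, ?_⟩, ?_⟩
    · rw [← F.M.mul, hUsq m hm, F.M.one]
    · intro w hw
      obtain ⟨e, he⟩ := (hTW w).2 hw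
      obtain ⟨f, hf⟩ := F.inner_j H hcC hcm w e
      rcases s'.comm_cases hc.1.1 he.2 with h | h
      · exact Or.inl (F.C.inj _ _ _ _ (hf.symm.trans h)).1
      · refine Or.inr ?_
        rw [← hja, F.C.mul] at h
        rw [(F.C.inj _ _ _ _ (hf.symm.trans h)).1, xr_comm]
    · intro x hx
      refine (hTW _).1 ?_
      have hcom : F.C.j x false * a = a * F.C.j x false := by
        rw [← hja]; exact (F.C.comm_iff x d.v false b).2 (testPts_perp hx)
      have hmQc : c * F.C.j x false * c⁻¹ * (F.C.j x false)⁻¹ ∈ Qc Q g := by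
        have h1 : F.C.j x false * c⁻¹ * (F.C.j x false)⁻¹ ∈ Qc Q g :=
          hconjQc (mul_inv_eq_iff_eq_mul.2 hcom) ((Qc Q g).inv_mem hc.1.1)
        have := (Qc Q g).mul_mem hc.1.1 h1
        rwa [← mul_assoc, ← mul_assoc] at this
      have hmQ : c * F.C.j x false * c⁻¹ * (F.C.j x false)⁻¹ ∈ Q :=
        Q.mul_mem (H.conjQ hcC (F.C.mem _ _)) (Q.inv_mem (F.C.mem _ _))
      obtain ⟨f, hf⟩ := F.inner_j H hcC hcm x false
      have hmem' : c * F.C.j x false * c⁻¹ * (F.C.j x false)⁻¹ ∈ E := ⟨hmQ, hmQc⟩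
      rw [hf, F.C.j_inv, F.C.mul] at hmem'
      exact ⟨_, hmem'⟩
  set Uc := (plist S d.pg).filter (inU β d.v T) with hUc
  have hUcard : Nat.card U ≤ Uc.length := by
    calc Nat.card U ≤ Nat.card {L // L ∈ Uc.toFinset} :=
          Nat.card_le_card_of_injective (fun m => ⟨F.M.L m, List.mem_toFinset.2 (hin m m.2)⟩)
            fun m n e => Subtype.ext (F.M.inj (congrArg Subtype.val e))
      _ = Uc.toFinset.card := Nat.card_eq_finsetCard _
      _ ≤ Uc.length := List.toFinset_card_le _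
  -- counting
  have hk : φh.ker = E.subgroupOf B0 := by
    ext x
    rw [MonoidHom.mem_ker, Subgroup.mem_subgroupOf, Subgroup.mem_inf]
    show φ x = 1 ↔ _
    rw [← conj_inj.eq_iff, map_one, ← hφ, H.aut_eq_one (hB0C x.2)]
    exact ⟨fun h => ⟨h, x.2.1.1⟩, fun h => h.1⟩
  have hB0card : Nat.card B0 = Nat.card U * (T.length * 2) := by
    have h := φh.ker.card_mul_index
    rw [Subgroup.index_ker, hk, Nat.card_congr (Subgroup.subgroupOfEquivOfLe
      (show E ≤ B0 from fun e he => hEB he)).toEquiv, hE] at h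
    rw [← h, mul_comm]
  have hhalf : 256 ≤ 2 * Nat.card B0 := by
    by_cases hall : Bp z Q g ≤ inn π
    · rw [hB0, inf_eq_left.2 hall, hB]; norm_num
    · obtain ⟨o, ho, ho'⟩ := Set.not_subset.1 hall
      have hidx : (B0.subgroupOf (Bp z Q g)).index = 2 := by
        rw [Subgroup.index_eq_two_iff]
        refine ⟨⟨o, ho⟩, fun c => ?_⟩
        simp only [Subgroup.mem_subgroupOf, Subgroup.mem_inf, hB0]
        have h := H.outer_mul c.2.2 ho.2
        have hcm : (c : G) * o ∈ Bp z Q g := (Bp z Q g).mul_mem c.2 ho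
        by_cases hci : (c : G) ∈ inn π
        · exact Or.inr ⟨⟨c.2, hci⟩, fun h' => ho' ((h.1 h'.2).1 hci)⟩
        · exact Or.inl ⟨⟨hcm, h.2 ⟨fun h' => absurd h' hci, fun h' => absurd h' ho'⟩⟩, fun h' => hci h'.2⟩
      have h := (B0.subgroupOf (Bp z Q g)).card_mul_index
      rw [hidx, Nat.card_congr (Subgroup.subgroupOfEquivOfLe (inf_le_left : B0 ≤ Bp z Q g)).toEquiv, hB] at h
      change Nat.card B0 * 2 = 256 at h
      omega
  simp only [okV, List.all_eq_true, Bool.or_eq_true, decide_eq_true_eq, List.any_eq_true, Bool.and_eq_true,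
    bne_iff_ne, beq_iff_eq] at hU
  obtain ⟨w, hw, hw0, hwv, hfixW⟩ : ∃ w, w ∈ T ∧ w ≠ 0 ∧ w ≠ d.v ∧
      ∀ c ∈ Bp z Q g, ∀ e, F.C.j w e ∈ E → ∃ f, c * F.C.j w e * c⁻¹ = F.C.j w f := by
    rcases hU T hT with (h | ⟨w, hw, ⟨⟨hw0, hwv⟩, hk⟩, hsw⟩) | ⟨⟨hfull, hbad⟩, w, hw, ⟨hw0, hwv⟩, hfix⟩
    · have : Nat.card U * T.length ≤ Uc.length * T.length := Nat.mul_le_mul_right _ hUcard
      nlinarith
    · refine ⟨w, hw, hw0, hwv, fun c hc e he => ?_⟩
      have hG : ∀ h : G4, app (F.M.L h) w = w ∧ app (F.M.L h) (app σ w) = app σ w := by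
        intro h
        have hh : h ∈ Subgroup.closure (Set.range gen) := by rw [gen_top]; exact Subgroup.mem_top h
        rw [← Subgroup.mem_toSubmonoid, Subgroup.closure_toSubmonoid_of_finite] at hh
        induction hh using Submonoid.closure_induction with
        | mem x hx => obtain ⟨k, rfl⟩ := hx; rw [F.M.gen_eq]; exact hk k (List.mem_finRange k)
        | one => rw [F.M.one, id_app, id_app]; exact ⟨rfl, rfl⟩
        | mul x y _ _ hx hy => rw [F.M.mul, app_comp, app_comp, hy.1, hx.1, hy.2, hx.2]; exact ⟨rfl, rfl⟩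
      by_cases hci : c ∈ inn π
      · obtain ⟨hcC, m, hm⟩ := H.mem_inn.1 hci
        obtain ⟨f, hf⟩ := F.inner_j H hcC hm w e
        exact ⟨f, by rw [hf, (hG m).1]⟩
      · have heni : F.e ∉ inn π := H.al_not_inn F.eAut
        have hci' : c * F.e⁻¹ ∈ inn π := (H.outer_mul hc.2 ((Cz z).inv_mem F.eC)).2
          ⟨fun h => absurd h hci, fun h => absurd (inv_mem_iff.1 h) heni⟩
        obtain ⟨hcC, m, hm⟩ := H.mem_inn.1 hci'
        have h1 := F.eAct w e
        obtain ⟨f, hf⟩ := F.inner_j H hcC hm (app σ w) (e ^^ (⟨σ, 0⟩ : PR).f β w)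
        rw [(hG m).2, ← h1, show c * F.e⁻¹ * (F.e * F.C.j w e * F.e⁻¹) * (c * F.e⁻¹)⁻¹ = c * F.C.j w e * c⁻¹ by group] at hf
        have hmemE : c * F.C.j w e * c⁻¹ ∈ E := ⟨H.conjQ hc.2 he.1, (Qc Q g).mul_mem ((Qc Q g).mul_mem hc.1 he.2) ((Qc Q g).inv_mem hc.1)⟩
        rw [hf] at hmemE
        have : app σ w ∈ T := (hTW _).1 ⟨f, hmemE⟩
        rw [hsw.resolve_right (fun h => by simp [this] at h)] at hf
        exact ⟨f, hf⟩
    · -- the group is everything
      have hall : ∀ L ∈ Uc, ∃ m ∈ U, F.M.L m = L := by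
        by_contra hno
        set bad := Uc.filter fun m => !(Uc.all (clU S d.sg m 4).contains) with hbadD
        have hsub : ∀ m ∈ U, F.M.L m ∈ bad := by
          intro m hm
          refine List.mem_filter.2 ⟨hin m hm, ?_⟩
          by_contra hb
          simp only [Bool.not_eq_true', Bool.not_eq_false, List.all_eq_true, List.contains_iff_mem] at hb
          have hsg : ∀ w ∈ d.sg, appW S w d.v = d.v := by
            have h := hW
            simp only [okW, Bool.and_eq_true, List.all_eq_true, beq_iff_eq] at h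
            exact h.1.1
          have key : ∀ n, ∀ L ∈ clU S d.sg (F.M.L m) n, ∃ m' ∈ U, F.M.L m' = L := by
            intro n
            induction n with
            | zero =>
              intro L hL
              simp only [clU, List.mem_cons, List.not_mem_nil, or_false] at hL
              rcases hL with rfl | rfl
              exacts [⟨1, U.one_mem, F.M.one⟩, ⟨m, hm, rfl⟩]
            | succ n ih =>
              intro L hL
              simp only [clU, List.mem_dedup, List.mem_append, List.mem_flatMap, List.mem_map] at hL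
              rcases hL with (hL | ⟨w, hw, A, hA, rfl⟩) | ⟨A, hA, B, hB', rfl⟩
              · exact ih L hL
              · obtain ⟨m', hm', rfl⟩ := ih A hA
                refine ⟨evalW w * m' * (evalW w)⁻¹, hUconj _ ((F.M.appW_L d.v w).symm.trans (hsg w hw)) _ hm', ?_⟩
                rw [← invW_eval, F.M.mul, F.M.mul, F.M.evalW_L, F.M.evalW_L, comp_assoc]
              · obtain ⟨m', hm', rfl⟩ := ih A hA
                obtain ⟨n', hn', rfl⟩ := ih B hB'
                exact ⟨m' * n', U.mul_mem hm' hn', F.M.mul _ _⟩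
          exact hno fun L hL => key 4 L (hb L hL)
        have h1 : Nat.card U ≤ bad.length := by
          calc Nat.card U ≤ Nat.card {L // L ∈ bad.toFinset} :=
                Nat.card_le_card_of_injective (fun m => ⟨F.M.L m, List.mem_toFinset.2 (hsub m m.2)⟩)
                  fun m n e => Subtype.ext (F.M.inj (congrArg Subtype.val e))
            _ = bad.toFinset.card := Nat.card_eq_finsetCard _
            _ ≤ bad.length := List.toFinset_card_le _
        have : Nat.card U * T.length ≤ bad.length * T.length := Nat.mul_le_mul_right _ h1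
        nlinarith
      have hnd : Uc.Nodup := by
        have := hgr
        simp only [okGrp, Bool.and_eq_true, decide_eq_true_eq] at this
        exact this.1.1.filter _
      have hge : Uc.length ≤ Nat.card U := by
        rw [← List.toFinset_card_of_nodup hnd, ← Nat.card_eq_finsetCard]
        choose f hf hfL using fun L : {L // L ∈ Uc.toFinset} => hall L.1 (List.mem_toFinset.1 L.2)
        exact Nat.card_le_card_of_injective (fun L => (⟨f L, hf L⟩ : U)) fun L L' e => Subtype.ext (by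
          rw [← hfL L, ← hfL L', show f L = f L' from congrArg Subtype.val e])
      have hBall : B0 = Bp z Q g := Subgroup.eq_of_le_of_card_ge inf_le_left (by
        rw [hB, hB0card]; nlinarith)
      refine ⟨w, hw, hw0, hwv, fun c hc e he => ?_⟩
      have hc0 : c ∈ B0 := hBall.symm ▸ hc
      obtain ⟨m, hm⟩ := (H.mem_inn.1 hc0.2).2
      obtain ⟨f, hf⟩ := F.inner_j H hc.2 hm w e
      exact ⟨f, by rw [hf, hfix _ (hin m (mem_U.2 ⟨c, hc0, hm⟩))]⟩
  obtain ⟨e, he⟩ := (hTW w).2 hw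
  have hfixB : ∀ c ∈ Bp z Q g, c * F.C.j w e * c⁻¹ = F.C.j w e := by
    intro c hc
    obtain ⟨f, hf⟩ := hfixW c hc e he
    rcases s'.comm_cases hc.1 he.2 with h | h
    · exact h
    · rw [hf, ← hja, F.C.mul] at h
      have h2 := (F.C.inj _ _ _ _ h).1
      exact absurd (xr_eq_zero.1 (show xr d.v 0 = 0 by
        rw [← xr_self w]
        conv_rhs => lhs; rw [h2]
        rw [xr_assoc, xr_self])) hv0
  have d' : Symm.Zdata (Qc Q g) a :=
    Symm.zdata_of s'.ex s'.z_mem s'.ne_one (fun _ hq => (s'.z_comm hq).symm)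
  have hx := Symm.double_centralizer d' (fun q hq => s'.z_comm hq) [z]
    (fun c hc => by rw [List.mem_singleton.1 hc]; exact hzc) _ he.2
    (fun q hq hq2 => hfixB q ⟨hq, mem_Cz.2 (mul_inv_eq_iff_eq_mul.1 (hq2 z (List.mem_singleton.2 rfl)))⟩)
  have hle : ∀ y ∈ Subgroup.closure (insert a {c | c ∈ [z]}), ∃ x f, F.C.j x f = y ∧ (x = 0 ∨ x = d.v) := by
    intro y hy
    induction hy using Subgroup.closure_induction with
    | mem y hy =>
      rcases hy with rfl | hy
      · exact ⟨_, _, hja, Or.inr rfl⟩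
      · rw [Set.mem_ofPred_eq, List.mem_singleton] at hy
        rw [hy]; exact ⟨0, true, F.C.j_z, Or.inl rfl⟩
    | one => exact ⟨0, false, F.C.j_one, Or.inl rfl⟩
    | mul p q _ _ hp hq =>
      obtain ⟨x, f, rfl, hx'⟩ := hp
      obtain ⟨x2, f2, rfl, hx2⟩ := hq
      refine ⟨_, _, (F.C.mul x f x2 f2).symm, ?_⟩
      rcases hx' with rfl | rfl <;> rcases hx2 with rfl | rfl <;> simp [xr_self, xr_zero, zero_xr]
    | inv p _ hp =>
      obtain ⟨x, f, rfl, hx'⟩ := hp
      exact ⟨x, _, (F.C.j_inv x f).symm, hx'⟩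
  obtain ⟨x, f, hxe, hx'⟩ := hle _ hx
  obtain rfl := (F.C.inj _ _ _ _ hxe).1
  exact hx'.elim hw0 hwv

/-- `z` is the only one of its conjugates in `Q`. -/
theorem weakly_closed (hK : Kind β S σ) (g : G) (hmem : g * z * g⁻¹ ∈ Q) : g * z * g⁻¹ = z := by
  by_contra hne
  obtain ⟨x, e, hx⟩ := F.C.surj _ hmem
  have hx0 : x ≠ 0 := by
    rintro rfl
    rcases F.C.eq_one_or_z e with h | h
    · exact (H.st.conj g).ne_one (hx.symm.trans h)
    · exact hne (hx.symm.trans h)
  have hq : qq β x = false := by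
    have h := (F.C.sq x e).symm.trans (by rw [hx]; exact (H.st.conj g).zz : F.C.j x e * F.C.j x e = 1)
    exact (F.C.inj _ _ 0 false (h.trans F.C.j_one.symm)).2
  obtain ⟨ds, ho, hgr, hW, hU, hcov⟩ := weak_data2 hK
  simp only [okCover, List.all_eq_true, Bool.or_eq_true, beq_iff_eq, List.any_eq_true,
    List.contains_iff_mem] at hcov
  rcases hcov x (List.mem_finRange x) with (h | h) | ⟨d, hd, hxd⟩
  · exact hx0 h
  · rw [hq] at h; exact Bool.noConfusion h
  rw [List.all_eq_true] at ho hgr hW hU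
  obtain ⟨⟨y, w⟩, hp, rfl⟩ := List.mem_map.1 hxd
  have hwy : app (F.M.L (evalW w)) d.v = y := by
    have h := ho d hd
    simp only [okOrb, Bool.and_eq_true, List.all_eq_true, beq_iff_eq] at h
    exact (F.M.appW_L d.v w).symm.trans (h.1.1.1.1.1.2 _ hp)
  obtain ⟨c, hc, hi⟩ := H.lift (MulAut.conj (evalW w)⁻¹)
  obtain ⟨f, hf⟩ := F.inner_j H hc hi y e
  rw [← hwy, F.M.app_inv, hwy, hx] at hf
  have e1 : c * g * z * (c * g)⁻¹ = c * (g * z * g⁻¹) * c⁻¹ := by group
  refine weak_rep F H (ho d hd) (hgr d hd) (hW d hd) (hU d hd) (g := c * g) (e1.trans hf).symm ?_ ?_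
  · rw [e1]; exact H.conjQ hc hmem
  · rw [e1]
    intro h
    apply hne
    calc g * z * g⁻¹ = c⁻¹ * (c * (g * z * g⁻¹) * c⁻¹) * c := by group
      _ = c⁻¹ * (z * c) := by rw [h]; group
      _ = z := by rw [← mem_Cz.1 hc]; group

end Fr

end CfsgLib.USixTwo
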